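/-
`PSp₄(3)` on `2^8`, the unitary case: every anisotropic point carries a reflection of `L`.
-/
import Cfsg.Agent.H4.Mod43

set_option autoImplicit false
set_option linter.unusedSimpArgs false
set_option linter.unusedSectionVars false

namespace Cfsg.Agent.H96.Par

open H4.GF H4.GF.M43 H4.GF.M43.QVx

variable {Γ : Type*} {V : Type*} [Group Γ] [AddCommGroup V] [Module (ZMod 2) V]
  [DistribMulAction Γ V]

/-- `t` is the unitary reflection with axis `e` -/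
def Rf (X : QV Γ V) (J : V →+ V) (e : V) (t : Γ) : Prop :=
  t • e = e ∧ t • J e = J e ∧ ∀ x, X.B x e = 0 → X.B x (J e) = 0 → t • x = J x

/-- the unitary case with all reflections -/
structure CF (X : QV Γ V) (L : Subgroup Γ) (J : V →+ V) : Prop extends CB X L J where
  full : ∀ e, X.f e = 1 → ∃ t ∈ L, Rf X J e t
  nofix : ∀ v : V, (∀ l ∈ L, l • v = v) → v = 0

variable {L : Subgroup Γ} {τ : W → Γ}

section B

variable (T : TD L τ) (X : QV Γ V) (hc : Nat.card V = 256)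
  (hB : ∀ u v, Ind u v → Om (ac V (τ v)) (Fx V (τ u)))
include T X hc hB

theorem caseB' [hL : L.Normal] :
    ∃ J, CB X L J ∧ ∀ i, ∀ x ∈ Im V (τ (fr i)), J x = τ (fr i) • x := by
  obtain ⟨J, C⟩ := T.caseB X hc hB
  have : Finite V := Nat.finite_of_card_ne_zero (by omega)
  have f4 : ∀ j, Nat.card (Fx V (τ (fr j))) = 4 := fun j => T.fx X hc (fr_ne j)
  have pJ : ∀ v, ∀ x ∈ Fx V (τ v), J x ∈ Fx V (τ v) := fun v x hx =>
    mem_Fx.2 (by rw [← C.comm _ (T.mem v), mem_Fx.1 hx])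
  have tr : ∀ β : V →+ V, (∀ l ∈ L, ∀ x, β (l • x) = l • β x) →
      (∀ x ∈ Fx V (τ (fr 0)), τ (fr 1) • x = β x) →
      ∀ i, ∀ x ∈ Im V (τ (fr i)), β x = τ (fr i) • x := fun β hβ h i =>
    T.im_le X hc hB i (K := β.eqLocus (ac V (τ (fr i)))) fun j hj x hx => by
      obtain ⟨l, hl, e⟩ := T.tr2 _ _ _ _ (fr_ind j i hj) (fr_ind 0 1 (by decide))
      have l1 := e 1 0
      have l2 := e 0 1
      simp only [one_smul, zero_smul, add_zero, zero_add] at l1 l2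
      have := h _ (Fx_conj l1 hx)
      rw [hβ l hl, ← l2, mul_smul, mul_smul, inv_smul_smul] at this
      exact (MulAction.injective l this).symm
  rcases two_om (α := J) (β := ac V (τ (fr 1))) (f4 0) (pJ _) (fun _ => T.pres 0 1) (C.om' _)
    (hB _ _ (fr_ind 0 1 (by decide))) with h | h
  · exact ⟨J, C, tr J C.comm h⟩
  · have c : ∀ l ∈ L, ∀ x, (J.comp J) (l • x) = l • (J.comp J) x := fun l hl x => by
      simp [C.comm l hl]
    have o : ∀ x, J (J (J x)) = x := fun x => by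
      rw [C.om (J x), C.om x, add_comm x, aa']
    refine ⟨J.comp J, ⟨fun x => ?_, fun x => ?_, c, fun s => ?_⟩, tr _ c h⟩
    · simp only [AddMonoidHom.comp_apply]
      rw [o, C.om x, aa']
    · simp only [AddMonoidHom.comp_apply, C.f]
    · rcases C.conj s with h | h
      · exact .inl fun x => by simp only [AddMonoidHom.comp_apply, h]
      · exact .inr fun x => by simp only [AddMonoidHom.comp_apply, h]

theorem caseF [hL : L.Normal] : ∃ J, CF X L J := by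
  obtain ⟨J, C, hJ⟩ := caseB' T X hc hB
  have : Finite V := Nat.finite_of_card_ne_zero (by omega)
  have pJ : ∀ v, ∀ x ∈ Fx V (τ v), J x ∈ Fx V (τ v) := fun v x hx =>
    mem_Fx.2 (by rw [← C.comm _ (T.mem v), mem_Fx.1 hx])
  have epl : ∀ v, v ≠ 0 → ∀ x ∈ Fx V (τ v), x ≠ 0 → Fx V (τ v) = pl x (J x) := fun v hv x hx x0 =>
    eq_pl (T.fx X hc hv) hx (pJ v x hx) x0 (C.ne x0).1 (C.ne x0).2
  have hI : ∀ v, v ≠ 0 → ∀ x ∈ Im V (τ v), τ v • x = J x := fun v hv x hx => by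
    obtain ⟨l, hl, e⟩ := T.tr1 v (fr 0) hv (fr_ne 0)
    obtain ⟨u, rfl⟩ := mem_Im.1 hx
    have := hJ 0 (l • (τ v • u + u)) (mem_Im.2 ⟨l • u, by
      rw [← e, mul_smul, mul_smul, inv_smul_smul, smul_add]⟩)
    rw [C.comm l hl, ← e, mul_smul, mul_smul, inv_smul_smul] at this
    exact (MulAction.injective l this).symm
  have pp : ∀ v, ∀ y ∈ Fx V (τ v), ∀ z ∈ Im V (τ v), X.B y z = 0 := fun v y hy z hz => by
    rw [← X.perp_Fx] at hz; exact hz y hy
  have f1 : ∀ v, v ≠ 0 → ∀ x ∈ Fx V (τ v), x ≠ 0 → X.f x = 1 := fun v hv x hx x0 => by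
    refine (z2c _).resolve_left fun h => x0 (fx_im (T.cube v) hx ?_)
    rw [← X.perp_Fx, epl v hv x hx x0]
    refine pl_le (K := hyp X x) (X.B_self x) ?_
    rw [mem_hyp, X.B_comm, B_om X C.f (C.om x), h]
  let Good : V → Prop := fun e => ∃ t ∈ L, Rf X J e t
  have g1 : ∀ v, v ≠ 0 → ∀ x ∈ Fx V (τ v), x ≠ 0 → Good x := fun v hv x hx x0 =>
    ⟨τ v, T.mem v, mem_Fx.1 hx, mem_Fx.1 (pJ v x hx), fun y h1 h2 => hI v hv y (by
      rw [← X.perp_Fx, epl v hv x hx x0]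
      exact pl_le (K := hyp X y) ((X.B_comm x y).trans h1) ((X.B_comm (J x) y).trans h2))⟩
  have g2 : ∀ l ∈ L, ∀ x, Good x → Good (l • x) := by
    rintro l hl x ⟨t, ht, h1, h2, h3⟩
    refine ⟨l * t * l⁻¹, L.mul_mem (L.mul_mem hl ht) (L.inv_mem hl), ?_, ?_, fun y k1 k2 => ?_⟩
    · rw [mul_smul, mul_smul, inv_smul_smul, h1]
    · rw [C.comm l hl, mul_smul, mul_smul, inv_smul_smul, h2]
    · rw [mul_smul, mul_smul, h3, C.comm _ (L.inv_mem hl), smul_inv_smul]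
      · rw [X.B_inv, inv_inv, k1]
      · rw [X.B_inv, inv_inv, ← C.comm l hl, k2]
  have g3 : ∀ x, Good x → Good (J x) := by
    rintro x ⟨t, ht, h1, h2, h3⟩
    refine ⟨t, ht, h2, by rw [C.om, smul_add, h1, h2], fun y k1 k2 => h3 y ?_ k1⟩
    rwa [C.om, map_add, k1, add_zero] at k2
  have mv : ∀ a, ∀ x ∈ Fx V (τ (fr a)), ∀ r ∈ Im V (τ (fr a)), Good (x + r) → ∀ y ∈ Fx V (τ (fr a)),
      x ≠ 0 → y ≠ 0 → Good (y + r) := fun a x hx r hr h y hy x0 y0 => by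
    have k : ∀ x ∈ Fx V (τ (fr a)), Good (x + r) → Good (J x + r) := fun x hx h => by
      have := g3 _ (g2 _ (T.mem (fr a)) _ (g2 _ (T.mem (fr a)) _ h))
      rwa [smul_add, smul_add, mem_Fx.1 hx, mem_Fx.1 hx, map_add, ← hI _ (fr_ne a) _
        (Im_comm rfl (Im_comm rfl hr)), cube (T.cube _)] at this
    rw [epl _ (fr_ne a) x hx x0, mem_pl] at hy
    rcases hy with e | e | e | e
    · exact absurd e y0
    · rwa [e]
    · exact e ▸ k x hx h
    · rw [e, ← C.om]; exact k _ (pJ _ x hx) (k x hx h)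
  have le : ∀ j k, j ≠ k → Fx V (τ (fr j)) ≤ Im V (τ (fr k)) := fun j k e x hx =>
    (mem_Im3 (T.cube _)).2 (hB _ _ (fr_ind j k e) x hx)
  have nf : ∀ x : V, (∀ l ∈ L, l • x = x) → x = 0 := fun x h =>
    fx_im (T.cube _) (mem_Fx.2 (h _ (T.mem (fr 1)))) (le 0 1 (by decide) (mem_Fx.2 (h _ (T.mem _))))
  obtain ⟨v, hv, nv⟩ : ∃ v, v ≠ 0 ∧ ∀ j, Fx V (τ v) ≠ Fx V (τ (fr j)) := by
    by_contra hno
    push Not at hno
    have c := T.gen (Subgroup.centralizer {τ (fr 0)}) fun v hv => by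
      obtain ⟨j, e⟩ := hno v hv
      have : τ v = τ (fr j) := by
        rw [← mul_inv_eq_one]
        refine X.faith _ fun x => ?_
        obtain ⟨y, hy, z, hz, e'⟩ := dec (T.cube v) ((τ (fr j))⁻¹ • x)
        have hy' : τ (fr j) • y = y := mem_Fx.1 (e ▸ hy)
        rw [mul_smul, e', smul_add, mem_Fx.1 hy, hI v hv z hz, ← hI _ (fr_ne j) z (by
          rwa [← X.perp_Fx, ← e, X.perp_Fx])]
        nth_rewrite 1 [← hy']
        rw [← smul_add, ← e', smul_inv_smul]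
      rw [this, Subgroup.mem_centralizer_singleton_iff]
      by_cases h : j = 0
      · rw [h]
      · exact T.comm _ _ (fr_ind j 0 h).perp
    obtain ⟨l, hl, e⟩ := T.tr1 (fr 0) (fr 1) (fr_ne 0) (fr_ne 1)
    rw [Subgroup.mem_centralizer_singleton_iff.1 (c hl), mul_inv_cancel_right] at e
    obtain ⟨x, hx, x0⟩ := exists_ne_zero (K := Fx V (τ (fr 0))) (by rw [T.fx X hc (fr_ne 0)]; omega)
    exact x0 (fx_im (T.cube _) (e ▸ hx) (le 0 1 (by decide) hx))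
  obtain ⟨i, hi⟩ := exists_fr v
  have iv : Ind v (fr i) := ⟨hv, fr_ne i, fun e => nv i (by rw [e]), fun e => nv i (by rw [e, T.neg]), hi⟩
  obtain ⟨a, b, c, ha, hb, hd, ab, ac', bc, hall⟩ : ∃ a b c : Fin 4, a ≠ i ∧ b ≠ i ∧ c ≠ i ∧ a ≠ b ∧
      a ≠ c ∧ b ≠ c ∧ ∀ j, j ≠ i → j = a ∨ j = b ∨ j = c := by clear hi iv; revert i; decide
  have dc : ∀ x ∈ Im V (τ (fr i)), ∃ p ∈ Fx V (τ (fr a)), ∃ q ∈ Fx V (τ (fr b)),
      ∃ r ∈ Fx V (τ (fr c)), x = p + q + r ∧ X.f x = X.f p + X.f q + X.f r := fun x hx => by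
    have := T.im_le X hc hB i (K := Fx V (τ (fr a)) ⊔ Fx V (τ (fr b)) ⊔ Fx V (τ (fr c)))
      (fun j hj => by
        rcases hall j hj with rfl | rfl | rfl
        exacts [le_sup_of_le_left le_sup_left, le_sup_of_le_left le_sup_right, le_sup_right]) hx
    obtain ⟨y, hy, r, hr, rfl⟩ := AddSubgroup.mem_sup.1 this
    obtain ⟨p, hp, q, hq, rfl⟩ := AddSubgroup.mem_sup.1 hy
    refine ⟨p, hp, q, hq, r, hr, rfl, ?_⟩
    rw [X.f_add, X.f_add, B_add, pp _ p hp q (le b a ab.symm hq), pp _ p hp r (le c a ac'.symm hr),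
      pp _ q hq r (le c b bc.symm hr)]
    simp
  have wt : ∀ x ∈ Im V (τ (fr i)), X.f x = 1 → (∃ j, x ∈ Fx V (τ (fr j))) ∨ ∃ p ∈ Fx V (τ (fr a)),
      ∃ q ∈ Fx V (τ (fr b)), ∃ r ∈ Fx V (τ (fr c)), x = p + q + r ∧ p ≠ 0 ∧ q ≠ 0 ∧ r ≠ 0 := by
    intro x hx fx
    obtain ⟨p, hp, q, hq, r, hr, rfl, e⟩ := dc x hx
    rw [fx] at e
    by_cases p0 : p = 0 <;> by_cases q0 : q = 0 <;> by_cases r0 : r = 0
    · exact .inl ⟨a, by simp [p0, q0, r0]⟩
    · exact .inl ⟨c, by simpa [p0, q0]⟩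
    · exact .inl ⟨b, by simpa [p0, r0]⟩
    · rw [p0, X.f_zero, f1 _ (fr_ne _) q hq q0, f1 _ (fr_ne _) r hr r0] at e; exact absurd e (by decide)
    · exact .inl ⟨a, by simpa [q0, r0]⟩
    · rw [q0, X.f_zero, f1 _ (fr_ne _) p hp p0, f1 _ (fr_ne _) r hr r0] at e; exact absurd e (by decide)
    · rw [r0, X.f_zero, f1 _ (fr_ne _) q hq q0, f1 _ (fr_ne _) p hp p0] at e; exact absurd e (by decide)
    · exact .inr ⟨p, hp, q, hq, r, hr, rfl, p0, q0, r0⟩
  have n0 : ∀ x, X.f x = 1 → x ≠ 0 := fun x h e => by rw [e, X.f_zero] at h; exact zero_ne_one h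
  have star : ∀ x ∈ Im V (τ (fr i)), X.f x = 1 → Good x := fun x hx fx => by
    obtain ⟨g, hg, g0⟩ := exists_ne_zero (K := Fx V (τ v)) (by rw [T.fx X hc hv]; omega)
    have gg := g1 v hv g hg g0
    rcases wt g ((mem_Im3 (T.cube _)).2 (hB _ _ iv g hg)) (f1 v hv g hg g0) with
      ⟨j, h⟩ | ⟨p, hp, q, hq, r, hr, rfl, p0, q0, r0⟩
    · exact absurd ((epl v hv g hg g0).trans (epl _ (fr_ne j) g h g0).symm) (nv j)
    rcases wt x hx fx with ⟨j, h⟩ | ⟨p', hp', q', hq', r', hr', rfl, p0', q0', r0'⟩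
    · exact g1 _ (fr_ne j) x h (n0 x fx)
    rw [add_assoc] at gg
    have s1 := mv a p hp _ (add_mem (le b a ab.symm hq) (le c a ac'.symm hr)) gg p' hp' p0 p0'
    rw [add_left_comm] at s1
    have s2 := mv b q hq _ (add_mem (le a b ab hp') (le c b bc.symm hr)) s1 q' hq' q0 q0'
    rw [← add_assoc, add_comm] at s2
    have s3 := mv c r hr _ (add_mem (le b c bc hq') (le a c ac' hp')) s2 r' hr' r0 r0'
    rwa [add_comm, add_comm q'] at s3
  have star' : ∀ j, ∀ x ∈ Im V (τ (fr j)), X.f x = 1 → Good x := fun j x hx fx => by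
    obtain ⟨l, hl, e⟩ := T.tr1 (fr j) (fr i) (fr_ne j) (fr_ne i)
    obtain ⟨u, rfl⟩ := mem_Im.1 hx
    have := g2 _ (L.inv_mem hl) _ (star (l • (τ (fr j) • u + u)) (mem_Im.2 ⟨l • u, by
      rw [← e, mul_smul, mul_smul, inv_smul_smul, smul_add]⟩) (by rw [X.f_smul, fx]))
    rwa [inv_smul_smul] at this
  refine ⟨J, C, fun e fe => ?_, nf⟩
  obtain ⟨y, hy, z, hz, rfl⟩ := dec (T.cube (fr i)) e
  by_cases y0 : y = 0
  · rw [y0, zero_add] at fe ⊢; exact star z hz fe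
  obtain ⟨p, hp, q, hq, r, hr, rfl, e⟩ := dc z hz
  rw [X.f_add, pp _ y hy _ hz, f1 _ (fr_ne i) y hy y0, e] at fe
  by_cases p0 : p = 0
  · refine star' a _ ?_ (by rw [X.f_add, pp _ y hy _ hz, f1 _ (fr_ne i) y hy y0, e, fe])
    rw [p0, zero_add]
    exact add_mem (le i a ha.symm hy) (add_mem (le b a ab.symm hq) (le c a ac'.symm hr))
  by_cases q0 : q = 0
  · refine star' b _ ?_ (by rw [X.f_add, pp _ y hy _ hz, f1 _ (fr_ne i) y hy y0, e, fe])
    rw [q0, add_zero]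
    exact add_mem (le i b hb.symm hy) (add_mem (le a b ab hp) (le c b bc.symm hr))
  by_cases r0 : r = 0
  · refine star' c _ ?_ (by rw [X.f_add, pp _ y hy _ hz, f1 _ (fr_ne i) y hy y0, e, fe])
    rw [r0, add_zero]
    exact add_mem (le i c hd.symm hy) (add_mem (le a c ac' hp) (le b c bc hq))
  rw [f1 _ (fr_ne _) p hp p0, f1 _ (fr_ne _) q hq q0, f1 _ (fr_ne _) r hr r0] at fe
  exact absurd fe (by decide)

end B

theorem dichF (T : TD L τ) (X : QV Γ V) (hc : Nat.card V = 256) [L.Normal] :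
    (∃ U : AddSubgroup V, CA τ U) ∨ ∃ J, CF X L J := by
  have : Finite V := Nat.finite_of_card_ne_zero (by omega)
  by_cases h : ∃ u v, Ind u v ∧ ∀ x ∈ Fx V (τ u), τ v • x = x
  · obtain ⟨u, v, h, e⟩ := h
    exact .inl ⟨_, T.caseA X hc h e⟩
  refine .inr (caseF T X hc fun u v i => ?_)
  exact (tri (α := ac V (τ v)) (T.fx X hc i.u0) (fun _ => Fx_comm (T.comm _ _ i.perp))
    (M43.cube (T.cube v))).resolve_left fun e => h ⟨u, v, i, e⟩

end Cfsg.Agent.H96.Par
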