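/-
Involutions on the natural unitary module `2^8` of `PSp₄(3) = SU₄(2)`.
-/
import Cfsg.Agent.H96.PaA

set_option autoImplicit false
set_option linter.unusedSimpArgs false
set_option linter.unusedSectionVars false

namespace Cfsg.Agent.H96.Par

open H4.GF H4.GF.M43 H4.GF.M43.QVx

variable {Γ : Type*} {V : Type*} [Group Γ] [AddCommGroup V] [Module (ZMod 2) V]
  [DistribMulAction Γ V] [Finite V] {L : Subgroup Γ} {X : QV Γ V} {J : V →+ V}

theorem hyp_triv (X : QV Γ V) {g : Γ} {v : V} (hv : X.f v = 0)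
    (h : ∀ x, X.B x v = 0 → g • x = x) : g = 1 := X.faith _ fun q => by
  rcases z2c (X.B q v) with e | e
  · exact h q e
  rcases eq_of_perp X (a := v) (g := g • q + q) (fun x hx => by
    rw [X.B_comm]; exact X.adj0 q (h x hx)) with k | k
  · exact add_eq_zero2.1 k
  · have := X.f_cm g q
    rw [k, hv, X.B_comm, e] at this
    exact absurd this (by decide)

theorem inv_fx {s : Γ} (hs : s * s = 1) (x : V) : s • (s • x + x) = s • x + x := by
  rw [smul_add, ← mul_smul, hs, one_smul, add_comm]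

theorem im_le_fx {s : Γ} (hs : s * s = 1) : Im V s ≤ Fx V s := by
  rintro _ ⟨x, rfl⟩
  exact mem_Fx.2 (inv_fx hs x)

theorem fx16 (hc : Nat.card V = 256) {s : Γ} (hs : s * s = 1) : 16 ≤ Nat.card (Fx V s) := by
  have := card_Fx_Im' (V := V) s
  have := AddSubgroup.card_le_of_le (im_le_fx (V := V) hs)
  nlinarith

theorem sieg_eq (X : QV Γ V) {A : AddSubgroup V} (hs : ∀ a ∈ A, X.f a = 0) (hA : Nat.card A ≤ 4)
    {g h : Γ} (g1 : g ≠ 1) (h1 : h ≠ 1) (hg : ∀ v, g • v + v ∈ A) (hh : ∀ v, h • v + v ∈ A) :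
    g = h := by
  have := fin X
  let K : Subgroup Γ :=
    { carrier := {k | ∀ v, k • v + v ∈ A}
      one_mem' := fun v => by simp [aa]
      mul_mem' := fun {a b} ha hb v => by
        have := A.add_mem (ha (b • v)) (hb v)
        rwa [add_assoc, aa', ← mul_smul] at this
      inv_mem' := fun {a} ha v => by
        have := ha (a⁻¹ • v)
        rwa [smul_inv_smul, add_comm] at this }
  have c := siegel4 X hs (K := K) (fun k hk => hk) hA
  by_contra n
  have : ({1, g, h} : Set Γ).ncard ≤ 2 := (Set.ncard_le_ncard (t := (K : Set Γ)) (by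
    rintro _ (rfl | rfl | rfl)
    exacts [K.one_mem, hg, hh])).trans c
  rw [Set.ncard_insert_of_notMem (by simp [g1.symm, h1.symm]), Set.ncard_pair n] at this
  omega

/-- `J`-linear elements -/
def Lin (J : V →+ V) (s : Γ) : Prop := ∀ x, J (s • x) = s • J x

theorem Lin.fx {s : Γ} (h : Lin J s) : ∀ x ∈ Fx V s, J x ∈ Fx V s := fun x hx =>
  mem_Fx.2 (by rw [← h, mem_Fx.1 hx])

namespace CF

variable (C : CF X L J)
include C

theorem semi {σ : Γ} (h : ¬ Lin J σ) {F K : AddSubgroup V} (hF : F ≤ K) (hK : ∀ x ∈ K, J x ∈ K)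
    (hσ : F ≤ Fx V σ) : Nat.card F * Nat.card F ≤ Nat.card K := by
  have k := (C.conj σ).resolve_left h
  have inj : Function.Injective J := (injective_iff_map_eq_zero J).2 fun x e => by
    by_contra n; exact (C.toCB.ne n).1 e
  have := card_mul_le_add (A := F) (B := F.map J) hF (by rintro _ ⟨x, hx, rfl⟩; exact hK x (hF hx))
  rwa [AddSubgroup.card_map_of_injective inj, (AddSubgroup.eq_bot_iff_forall (F ⊓ F.map J)).2 (by
    rintro _ ⟨h1, x, hx, rfl⟩
    have := k x
    rw [C.om, smul_add, mem_Fx.1 (hσ hx), mem_Fx.1 (hσ h1), eq_comm, add_eq_right] at this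
    rw [this, map_zero]), AddSubgroup.card_bot, one_mul] at this

theorem lin_mul {s t : Γ} (hs : ¬ Lin J s) (ht : ¬ Lin J t) : Lin J (s * t) := fun x => by
  have o : ∀ x, J (J (J x)) = x := fun x => by rw [C.om (J x), C.om x, add_comm x, aa']
  rw [mul_smul, (C.conj s).resolve_left hs, (C.conj t).resolve_left ht,
    (C.conj t).resolve_left ht, o, mul_smul]

theorem eq_of_two {F K : AddSubgroup V} (h : F ≤ K) (hF : ∀ x ∈ F, J x ∈ F)
    (hK : ∀ x ∈ K, J x ∈ K) (c : Nat.card K ≤ 2 * Nat.card F) : F = K := by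
  refine le_antisymm h fun g hg => by_contra fun n => ?_
  have := AddSubgroup.card_le_of_le (ex_le (ex_le h hg) (hK g hg))
  rw [card_ex2 (C.toCB.om' K) hF hg n] at this
  have : 0 < Nat.card F := Nat.card_pos
  omega

theorem four (hc : Nat.card V = 256) {s t : Γ} (hs : s * s = 1) (ht : t * t = 1)
    (c : s * t = t * s) {A : AddSubgroup V} (h1 : A ≤ Fx V s) (h2 : A ≤ Fx V t)
    (h : ∀ g, g = s ∨ g = t ∨ g = s * t → Lin J g → Nat.card (Fx V g) ≤ 2 * Nat.card A) :
    Lin J s ∧ Lin J t ∧ Fx V t = Fx V s ∧ Fx V (s * t) = Fx V s := by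
  have h3 : A ≤ Fx V (s * t) := fun x hx => mem_Fx.2 (by
    rw [mul_smul, mem_Fx.1 (h2 hx), mem_Fx.1 (h1 hx)])
  have hst : s * t * (s * t) = 1 := by
    rw [mul_assoc, ← mul_assoc t, ← c, mul_assoc, ht, mul_one, hs]
  have key : ∀ g σ : Γ, g * g = 1 → Lin J g → A ≤ Fx V g → A ≤ Fx V σ →
      Nat.card (Fx V g) ≤ 2 * Nat.card A → Lin J σ := fun g σ hg l a1 a2 k => by
    by_contra n
    have := C.semi n a1 l.fx a2
    have := fx16 hc hg
    nlinarith
  have ll : Lin J s ∧ Lin J t := by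
    by_cases a : Lin J s
    · exact ⟨a, key s t hs a h1 h2 (h s (.inl rfl) a)⟩
    by_cases b : Lin J t
    · exact ⟨key t s ht b h2 h1 (h t (.inr (.inl rfl)) b), b⟩
    have l := C.lin_mul a b
    exact absurd (key _ s hst l h3 h1 (h _ (.inr (.inr rfl)) l)) a
  have l3 : Lin J (s * t) := fun x => by rw [mul_smul, ll.1, ll.2, mul_smul]
  have hF : ∀ x ∈ Fx V s ⊓ Fx V t, J x ∈ Fx V s ⊓ Fx V t := fun x hx =>
    ⟨ll.1.fx x hx.1, ll.2.fx x hx.2⟩
  have cA := AddSubgroup.card_le_of_le (le_inf h1 h2)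
  have e1 := C.eq_of_two inf_le_left hF ll.1.fx ((h s (.inl rfl) ll.1).trans (by omega))
  have e2 := C.eq_of_two inf_le_right hF ll.2.fx ((h t (.inr (.inl rfl)) ll.2).trans (by omega))
  have e3 := C.eq_of_two (K := Fx V (s * t)) (fun x hx => mem_Fx.2 (by
    rw [mul_smul, mem_Fx.1 hx.2, mem_Fx.1 hx.1])) hF l3.fx
    ((h _ (.inr (.inr rfl)) l3).trans (by omega))
  exact ⟨ll.1, ll.2, e2.symm.trans e1, e3.symm.trans e1⟩

theorem lin_f {s : Γ} (l : Lin J s) (hs : s * s = 1) (x : V) : X.f (s • x + x) = 0 := by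
  rw [← B_om X C.f (C.om _)]
  exact X.adj0 x (by rw [← l, inv_fx hs])

theorem BJ (x : V) : X.B x (J x) = X.f x := B_om X C.f (C.om x)

theorem decp {e : V} (he : X.f e = 1) (v : V) :
    ∃ c ∈ pl e (J e), X.B (v + c) e = 0 ∧ X.B (v + c) (J e) = 0 := by
  have b1 := C.BJ e
  have b2 : X.B (J e) e = 1 := by rw [X.B_comm, b1, he]
  rw [he] at b1
  rcases z2c (X.B v e) with h | h <;> rcases z2c (X.B v (J e)) with k | k
  · exact ⟨0, zero_mem _, by simpa, by simpa⟩
  · exact ⟨e, mem_pl.2 (by simp), by rw [B_add, h, X.B_self]; rfl, by rw [B_add, k, b1]; rfl⟩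
  · exact ⟨J e, mem_pl.2 (by simp), by rw [B_add, h, b2]; rfl, by rw [B_add, k, X.B_self]; rfl⟩
  · exact ⟨e + J e, mem_pl.2 (by simp), by rw [B_add, B_add, h, b2, X.B_self]; rfl,
      by rw [B_add, B_add, k, b1, X.B_self]; rfl⟩

theorem pJ {e x : V} (h1 : X.B x e = 0) (h2 : X.B x (J e) = 0) :
    X.B (J x) e = 0 ∧ X.B (J x) (J e) = 0 :=
  ⟨by rw [C.toCB.rot, h1, h2, add_zero], by rw [B_iso X C.f, h1]⟩

theorem exq {s : Γ} (l : Lin J s) (hs : s * s = 1) (n : s ≠ 1) :
    ∃ x, X.f x = 1 ∧ X.B (s • x + x) (J x) = 1 := by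
  have si : s⁻¹ = s := inv_eq_of_mul_eq_one_right hs
  obtain ⟨x, hx⟩ : ∃ x, X.B (s • x + x) (J x) = 1 := by
    by_contra hno
    push Not at hno
    have q : ∀ x, X.B (s • x + x) (J x) = 0 := fun x => (z2c _).resolve_right (hno x)
    have p : ∀ x y, X.B (s • x + x) (J y) = X.B (J x) (s • y + y) := fun x y => by
      have := q (x + y)
      rw [smul_add, add_add_add_comm, map_add J, B_add, map_add (X.B _), map_add (X.B _), q, q,
        zero_add, add_zero,
        CharTwo.add_eq_zero] at this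
      rw [this, X.B_comm]
    refine n (X.faith _ fun x => add_eq_zero2.1 (X.nd' fun y => ?_))
    have a := p x y
    rw [C.toCB.rot, ← si, ← X.adj, si, map_add J, l, ← si, ← X.adj, si, eq_comm, add_eq_right] at a
    exact a
  rcases z2c (X.f x) with h | h
  · have fu : s • J (s • x + x) = J (s • x + x) := by rw [← l, inv_fx hs]
    have e : s • (x + J (s • x + x)) + (x + J (s • x + x)) = s • x + x := by
      rw [smul_add, fu, add_add_add_comm, aa, add_zero]
    refine ⟨x + J (s • x + x), ?_, ?_⟩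
    · rw [X.f_add, h, C.f, C.lin_f l hs, X.B_comm, C.toCB.rot, hx, ← X.f_cm, C.lin_f l hs]; rfl
    · rw [e, map_add J, map_add, hx, X.adj0 x (by rw [← l, fu]), add_zero]
  · exact ⟨x, h, hx⟩

theorem keyP (hc : Nat.card V = 256) {s : Γ} (l : Lin J s) (hs : s * s = 1) (n : s ≠ 1) :
    ∃ r ∈ L, r * s = s * r ∧ (∀ v : V, r • r • v = v + r • v) ∧ ∃ x : V, s • x ≠ x ∧
      ∀ t : Γ, Lin J t → t * t = 1 → Fx V t = Fx V s →
        (r * t = t * r ∨ Nat.card (Fx V s) ≠ 16) → t • x = s • x := by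
  obtain ⟨e, fe, q⟩ := C.exq l hs n
  have si : s⁻¹ = s := inv_eq_of_mul_eq_one_right hs
  have sse : s • s • e = e := by rw [← mul_smul, hs, one_smul]
  have b0 : X.B (s • e + e) e = 0 := by rw [← X.f_cm, C.lin_f l hs]
  have b1 : X.B (s • e) e = 0 := by rwa [B_add, X.B_self, add_zero] at b0
  have b2 : X.B (s • e) (J e) = 0 := by rwa [B_add, C.BJ, fe, add_eq_right] at q
  have b3 : X.B e (s • e) = 0 := by rw [X.B_comm, b1]
  have b4 : X.B e (J (s • e)) = 0 := by rw [l, ← si, ← X.B_inv, b2]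
  have fe' : X.f (s • e) = 1 := by rw [X.f_smul, fe]
  obtain ⟨t1, m1, k1, k2, k3⟩ := C.full e fe
  obtain ⟨t2, m2, j1, j2, j3⟩ := C.full _ fe'
  have mr := L.mul_mem m1 m2
  have r1 : (t1 * t2) • e = J e := by rw [mul_smul, j3 e b3 b4, k2]
  have r2 : (t1 * t2) • s • e = J (s • e) := by rw [mul_smul, j1, k3 _ b1 b2]
  let Y := hyp X e ⊓ hyp X (J e) ⊓ (hyp X (s • e) ⊓ hyp X (J (s • e)))
  have r3 : ∀ y ∈ Y, (t1 * t2) • y = J (J y) := fun y hy => by
    rw [mul_smul, j3 y hy.2.1 hy.2.2, k3 _ (C.pJ hy.1.1 hy.1.2).1 (C.pJ hy.1.1 hy.1.2).2]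
  have dc : ∀ v, ∃ c ∈ pl e (J e), ∃ c' ∈ pl (s • e) (J (s • e)), v + c + c' ∈ Y := fun v => by
    obtain ⟨c, hc, h1, h2⟩ := C.decp fe v
    obtain ⟨c', hc', h3, h4⟩ := C.decp fe' (v + c)
    exact ⟨c, hc, c', hc', ⟨add_mem h1 (pl_le (K := hyp X e) b1 (C.pJ b1 b2).1 hc'),
      add_mem h2 (pl_le (K := hyp X (J e)) b2 (C.pJ b1 b2).2 hc')⟩, h3, h4⟩
  have top : ∀ K : AddSubgroup V, (∀ x ∈ K, J x ∈ K) → e ∈ K → s • e ∈ K → Y ≤ K → ∀ v, v ∈ K :=
    fun K h h1 h2 h3 v => by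
      obtain ⟨c, hc, c', hc', hy⟩ := dc v
      have := add_mem (add_mem (h3 hy) (pl_le h2 (h _ h2) hc')) (pl_le h1 (h _ h1) hc)
      rwa [aa'', aa''] at this
  have YJ : ∀ y ∈ Y, J y ∈ Y := fun y hy => ⟨C.pJ hy.1.1 hy.1.2, C.pJ hy.2.1 hy.2.2⟩
  have Ys : ∀ y ∈ Y, s • y ∈ Y := fun y hy => ⟨⟨(mem_hyp X).2 (by
    rw [X.B_inv, si]; exact hy.2.1), (mem_hyp X).2 (by rw [X.B_inv, si, ← l]; exact hy.2.2)⟩,
    (mem_hyp X).2 (by rw [X.B_smul]; exact hy.1.1), (mem_hyp X).2 (by rw [l, X.B_smul]; exact hy.1.2)⟩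
  have cr := C.comm _ mr
  generalize t1 * t2 = r at *
  refine ⟨r, mr, ?_, ?_, e, fun h => ?_, fun t lt ht F H => ?_⟩
  · rw [← mul_inv_eq_one]
    refine X.faith _ fun v => ?_
    have := top ((ac V (r * s)).eqLocus (ac V (s * r))) (fun x (hx : (r * s) • x = (s * r) • x) => by
      change (r * s) • J x = (s * r) • J x
      rw [mul_smul, mul_smul, ← l, ← cr, ← cr, ← l, ← mul_smul, hx, mul_smul])
      (by change (r * s) • e = (s * r) • e; rw [mul_smul, mul_smul, r2, r1, l])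
      (by
        change (r * s) • s • e = (s * r) • s • e
        rw [mul_smul, mul_smul, r2, sse, r1, ← l, sse])
      (fun y hy => by
        change (r * s) • y = (s * r) • y
        rw [mul_smul, mul_smul, r3 y hy, r3 _ (Ys y hy), l, l]) ((s * r)⁻¹ • v)
    change (r * s) • (s * r)⁻¹ • v = (s * r) • (s * r)⁻¹ • v at this
    rw [mul_smul, this, smul_inv_smul]
  · intro v
    exact (mul_smul r r v).symm.trans (top ((ac V (r * r)).eqLocus (AddMonoidHom.id V + ac V r))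
      (fun x (hx : (r * r) • x = x + r • x) => by
        change (r * r) • J x = J x + r • J x
        rw [mul_smul, ← cr, ← cr, ← mul_smul, hx, map_add])
      (by change (r * r) • e = e + r • e; rw [mul_smul, r1, ← cr, r1, C.om])
      (by change (r * r) • s • e = s • e + r • s • e; rw [mul_smul, r2, ← cr, r2, C.om])
      (fun y hy => by
        change (r * r) • y = y + r • y
        rw [mul_smul, r3 y hy, r3 _ (YJ _ (YJ y hy)), C.om (J (J y)), C.om (J y), C.om y]
        simp only [add_assoc, add_comm, add_left_comm, aa, aa', add_zero, zero_add]) v)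
  · rw [h, aa, map_zero, LinearMap.zero_apply] at q; exact zero_ne_one q
  have u0 : s • e + e ≠ 0 := fun h => by
    rw [h, map_zero, LinearMap.zero_apply] at q; exact zero_ne_one q
  have fs : s • (t • e + e) = t • e + e := mem_Fx.1 (F ▸ mem_Fx.2 (inv_fx ht e))
  have Nle : ∀ c ∈ pl e (J e), s • c + c ∈ pl (s • e + e) (J (s • e + e)) := fun c hc =>
    pl_le (K := (pl (s • e + e) (J (s • e + e))).comap (Nm V s)) (mem_pl.2 (.inr (.inl rfl)))
      (mem_pl.2 (.inr (.inr (.inl (by rw [Nm_apply, map_add, l]))))) hc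
  have key : t • e + e ∈ pl (s • e + e) (J (s • e + e)) := by
    by_cases H' : Nat.card (Fx V s) = 16
    · have H := H.resolve_right (not_not.2 H')
      obtain ⟨c, hc, c', hc', hy⟩ := dc (t • e + e)
      have rp : ∀ f, r • f = J f → ∀ c ∈ pl f (J f), r • c = J c := fun f h c hc =>
        pl_le (K := (ac V r).eqLocus J) h (show r • J f = J (J f) by rw [← cr, h]) hc
      have := r3 _ hy
      rw [smul_add, smul_add, smul_add, cm_smul H, r1, ← lt, rp _ r1 c hc, rp _ r2 c' hc',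
        ← map_add, ← map_add, ← map_add, C.om, eq_comm, add_eq_right, add_assoc,
        add_eq_zero2] at this
      have hd : s • c' ∈ pl e (J e) := pl_le (K := (pl e (J e)).comap (ac V s))
        (mem_pl.2 (.inr (.inl sse))) (mem_pl.2 (.inr (.inr (.inl (by
          rw [ac_apply, ← l, sse]))))) hc'
      have ssc : s • s • c' = c' := by rw [← mul_smul, hs, one_smul]
      have fd : s • (c + s • c') = c + s • c' := by
        rw [this, smul_add] at fs
        rw [smul_add, ssc, ← add_left_inj (c' + s • c'), add_assoc, aa', fs, add_assoc,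
          add_comm (s • c'), aa'']
      have d1 := X.adj0 e fd
      have d2 := X.adj0 (J e) fd
      rw [← l, ← map_add] at d2
      have d0 : c + s • c' = 0 := by
        rcases mem_pl.1 (add_mem hc hd) with h | h | h | h
        · exact h
        · rw [h, C.toCB.rot, b0, q] at d2; exact absurd d2 (by decide)
        · rw [h, q] at d1; exact absurd d1 (by decide)
        · rw [h, map_add, b0, q] at d1; exact absurd d1 (by decide)
      rw [this, add_eq_zero2.1 d0]
      simpa only [ssc, add_comm] using Nle _ hd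
    · have c1 := card_Fx_Im' (V := V) s
      have c2 := fx16 hc hs
      have lI : ∀ x ∈ Im V s, J x ∈ Im V s := by
        rintro _ ⟨x, rfl⟩; exact ⟨J x, by rw [Nm_apply, Nm_apply, map_add, l]⟩
      have c3 := (om_card (C.toCB.om' _) lI).2
      have c4 := AddSubgroup.card_le_of_le (pl_le (K := Im V s) (x := s • e + e)
        (y := J (s • e + e)) ⟨e, rfl⟩ (lI _ ⟨e, rfl⟩))
      rw [card_pl u0 (C.toCB.ne u0).1 (C.toCB.ne u0).2] at c4
      rw [← eq_pl (K := Im V s) (x := s • e + e) (y := J (s • e + e)) (by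
        by_contra h
        have := c3 (by omega)
        apply H'; nlinarith) ⟨e, rfl⟩ (lI _ ⟨e, rfl⟩) u0 (C.toCB.ne u0).1 (C.toCB.ne u0).2,
        ← X.perp_Fx, ← F, X.perp_Fx]
      exact ⟨e, rfl⟩
  have z := X.f_cm t e
  rw [C.lin_f lt ht] at z
  have b5 : X.B (J (s • e + e)) e = 1 := by rw [C.toCB.rot, b0, q, zero_add]
  rcases mem_pl.1 key with h | h | h | h
  · exact absurd (add_eq_zero2.2 (mem_Fx.1 (F ▸ mem_Fx.2 (add_eq_zero2.1 h)))) u0
  · exact add_right_cancel h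
  · rw [h, b5] at z; exact absurd z (by decide)
  · rw [h, B_add, b5, b0] at z; exact absurd z (by decide)

theorem rf_comm {e : V} (he : X.f e = 1) {h s : Γ} (r : Rf X J e h) (l : Lin J s)
    (fe : s • e = e) : h * s = s * h := by
  rw [← mul_inv_eq_one]
  refine X.faith _ fun v => ?_
  obtain ⟨c, hc, h1, h2⟩ := C.decp he ((s * h)⁻¹ • v)
  have fJ : s • J e = J e := by rw [← l, fe]
  have sc : s • c = c := mem_Fx.1 (pl_le (mem_Fx.2 fe) (mem_Fx.2 fJ) hc)
  have hc' : h • c = c := mem_Fx.1 (pl_le (mem_Fx.2 r.1) (mem_Fx.2 r.2.1) hc)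
  have : (h * s) • ((s * h)⁻¹ • v + c) = (s * h) • ((s * h)⁻¹ • v + c) := by
    rw [mul_smul, mul_smul, r.2.2 _ h1 h2, r.2.2 _ (by rw [← fe, X.B_smul, h1])
      (by rw [← fJ, X.B_smul, h2]), l]
  rw [smul_add, smul_add, smul_inv_smul, mul_smul h s c, mul_smul s h c, sc, hc', sc] at this
  rw [mul_smul]
  exact add_right_cancel this

theorem keyQ (hc : Nat.card V = 256) {s : Γ} (l : Lin J s) (c : 16 < Nat.card (Fx V s)) :
    ∃ h ∈ L, h * s = s * h ∧ ∀ w ∈ Im V s, h • w = J w := by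
  obtain ⟨e, he, fe⟩ : ∃ e ∈ Fx V s, X.f e = 1 := by
    by_contra hno
    push Not at hno
    have := (sing_le X hc (le_perp X fun e he => (z2c _).resolve_right (hno e he))).1
    omega
  obtain ⟨h, m, r⟩ := C.full e fe
  refine ⟨h, m, C.rf_comm fe r l (mem_Fx.1 he), ?_⟩
  rintro _ ⟨x, rfl⟩
  exact r.2.2 _ (X.adj0 x (mem_Fx.1 he)) (X.adj0 x (mem_Fx.1 (l.fx e he)))

theorem trans0 {u u' : V} (fu : X.f u = 0) (fu' : X.f u' = 0) (h : X.B u u' = 1) :
    ∃ l ∈ L, l • u ∈ pl u' (J u') := by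
  obtain ⟨w, hw, w1, w2⟩ : ∃ w ∈ pl u' (J u'), X.B u w = 1 ∧ X.B u (J w) = 1 := by
    rcases z2c (X.B u (J u')) with e | e
    · exact ⟨u' + J u', mem_pl.2 (by simp), by rw [map_add, h, e, add_zero],
        by rw [map_add J, C.om, add_comm u', aa', h]⟩
    · exact ⟨u', mem_pl.2 (by simp), h, e⟩
  have fw : X.f w = 0 := by
    rcases mem_pl.1 hw with e | e | e | e <;> rw [e]
    exacts [X.f_zero, fu', by rw [C.f, fu'], by rw [← C.om, C.f, C.f, fu']]
  have fe : X.f (u + w) = 1 := by rw [X.f_add, fu, fw, w1]; rfl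
  obtain ⟨t, m, k1, k2, k3⟩ := C.full _ fe
  have b := C.BJ (u + w)
  have := k3 (u + (u + w + J (u + w))) (by
    rw [B_add, B_add, X.B_self, X.B_comm (J _), b, fe, map_add, X.B_self, w1]; rfl) (by
    rw [B_add, B_add, X.B_self, b, fe, map_add J, map_add, C.BJ, fu, w2]; rfl)
  rw [smul_add, smul_add, k1, k2, map_add J u (_ + _), ← C.om, C.om (J (u + w)),
    add_left_comm, add_comm (J (u + w)), add_assoc, add_comm (J (J _)), ← add_assoc,
    add_left_inj, map_add, aa'] at this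
  exact ⟨t, m, this ▸ pl_inv (C.om u') w hw⟩

theorem trans {u u' : V} (u0 : u ≠ 0) (u0' : u' ≠ 0) (fu : X.f u = 0) (fu' : X.f u' = 0) :
    ∃ l ∈ L, l • u ∈ pl u' (J u') := by
  rcases z2c (X.B u u') with h | h
  swap
  · exact C.trans0 fu fu' h
  obtain ⟨v, v1, v2, v3⟩ : ∃ v, X.B v u = 1 ∧ X.B v u' = 1 ∧ X.f v = 0 := by
    obtain ⟨v, v1, v2⟩ : ∃ v, X.B v u = 1 ∧ X.B v u' = 1 := by
      obtain ⟨x, hx⟩ := X.exists_B u0
      obtain ⟨y, hy⟩ := X.exists_B u0'
      rcases z2c (X.B x u') with e | e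
      · rcases z2c (X.B y u) with e' | e'
        · exact ⟨x + y, by rw [B_add, hx, e', add_zero], by rw [B_add, hy, e, zero_add]⟩
        · exact ⟨y, e', hy⟩
      · exact ⟨x, hx, e⟩
    rcases z2c (X.f v) with e | e
    · exact ⟨v, v1, v2, e⟩
    · exact ⟨v + u, by rw [B_add, v1, X.B_self, add_zero], by rw [B_add, v2, h, add_zero],
        by rw [X.f_add, e, fu, v1]; rfl⟩
  obtain ⟨l, hl, a⟩ := C.trans0 fu v3 (X.B_comm u v ▸ v1)
  obtain ⟨m, hm, b⟩ := C.trans0 v3 fu' v2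
  refine ⟨m * l, L.mul_mem hm hl, ?_⟩
  rw [mul_smul]
  exact pl_le (K := (pl u' (J u')).comap (ac V m)) b (by
    change m • J v ∈ pl u' (J u')
    rw [← C.comm m hm]; exact pl_inv (C.om u') _ b) a

end CF

end Cfsg.Agent.H96.Par
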