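/-
Small groups of isometries of an orthogonal `2^8`; the case `2 + 6` for `PSp₄(3)`.
-/
import Cfsg.Agent.H96.PaB

set_option autoImplicit false
set_option linter.unusedSimpArgs false
set_option linter.unusedSectionVars false

namespace Cfsg.Agent.H96.Par

open H4.GF H4.GF.M43 H4.GF.M43.QVx

variable {Γ : Type*} {V : Type*} [Group Γ] [AddCommGroup V] [Module (ZMod 2) V]
  [DistribMulAction Γ V] [Finite V]

theorem idx2 {K M : AddSubgroup V} (h : K ≤ M) (c : Nat.card M ≤ 2 * Nat.card K) {g : Γ}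
    (hK : ∀ x ∈ K, g • x ∈ K) (hM : ∀ x ∈ M, g • x ∈ M) {x : V} (hx : x ∈ M) : g • x + x ∈ K := by
  by_cases e : x ∈ K
  · exact add_mem (hK x e) e
  have := AddSubgroup.eq_of_le_of_card_ge (ex_le h hx) (by rw [card_ex e]; exact c)
  refine (mem_ex.1 (this ▸ hM x hx)).resolve_left fun k => e ?_
  have s : Function.Surjective fun y : K => (⟨g • (y : V), hK y y.2⟩ : K) :=
    Finite.injective_iff_surjective.1 fun _ _ e =>
      Subtype.ext (MulAction.injective g (congrArg Subtype.val e))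
  obtain ⟨y, hy⟩ := s ⟨_, k⟩
  rw [← MulAction.injective g (congrArg Subtype.val hy)]
  exact y.2

omit [Finite V] in
theorem nm_eq {g : Γ} {y m : V} (h : g • (y + m) = y + m) : g • y + y = g • m + m := by
  rw [← add_eq_zero2, add_add_add_comm, ← smul_add, h, aa]

theorem sieg (X : QV Γ V) {l : Γ} (l1 : l ≠ 1) {w : V} (w0 : w ≠ 0) (fw : X.f w = 0)
    (hw : ∀ v, X.B v w = 0 → l • v + v = 0 ∨ l • v + v = w) :
    w ∈ Im V l ∧ Nat.card (Im V l) = 4 := by
  have wI : w ∈ Im V l := by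
    by_contra n
    exact l1 (hyp_triv X fw fun x hx => add_eq_zero2.1 ((hw x hx).resolve_right fun e => n ⟨x, e⟩))
  obtain ⟨q, hq⟩ := X.exists_B w0
  have cw : Nat.card (ex ⊥ w) = 2 := by rw [card_ex (by simpa), AddSubgroup.card_bot]
  have wl : ex ⊥ w ≤ Im V l := ex_le bot_le wI
  have mw : ∀ {v}, v ∈ ex ⊥ w ↔ v = 0 ∨ v = w := by simp [mem_ex, add_eq_zero2]
  have nq : l • q + q ∉ ex ⊥ w := fun h => l1 (hyp_triv X fw fun x hx => mem_Fx.1 (by
    rw [← X.perp_Im]
    rintro _ ⟨v, rfl⟩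
    refine (ex_le bot_le (K := hyp X x) (by rw [mem_hyp, X.B_comm, hx])) (x := l • v + v) ?_
    rcases z2c (X.B v w) with e | e
    · exact mw.2 (hw v e)
    · have := add_mem (mw.2 (hw (v + q) (by rw [B_add, e, hq]; rfl))) h
      rwa [smul_add l v q, add_add_add_comm (l • v), aa''] at this))
  have eI : Im V l = ex (ex ⊥ w) (l • q + q) := by
    refine le_antisymm ?_ (ex_le wl ⟨q, rfl⟩)
    rintro _ ⟨v, rfl⟩
    rcases z2c (X.B v w) with e | e
    · exact .inl (mw.2 (hw v e))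
    · have := mw.2 (hw (v + q) (by rw [B_add, e, hq]; rfl))
      exact .inr (by rwa [smul_add, add_add_add_comm] at this)
  exact ⟨wI, by rw [eI, card_ex nq, cw]⟩

theorem nwA {L : Subgroup Γ} [L.Normal] {τ : W → Γ} {U : AddSubgroup V} (C : CA τ U) (T : TD L τ)
    (X : QV Γ V) (hc : Nat.card V = 256) {l : Γ} (hl : l ∈ L) (ll : l * l = 1) (l1 : l ≠ 1) {w : V}
    (w0 : w ≠ 0) (fw : X.f w = 0) (hw : ∀ v, X.B v w = 0 → l • v + v = 0 ∨ l • v + v = w)
    (H : ∀ g ∈ L, g • w = w → g * g * l = l * (g * g)) : False := by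
  have := fin X
  obtain ⟨wI, cI⟩ := sieg X l1 w0 fw hw
  have IU : Im V l ≤ X.perp U := by rintro _ ⟨x, rfl⟩; exact cm_perp X (C.fixL T l hl) x
  have cw : Nat.card (ex ⊥ w) = 2 := by rw [card_ex (by simpa), AddSubgroup.card_bot]
  have wl : ex ⊥ w ≤ Im V l := ex_le bot_le wI
  have mw : ∀ {v}, v ∈ ex ⊥ w ↔ v = 0 ∨ v = w := by simp [mem_ex, add_eq_zero2]
  let M := X.perp (Im V l ⊔ U)
  have cM : Nat.card M ≤ 16 := by
    have e1 := X.card_perp (Im V l ⊔ U)
    have e2 := card_mul_le_add (le_sup_left (a := Im V l) (b := U)) le_sup_right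
    rw [(AddSubgroup.eq_bot_iff_forall (Im V l ⊓ U)).2 fun x hx => C.disj T X hx.2 (IU hx.1),
      AddSubgroup.card_bot, cI, C.card] at e2
    change Nat.card M * _ = _ at e1
    nlinarith
  have cM' : 16 ≤ Nat.card M := by
    have e1 := X.card_perp (Im V l ⊔ U)
    have e2 : Nat.card (Im V l ⊔ U : AddSubgroup V) ≤ Nat.card (Im V l × U) :=
      Nat.card_le_card_of_surjective (fun p : Im V l × U => ⟨p.1 + p.2,
        AddSubgroup.add_mem_sup p.1.2 p.2.2⟩) fun x => by
          obtain ⟨y, hy, z, hz, e⟩ := AddSubgroup.mem_sup.1 x.2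
          exact ⟨(⟨y, hy⟩, ⟨z, hz⟩), Subtype.ext e⟩
    rw [Nat.card_prod, cI, C.card] at e2
    change Nat.card M * _ = _ at e1
    nlinarith
  have mM : ∀ {x}, x ∈ M ↔ x ∈ Fx V l ∧ x ∈ X.perp U := fun {x} => by
    rw [← X.perp_Im]
    exact ⟨fun h => ⟨fun y hy => h y (AddSubgroup.mem_sup_left hy),
      fun y hy => h y (AddSubgroup.mem_sup_right hy)⟩,
      fun h => sup_le (c := hyp X x) h.1 h.2⟩
  have IM : Im V l ≤ M := fun x hx => mM.2 ⟨im_le_fx ll hx, IU hx⟩
  obtain ⟨m, hm, nm⟩ := exists_not_mem (A := Im V l) (K := M) (by omega)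
  have triv : ∀ g ∈ L, ∀ k, g ^ (2 * k + 1) = 1 → g * l = l * g → g • w = w →
      g • m + m ∈ Im V l → g = 1 := fun g hg k gk c gw gm => by
    have z : ∀ v : V, g • (g • v + v) = g • v + v → g • v = v := fun v h =>
      add_eq_zero2.1 (im_inf_fx (k := k) (fun v => by rw [gk, one_smul]) ⟨v, rfl⟩ h)
    have s1 : ∀ y ∈ Im V l, g • y = y := fun y hy => z y (by
      rcases mw.1 (idx2 wl (by omega) (fun x hx => by
        rcases mw.1 hx with e | e <;> rw [e]
        · simp
        · rw [gw]; exact self_mem_ex _ _) (fun x => Im_comm c.symm) hy) with e | e <;> rw [e]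
      exacts [smul_zero g, gw])
    have s2 : ∀ y ∈ ex (Im V l) m, g • y + y ∈ Im V l := by
      rintro y (hy | hy)
      · rw [s1 y hy, aa]; exact zero_mem _
      · exact nm_eq (s1 _ hy) ▸ gm
    have s3 : ∀ y ∈ ex (Im V l) m, g • y = y := fun y hy => z y (s1 _ (s2 y hy))
    have s4 : ∀ y ∈ M, g • y = y := fun y hy => z y (s3 _ (idx2 (ex_le IM hm)
      (by rw [card_ex nm]; omega) (fun x hx => (s3 x hx).symm ▸ hx)
      (fun x hx => mM.2 ⟨Fx_comm c.symm (mM.1 hx).1, C.norm6 T X g (mM.1 hx).2⟩) hy))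
    exact X.faith _ fun v => z v (s4 _ (cm_perp X (fun y hy => mem_Fx.1 (sup_le (c := Fx V g)
      (fun y hy => mem_Fx.2 (s1 y hy)) (fun y hy => mem_Fx.2 (C.fixL T g hg y hy)) hy)) v))
  have bd : ∀ R : Subgroup (MulAction.stabilizer L w), Odd (Nat.card R) → Nat.card R ≤ 3 := by
    rintro R ⟨k, hk⟩
    let φ : R →* Γ := L.subtype.comp ((MulAction.stabilizer L w).subtype.comp R.subtype)
    have pk : ∀ g, φ g ^ (2 * k + 1) = 1 := fun g => by rw [← map_pow, ← hk, pow_card_eq_one', map_one]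
    have pw : ∀ g, φ g • w = w := fun g => g.1.2
    have pL : ∀ g, φ g ∈ L := fun g => g.1.1.2
    have pc : ∀ g, φ g * l = l * φ g := fun g => by
      have := H _ (pL (g ^ (k + 1))) (pw _)
      rwa [map_pow, ← pow_add, show k + 1 + (k + 1) = 2 * k + 1 + 1 by ring, pow_succ, pk,
        one_mul] at this
    have : Nat.card (R × Im V l) ≤ ((M : Set V) \ Im V l).ncard :=
      Nat.card_le_card_of_injective (β := ((M : Set V) \ Im V l : Set V))
        (fun p => ⟨φ p.1 • m + p.2, add_mem (mM.2 ⟨Fx_comm (pc _).symm (mM.1 hm).1,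
          C.norm6 T X _ (mM.1 hm).2⟩) (IM p.2.2), fun h => nm (by
            have := Im_comm (pc p.1⁻¹).symm (((Im V l).add_mem_cancel_right p.2.2).1 h)
            rwa [← mul_smul, ← map_mul, inv_mul_cancel, map_one, one_smul] at this)⟩) (by
        rintro ⟨a, y⟩ ⟨b, y'⟩ e
        have e : φ a • m + y = φ b • m + y' := congrArg Subtype.val e
        have : φ (b⁻¹ * a) = 1 := triv _ (pL _) k (pk _) (pc _) (pw _) (by
          have := Im_comm (pc b⁻¹).symm (add_mem y.2 y'.2)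
          rwa [show (y : V) + y' = φ a • m + φ b • m by
            rw [← add_right_inj (φ a • m), aa', ← add_assoc, e, aa''], smul_add, ← mul_smul,
            ← mul_smul, ← map_mul, ← map_mul, inv_mul_cancel, map_one, one_smul] at this)
        have ab : b = a := inv_mul_eq_one.1 (Subtype.ext (Subtype.ext (Subtype.ext this)))
        subst ab
        rw [Subtype.ext (add_left_cancel e)])
    rw [Nat.card_prod, Set.ncard_sdiff IM, cI] at this
    change _ ≤ Nat.card M - Nat.card (Im V l) at this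
    omega
  have nd : ∀ (p k : ℕ) [Fact p.Prime], Odd p → 3 < p ^ k →
      ¬ p ^ k ∣ Nat.card (MulAction.stabilizer L w) := fun p k _ o h d => by
    obtain ⟨R, e⟩ := Sylow.exists_subgroup_card_pow_prime p d
    have := bd R (e ▸ o.pow)
    omega
  have : Fact (Nat.Prime 3) := ⟨Nat.prime_three⟩
  have : Fact (Nat.Prime 5) := ⟨Nat.prime_five⟩
  have n5 := nd 5 1 (by decide) (by decide)
  have n9 := nd 3 2 (by decide) (by decide)
  have e := (MulAction.stabilizer L w).card_mul_index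
  have c6 := X.card_perp U
  have b : (MulAction.stabilizer L w).index ≤ 64 := by
    rw [MulAction.index_stabilizer]
    refine (Set.ncard_le_ncard (t := (X.perp U : Set V)) ?_).trans ?_
    · rintro _ ⟨g, rfl⟩; exact C.norm6 T X g (IU wI)
    · change Nat.card (X.perp U) ≤ 64
      rw [C.card] at c6; omega
  rw [T.card] at e
  generalize (MulAction.stabilizer L w).index = n at e b
  generalize Nat.card (MulAction.stabilizer L w) = s at e n5 n9
  interval_cases n <;> omega

theorem z4z2 (X : QV Γ V) (hc : Nat.card V = 256) {x b : Γ} (c : x * b = b * x) (bb : b * b = 1)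
    (x4 : x * x * (x * x) = 1) (n1 : x * x ≠ 1) (n2 : b ≠ 1) (n3 : b * (x * x) ≠ 1)
    {C : AddSubgroup V} (hC : 32 ≤ Nat.card C) (hx : ∀ v ∈ C, x • v = v) (hb : ∀ v ∈ C, b • v = v) :
    False := by
  have cR := X.card_perp C
  set R := X.perp C with hR
  have pR : ∀ v, (∀ r ∈ R, X.B r v = 0) → v ∈ C := fun v h => X.perp_perp C ▸ h
  have sq : ∀ (d : Γ) (v : V), (d * d) • v + v = d • (d • v + v) + (d • v + v) := fun d v => by
    rw [smul_add, mul_smul, add_assoc, aa']
  have xR : ∀ v, x • v + v ∈ R := cm_perp X hx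
  obtain ⟨r1, h1, r1C⟩ : ∃ r ∈ R, r ∉ C := by
    by_contra hno
    push Not at hno
    exact n1 (X.faith _ fun v => add_eq_zero2.1 (by rw [sq, hx _ (hno _ (xR v)), aa]))
  obtain ⟨r2, h2, b12⟩ : ∃ r ∈ R, X.B r r1 = 1 := by
    by_contra hno
    push Not at hno
    exact r1C (pR _ fun r hr => (z2c _).resolve_right (hno r hr))
  have c1 := card_half X h2 b12
  have c2 := card_half X (K := R ⊓ hyp X r1) ⟨h1, X.B_self r1⟩ (X.B_comm r1 r2 ▸ b12)
  set S := R ⊓ hyp X r1 ⊓ hyp X r2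
  have cS : Nat.card S ≤ 2 := by nlinarith
  obtain ⟨ρ, hρ, mS⟩ : ∃ ρ ∈ S, ∀ s ∈ S, s = 0 ∨ s = ρ := by
    by_cases h : ∃ ρ ∈ S, ρ ≠ 0
    · obtain ⟨ρ, hρ, n⟩ := h
      refine ⟨ρ, hρ, fun s hs => ?_⟩
      rw [← AddSubgroup.eq_of_le_of_card_ge (ex_le bot_le hρ) (by
        rw [card_ex (by simpa), AddSubgroup.card_bot]; exact cS)] at hs
      simpa [mem_ex, add_eq_zero2] using hs
    · push Not at h
      exact ⟨0, zero_mem _, fun s hs => .inl (h s hs)⟩
  have SC : ∀ s ∈ S, s ∈ C := fun s hs => pR s fun r hr => by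
    have k : ∀ s' ∈ S, X.B s' s = 0 := fun s' hs' => by
      rcases mS s hs with e | e <;> rcases mS s' hs' with e' | e' <;> simp [e, e', X.B_self]
    have a1 : X.B r1 s = 0 := X.B_comm r1 s ▸ hs.1.2
    have a2 : X.B r2 s = 0 := X.B_comm r2 s ▸ hs.2
    have b21 : X.B r1 r2 = 1 := X.B_comm r1 r2 ▸ b12
    rcases z2c (X.B r r1) with e | e <;> rcases z2c (X.B r r2) with e' | e'
    · exact k r ⟨⟨hr, e⟩, e'⟩
    · have := k (r + r1) ⟨⟨add_mem hr h1, (mem_hyp X).2 (by rw [B_add, e, X.B_self, add_zero])⟩,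
        (mem_hyp X).2 (by rw [B_add, e', b21]; rfl)⟩
      rwa [B_add, a1, add_zero] at this
    · have := k (r + r2) ⟨⟨add_mem hr h2, (mem_hyp X).2 (by rw [B_add, e, b12]; rfl)⟩,
        (mem_hyp X).2 (by rw [B_add, e', X.B_self, add_zero])⟩
      rwa [B_add, a2, add_zero] at this
    · have := k (r + r1 + r2) ⟨⟨add_mem (add_mem hr h1) h2, (mem_hyp X).2 (by
        rw [B_add, B_add, e, b12, X.B_self]; rfl)⟩,
        (mem_hyp X).2 (by rw [B_add, B_add, e', b21, X.B_self]; rfl)⟩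
      rwa [B_add, B_add, a1, a2, add_zero, add_zero] at this
  have CS : ∀ s ∈ R, s ∈ C → s ∈ S := fun s h k => ⟨⟨h, h1 s k⟩, h2 s k⟩
  have m0 : ∀ s ∈ R, s ∈ C → s = 0 ∨ s = ρ := fun s h k => mS s (CS s h k)
  let D1 : Γ → Prop := fun d => (∀ v ∈ C, d • v = v) ∧ ∀ r ∈ R, d • r + r ∈ C
  have A : ∀ d, D1 d → d * d = 1 := fun d hd => X.faith _ fun v => add_eq_zero2.1 (by
    have dR := cm_perp X hd.1
    rw [sq]
    rcases m0 _ (dR _) (hd.2 _ (dR v)) with e | e
    · exact e
    rcases z2c (X.B ρ v) with k | k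
    · rw [hd.1 _ (pR _ fun r hr => ?_), aa]
      rw [X.B_comm, X.adj, ← X.B_smul d, smul_add, smul_inv_smul, add_comm r, X.B_inv,
        inv_smul_eq_iff.2 (hd.1 _ (hd.2 r hr)).symm]
      rcases m0 _ (dR _) (hd.2 r hr) with e | e <;> rw [e]
      exacts [map_zero _, X.B_comm v ρ ▸ k]
    · rw [← e, X.adj, ← X.B_smul d, smul_add d (d⁻¹ • v), smul_inv_smul, add_comm v,
        ← aa'' (d • (d • v + v)) (d • v + v), B_add, X.B_self, add_zero, e, dR v ρ (SC ρ hρ)] at k
      exact absurd k (by decide))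
  have xN : ¬ ∀ r ∈ R, x • r + r ∈ C := fun h => n1 (A x ⟨hx, h⟩)
  obtain ⟨n, nR, nC, nx⟩ : ∃ n ∈ R, n ∉ C ∧ x • n + n ∈ C := by
    by_contra hno
    push Not at hno
    have k := hno _ (xR _) (hno _ (xR _) (hno _ (xR _) (hno _ h1 r1C)))
    rw [← sq, ← sq, ← sq, x4, one_smul, aa] at k
    exact k (zero_mem _)
  have nS : n ∉ S := fun h => nC (SC n h)
  have SR : ex S n ≤ R := ex_le (fun _ h => h.1.1) nR
  have cE : Nat.card R = 2 * Nat.card (ex S n) := by rw [card_ex nS]; omega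
  have fE : ∀ d : Γ, (∀ v ∈ C, d • v = v) → d • n + n ∈ C → (∀ y ∈ ex S n, d • y + y ∈ C) ∧
      ∀ y ∈ R, d • y + y ∈ ex S n := fun d h k => by
    have a : ∀ y ∈ ex S n, d • y + y ∈ C := by
      rintro y (hy | hy)
      · rw [h y (SC y hy), aa]; exact zero_mem _
      · exact nm_eq (h _ (SC _ hy)) ▸ k
    refine ⟨a, fun y hy => idx2 SR cE.le (fun y hy => ?_) (fun y hy => ?_) hy⟩
    · rw [← aa'' (d • y) y]
      exact add_mem (le_ex _ _ (CS _ (cm_perp X h y) (a y hy))) hy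
    · rw [← aa'' (d • y) y]
      exact add_mem (cm_perp X h y) hy
  obtain ⟨r, rR, rE⟩ := exists_not_mem (A := ex S n) (K := R) (by
    have : 0 < Nat.card (ex S n) := Nat.card_pos
    omega)
  have eR : ∀ y ∈ R, y ∈ ex S n ∨ y + r ∈ ex S n := fun y hy =>
    mem_ex.1 ((AddSubgroup.eq_of_le_of_card_ge (ex_le SR rR) (by rw [card_ex rE, cE])).symm ▸ hy)
  have crit : ∀ d : Γ, (∀ v ∈ C, d • v = v) → d • n + n ∈ C → ∀ y ∈ R, y ∉ ex S n →
      d • y + y ∈ C → D1 d := fun d h k y hy ny e => ⟨h, fun y' hy' => by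
    have a := (fE d h k).1
    rcases eR y' hy' with q | q
    · exact a _ q
    · have := add_mem (a _ (add_mem q ((eR y hy).resolve_left ny))) e
      rwa [add_add_add_comm y', aa, add_zero, smul_add, add_add_add_comm (d • y'), aa''] at this⟩
  have fixx : ∀ y ∈ R, x • y + y ∈ C → y ∈ C ∨ y + n ∈ C := fun y hy e => by
    by_cases q : y ∈ ex S n
    · exact q.imp (SC _) (SC _)
    · exact absurd (crit x hx nx y hy q e).2 xN
  have cmx : ∀ d : Γ, x * d = d * x → ∀ v : V,
      x • (d • v + v) + (d • v + v) = d • (x • v + v) + (x • v + v) := fun d h v => by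
    rw [smul_add, smul_add, cm_smul h, add_add_add_comm]
  have hw : ∀ v ∈ C, (x * x) • v = v := fun v hv => by rw [mul_smul, hx v hv, hx v hv]
  have Dw : D1 (x * x) := ⟨hw, fun y hy => sq x y ▸ (fE x hx nx).1 _ ((fE x hx nx).2 y hy)⟩
  have nb : b • n + n ∈ C := by
    rcases fixx _ (cm_perp X hb n) (by rw [cmx b c, hb _ nx, aa]; exact zero_mem _) with e | e
    · exact e
    · rw [aa''] at e
      have := hb _ e
      rw [← mul_smul, bb, one_smul] at this
      exact absurd (this ▸ e) nC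
  have Db : D1 b := by
    rcases (fE b hb nb).2 r rR with e | e
    · exact crit b hb nb r rR rE (SC _ e)
    have e' : x • r + r + n ∈ S := ((fE x hx nx).2 r rR).resolve_left fun h =>
      xN (crit x hx nx r rR rE (SC _ h)).2
    have := A (b * x) (crit _ (fun v hv => by rw [mul_smul, hx v hv, hb v hv]) (by
      have := add_mem nx nb
      rwa [← hb _ nx, smul_add, add_assoc, aa', ← mul_smul] at this) r rR rE (by
      have := add_mem (add_mem (SC _ e') (SC _ e)) nb
      rw [← hb _ (SC _ e'), smul_add, smul_add, ← mul_smul] at this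
      simpa only [add_assoc, add_comm, add_left_comm, aa, aa', add_zero, zero_add] using this))
    rw [mul_assoc, ← mul_assoc x, c, ← mul_assoc, ← mul_assoc, bb, one_mul] at this
    exact (n1 this).elim
  have Dm : D1 (b * (x * x)) := ⟨fun v hv => by rw [mul_smul, hw v hv, hb v hv], fun y hy => by
    have := add_mem (Dw.2 y hy) (Db.2 y hy)
    rwa [← hb _ (Dw.2 y hy), smul_add, add_assoc, aa', ← mul_smul] at this⟩
  have fR : ∀ d : Γ, (∀ v ∈ C, d • v = v) → (∀ r ∈ R, d • r = r) →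
      (∀ v, d • v + v = 0 ∨ d • v + v = ρ) ∧ ∀ v, X.B v ρ = 0 → d • v = v := fun d h k => by
    have a : ∀ v, d • v + v = 0 ∨ d • v + v = ρ := fun v =>
      m0 _ (cm_perp X h v) (fix_perp X k v)
    refine ⟨a, fun v hv => mem_Fx.1 ?_⟩
    rw [← X.perp_Im]
    rintro _ ⟨y, rfl⟩
    rcases a y with e | e <;> rw [Nm_apply, e]
    exacts [by simp, X.B_comm ρ v ▸ hv]
  have ρ0 : ρ ≠ 0 := fun h => n1 (X.faith _ ((fR _ hw fun r hr => add_eq_zero2.1 (by
    simpa [h] using m0 _ (cm_perp X hw r) (Dw.2 r hr))).2 · (by simp [h])))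
  obtain ⟨v, hv⟩ := X.exists_B ρ0
  have fρ : X.f ρ = 1 := by
    have k : ∀ d, D1 d → d * d = 1 → d ≠ 1 → d • v + v ∈ C → X.f ρ = 1 := fun d hd dd d1 e => by
      refine (z2c _).resolve_left fun h => d1 (hyp_triv X h (fR d hd.1 fun r hr => ?_).2)
      refine add_eq_zero2.1 ((m0 _ (cm_perp X hd.1 r) (hd.2 r hr)).resolve_right fun q => ?_)
      rw [X.B_comm, ← q, X.adj, inv_eq_of_mul_eq_one_right dd, X.B_comm, hr _ e] at hv
      exact zero_ne_one hv
    have mu : ∀ d, D1 d → x * d = d * x → d • v + v ∈ C ∨ d • v + v + n ∈ C := fun d hd h =>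
      fixx _ (cm_perp X hd.1 v) (by rw [cmx d h]; exact hd.2 _ (xR v))
    rcases mu _ Dw (mul_assoc x x x).symm with e | e
    · exact k _ Dw x4 n1 e
    rcases mu _ Db c with e' | e'
    · exact k _ Db bb n2 e'
    refine k _ Dm (A _ Dm) n3 ?_
    have := add_mem (add_mem e e') (Db.2 _ (cm_perp X hw v))
    rw [smul_add, ← mul_smul] at this
    simpa only [add_assoc, add_comm, add_left_comm, aa, aa', add_zero, zero_add] using this
  have k : ∀ d, D1 d → d ≠ 1 → d • v = v + ρ ∧ ∀ v, X.B v ρ = 0 → d • v = v := fun d hd d1 => by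
    have := fR d hd.1 fun r hr => add_eq_zero2.1 ((m0 _ (cm_perp X hd.1 r)
      (hd.2 r hr)).resolve_right fun q => by
        have := X.f_cm d r
        rw [q, fρ, hr ρ (SC ρ hρ)] at this
        exact zero_ne_one this.symm)
    refine ⟨?_, this.2⟩
    rcases this.1 v with e | e
    · refine (d1 (X.faith _ fun y => ?_)).elim
      rcases z2c (X.B y ρ) with q | q
      · exact this.2 y q
      · have := this.2 (y + v) (by rw [B_add, q, hv]; rfl)
        rwa [smul_add, add_eq_zero2.1 e, add_left_inj] at this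
    · rw [← e, add_comm, aa'']
  have := (k _ Dm n3).1
  rw [mul_smul, (k _ Dw n1).1, smul_add, (k _ Db n2).1, hb ρ (SC ρ hρ), aa'', left_eq_add] at this
  exact ρ0 this

omit [Module (ZMod 2) V] in
theorem jord (hc : Nat.card V = 512) (N : V →+ V) (h4 : ∀ v, N (N (N (N v))) = 0)
    {β : AddSubgroup V} (h1 : β ≤ N.ker) (h2 : Nat.card (N.comp N).ker ≤ 2 * Nat.card β) :
    64 ≤ Nat.card β := by
  have cr : ∀ A B : AddSubgroup V, A ≤ B → Nat.card A * A.relIndex B = Nat.card B := fun A B h => by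
    rw [← (A.addSubgroupOf B).card_mul_index,
      Nat.card_congr (AddSubgroup.addSubgroupOfEquivOfLe h).toEquiv]
    rfl
  have key : ∀ A B : AddSubgroup V, A ≤ B →
      (A.comap N).relIndex (B.comap N) ≤ A.relIndex B := fun A B h => by
    rw [AddSubgroup.relIndex_comap]
    exact AddSubgroup.relIndex_le_of_le_right (AddSubgroup.map_comap_le _ _)
      AddSubgroup.index_ne_zero_of_finite
  have l1 : N.ker ≤ N.ker.comap N := fun v (h : N v = 0) => show N (N v) = 0 by rw [h, map_zero]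
  have l2 := AddSubgroup.comap_mono (f := N) l1
  have l3 := AddSubgroup.comap_mono (f := N) l2
  have k1 := key _ _ l1
  have k2 := key _ _ l2
  have e1 := cr _ _ l1
  have e2 := cr _ _ l2
  have e3 := cr _ _ l3
  rw [show ((N.ker.comap N).comap N).comap N = ⊤ from (AddSubgroup.eq_top_iff' _).2 h4,
    AddSubgroup.card_top, hc] at e3
  rw [show ((N.ker.comap N).comap N).comap N = ⊤ from (AddSubgroup.eq_top_iff' _).2 h4] at k2
  have c1 := AddSubgroup.card_le_of_le h1
  change Nat.card (N.ker.comap N) ≤ _ at h2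
  have p : 0 < Nat.card N.ker := Nat.card_pos
  have i1 : N.ker.relIndex (N.ker.comap N) ≤ 2 := by nlinarith
  have a1 := Nat.mul_le_mul_left (Nat.card ((N.ker.comap N).comap N)) (k2.trans (k1.trans i1))
  have a2 := Nat.mul_le_mul_left (Nat.card (N.ker.comap N)) (k1.trans i1)
  omega

end Cfsg.Agent.H96.Par
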