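/-
Involution centralisers with a normal subgroup `J = 2^k × 2^{1+8}`: the modules `J / ⟨z⟩` and
`J / Z(J)`.
-/
import Cfsg.Agent.H96.PaC
import Cfsg.Agent.H4.GW7

set_option autoImplicit false
set_option linter.unusedSimpArgs false
set_option linter.unusedSectionVars false

namespace Cfsg.Agent.H96.Par

open Subgroup H4.GF H4.GF.M43 H4.GF.M43.QVx

universe u

variable {G : Type u} [Group G]

/-- conjugation -/
abbrev cj (g x : G) : G := g * x * g⁻¹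

theorem cj_eq {g x : G} : cj g x = x ↔ Commute g x := mul_inv_eq_iff_eq_mul

theorem cj_mul (g x y : G) : cj g (x * y) = cj g x * cj g y := by simp [cj, mul_assoc]

theorem cj_cj (g h x : G) : cj g (cj h x) = cj (g * h) x := by simp [cj, mul_assoc]

theorem cj_inv (g x : G) : cj g⁻¹ (cj g x) = x := by simp [cj, mul_assoc]

theorem cj_inv' (g x : G) : cj g (cj g⁻¹ x) = x := by simp [cj, mul_assoc]

theorem cj_inj {g x y : G} : cj g x = cj g y ↔ x = y := by simp [cj]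

theorem cj_comm {g x y : G} : Commute (cj g x) (cj g y) ↔ Commute x y := by
  rw [Commute, SemiconjBy, ← cj_mul, ← cj_mul, cj_inj]; rfl

/-- `J` has centre `Z = C(J)`, `Φ(J) ≤ ⟨z⟩`, `C(z) / J = Γ` -/
structure LY (J Z : Subgroup G) (z : G) {Γ : Type*} [Group Γ] (ρ : G → Γ) : Prop where
  mem : z ∈ Z
  ne : z ≠ 1
  ZJ : Z ≤ J
  Zsq : ∀ t ∈ Z, t * t = 1
  large : ∀ g, (∀ a ∈ J, Commute g a) ↔ g ∈ Z
  comm : ∀ a ∈ J, ∀ b ∈ J, cj a b = b ∨ cj a b = z * b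
  sqr : ∀ a ∈ J, a * a = 1 ∨ a * a = z
  norm : ∀ g, Commute g z → ∀ a ∈ J, cj g a ∈ J
  card : Nat.card J = 256 * Nat.card Z
  ρ_mul : ∀ g h, Commute g z → Commute h z → ρ (g * h) = ρ g * ρ h
  ρ_surj : ∀ γ, ∃ g, Commute g z ∧ ρ g = γ
  ρ_ker : ∀ g, Commute g z → (ρ g = 1 ↔ g ∈ J)

/-- the module `J / N` -/
structure MQ (J N : Subgroup G) (z : G) {Γ : Type*} [Group Γ] (ρ : G → Γ) {V : Type u}
    [AddCommGroup V] [DistribMulAction Γ V] (π : G → V) : Prop where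
  π_mul : ∀ a ∈ J, ∀ b ∈ J, π (a * b) = π a + π b
  surj : ∀ v, ∃ a ∈ J, π a = v
  π_zero : ∀ a ∈ J, π a = 0 ↔ a ∈ N
  act : ∀ h, Commute h z → ∀ a ∈ J, ρ h • π a = π (cj h a)
  card : Nat.card J = Nat.card V * Nat.card N

namespace LY

variable {J Z : Subgroup G} {z : G} {Γ : Type*} [Group Γ] {ρ : G → Γ} (Y : LY J Z z ρ)
include Y

theorem sq : z * z = 1 := Y.Zsq z Y.mem

theorem zJ : z ∈ J := Y.ZJ Y.mem

theorem cen {t a : G} (ht : t ∈ Z) (ha : a ∈ J) : Commute t a := (Y.large t).2 ht a ha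

theorem cz {a : G} (ha : a ∈ J) : Commute a z := (Y.cen Y.mem ha).symm

theorem zz (a : G) : z * (z * a) = a := by rw [← mul_assoc, Y.sq, one_mul]

theorem inv_Z {t : G} (ht : t ∈ Z) : t⁻¹ = t := inv_eq_of_mul_eq_one_right (Y.Zsq t ht)

theorem normZ {g t : G} (hg : Commute g z) (ht : t ∈ Z) : cj g t ∈ Z :=
  (Y.large _).1 fun a ha => by
    rw [← cj_inv' g a, cj_comm]; exact Y.cen ht (Y.norm _ hg.inv_left a ha)

theorem ρ_one : ρ 1 = 1 := (Y.ρ_ker 1 (Commute.one_left z)).2 J.one_mem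

theorem ρ_inv {g : G} (hg : Commute g z) : ρ g⁻¹ = (ρ g)⁻¹ :=
  eq_inv_of_mul_eq_one_left (by rw [← Y.ρ_mul _ _ hg.inv_left hg, inv_mul_cancel, Y.ρ_one])

theorem ρ_J {a : G} (ha : a ∈ J) : ρ a = 1 := (Y.ρ_ker a (Y.cz ha)).2 ha

theorem ρ_eq {g h : G} (hg : Commute g z) (hh : Commute h z) : ρ g = ρ h ↔ g * h⁻¹ ∈ J := by
  rw [← Y.ρ_ker _ (hg.mul_left hh.inv_left), Y.ρ_mul _ _ hg hh.inv_left, Y.ρ_inv hh, mul_inv_eq_one]

theorem ρ_cj {g h : G} (hg : Commute g z) (hh : Commute h z) : ρ (cj g h) = cj (ρ g) (ρ h) := by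
  rw [cj, Y.ρ_mul _ _ (hg.mul_left hh) hg.inv_left, Y.ρ_mul _ _ hg hh, Y.ρ_inv hg]

theorem ρ_sq {g : G} (hg : Commute g z) (h : g * g = 1) : ρ g * ρ g = 1 := by
  rw [← Y.ρ_mul _ _ hg hg, h, Y.ρ_one]

theorem sg_one_iff {a b : G} (ha : a ∈ J) (hb : b ∈ J) : sg a b = 1 ↔ cj a b = z * b := by
  rw [sg_eq_one]
  constructor
  · intro e
    exact (Y.comm a ha b hb).resolve_left fun e' => e (mul_inv_eq_iff_eq_mul.1 e')
  · intro e e'
    rw [cj, e', mul_inv_cancel_right] at e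
    exact Y.ne (by simpa using e)

theorem sg_mul_left {a a' b : G} (ha : a ∈ J) (ha' : a' ∈ J) (hb : b ∈ J) :
    sg (a * a') b = sg a b + sg a' b := by
  have ez : cj a (z * b) = z * cj a b := by rw [cj_mul, cj_eq.2 (Y.cz ha)]
  rcases z2c (sg a b) with h1 | h1 <;> rcases z2c (sg a' b) with h2 | h2 <;> rw [h1, h2]
  · rw [sg_eq_zero] at h1 h2
    rw [add_zero, sg_eq_zero, mul_assoc, h2, ← mul_assoc, h1, mul_assoc]
  · rw [sg_eq_zero] at h1
    rw [Y.sg_one_iff ha' hb] at h2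
    rw [zero_add, Y.sg_one_iff (J.mul_mem ha ha') hb, ← cj_cj, h2, ez, cj_eq.2 h1]
  · rw [sg_eq_zero] at h2
    rw [Y.sg_one_iff ha hb] at h1
    rw [add_zero, Y.sg_one_iff (J.mul_mem ha ha') hb, ← cj_cj, cj_eq.2 h2, h1]
  · rw [Y.sg_one_iff ha hb] at h1
    rw [Y.sg_one_iff ha' hb] at h2
    have : (1 : ZMod 2) + 1 = 0 := rfl
    rw [this, sg_eq_zero, ← mul_inv_eq_iff_eq_mul, ← cj, ← cj_cj, h2, ez, h1, Y.zz]

theorem isP : IsPGroup 2 J := fun a => ⟨2, Subtype.ext (by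
  change (a : G) ^ (2 * 2) = 1
  rw [pow_mul, pow_two (a : G), pow_two]
  rcases Y.sqr a a.2 with e | e <;> rw [e]
  exacts [one_mul 1, Y.sq])⟩

theorem exists_MQ {N : Subgroup G} (hN : N ≤ J) (zN : z ∈ N)
    (nN : ∀ g, Commute g z → ∀ a ∈ N, cj g a ∈ N) :
    ∃ (V : Type u) (_ : AddCommGroup V) (_ : Module (ZMod 2) V) (_ : DistribMulAction Γ V)
      (π : G → V), MQ J N z ρ π := by
  classical
  have : (N.subgroupOf J).Normal := ⟨fun n hn g => nN g (Y.cz g.2) n hn⟩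
  have cm : ∀ a ∈ J, ∀ b ∈ J, (a * b)⁻¹ * (b * a) ∈ N := fun a ha b hb => by
    have : (a * b)⁻¹ * (b * a) = cj b⁻¹ a⁻¹ * a := by simp [cj, mul_assoc]
    rw [this]
    rcases Y.comm _ (J.inv_mem hb) _ (J.inv_mem ha) with e | e <;> simp [e, zN]
  letI : CommGroup (J ⧸ N.subgroupOf J) :=
    { (inferInstance : Group (J ⧸ N.subgroupOf J)) with
      mul_comm := by
        rintro ⟨a⟩ ⟨b⟩
        exact QuotientGroup.eq.2 (cm a a.2 b b.2) }
  let π : G → Additive (J ⧸ N.subgroupOf J) := fun g =>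
    if h : g ∈ J then Additive.ofMul (QuotientGroup.mk ⟨g, h⟩) else 0
  have hπ : ∀ a (ha : a ∈ J), π a = Additive.ofMul (QuotientGroup.mk ⟨a, ha⟩) :=
    fun a ha => dif_pos ha
  have pm : ∀ a ∈ J, ∀ b ∈ J, π (a * b) = π a + π b := fun a ha b hb => by
    rw [hπ a ha, hπ b hb, hπ _ (J.mul_mem ha hb)]; rfl
  have ps : ∀ v, ∃ a ∈ J, π a = v := by
    rintro ⟨a⟩; exact ⟨a, a.2, hπ a a.2⟩
  have p0 : ∀ a ∈ J, π a = 0 ↔ a ∈ N := fun a ha => by
    rw [hπ a ha, ofMul_eq_zero, QuotientGroup.eq_one_iff]; rfl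
  have pe : ∀ a ∈ J, ∀ b ∈ J, π a = π b ↔ a⁻¹ * b ∈ N := fun a ha b hb => by
    rw [hπ a ha, hπ b hb, Additive.ofMul.injective.eq_iff, QuotientGroup.eq]; rfl
  choose sec hJ hsec using ps
  choose s hs hs' using Y.ρ_surj
  have act : ∀ h, Commute h z → ∀ a ∈ J, π (cj (s (ρ h)) (sec (π a))) = π (cj h a) :=
    fun h hh a ha => by
      have j := (Y.ρ_eq (hs _) hh).1 (hs' _)
      have e1 : π (cj h (sec (π a))) = π (cj h a) := by
        rw [pe _ (Y.norm h hh _ (hJ _)) _ (Y.norm h hh a ha)]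
        have := nN h hh _ ((pe _ (hJ _) a ha).1 (hsec _))
        simpa [cj, mul_assoc] using this
      rw [← e1, show s (ρ h) = s (ρ h) * h⁻¹ * h by simp, ← cj_cj]
      have b := Y.norm h hh _ (hJ (π a))
      rcases Y.comm _ j _ b with e | e <;> rw [e]
      rw [pm z Y.zJ _ b, (p0 z Y.zJ).2 zN, zero_add]
  let inst : DistribMulAction Γ (Additive (J ⧸ N.subgroupOf J)) :=
    { smul := fun γ v => π (cj (s γ) (sec v))
      one_smul := fun v => by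
        change π (cj (s 1) (sec v)) = v
        rw [← Y.ρ_one, ← hsec v, act 1 (Commute.one_left z) _ (hJ v)]; simp [cj]
      mul_smul := fun a b v => by
        change π (cj (s (a * b)) (sec v)) = π (cj (s a) (sec (π (cj (s b) (sec v)))))
        have := act _ ((hs a).mul_left (hs b)) _ (hJ v)
        rw [Y.ρ_mul _ _ (hs a) (hs b), hs', hs', hsec] at this
        have e := act _ (hs a) _ (Y.norm _ (hs b) _ (hJ v))
        rw [hs'] at e
        rw [this, e, cj_cj]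
      smul_zero := fun a => by
        change π (cj (s a) (sec 0)) = 0
        exact (p0 _ (Y.norm _ (hs a) _ (hJ 0))).2 (nN _ (hs a) _ ((p0 _ (hJ 0)).1 (hsec 0)))
      smul_add := fun a u v => by
        change π (cj (s a) (sec (u + v))) = π (cj (s a) (sec u)) + π (cj (s a) (sec v))
        have := act _ (hs a) _ (J.mul_mem (hJ u) (hJ v))
        rw [hs', pm _ (hJ u) _ (hJ v), hsec, hsec] at this
        rw [this, cj_mul, pm _ (Y.norm _ (hs a) _ (hJ u)) _ (Y.norm _ (hs a) _ (hJ v))] }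
  refine ⟨_, _, AddCommGroup.zmodModule fun v => ?_, inst, π, pm, fun v => ⟨_, hJ v, hsec v⟩, p0,
    act, ?_⟩
  · rw [two_nsmul, ← hsec v, ← pm _ (hJ v) _ (hJ v), p0 _ (J.mul_mem (hJ v) (hJ v))]
    rcases Y.sqr _ (hJ v) with e | e <;> simp [e, zN]
  · rw [card_eq_card_quotient_mul_card_subgroup (N.subgroupOf J),
      Nat.card_congr (subgroupOfEquivOfLe hN).toEquiv]
    rfl

end LY

namespace MQ

variable {J Z N : Subgroup G} {z : G} {Γ : Type*} [Group Γ] {ρ : G → Γ} {V : Type u}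
  [AddCommGroup V] [Module (ZMod 2) V] [DistribMulAction Γ V] {π : G → V} (M : MQ J N z ρ π)
include M

theorem π_one : π 1 = 0 := (M.π_zero 1 J.one_mem).2 N.one_mem

theorem π_inv {a : G} (ha : a ∈ J) : π a⁻¹ = π a :=
  add_eq_zero2.1 (by rw [← M.π_mul _ (J.inv_mem ha) a ha, inv_mul_cancel, M.π_one])

theorem π_eq {a b : G} (ha : a ∈ J) (hb : b ∈ J) : π a = π b ↔ a * b⁻¹ ∈ N := by
  rw [← M.π_zero _ (J.mul_mem ha (J.inv_mem hb)), M.π_mul _ ha _ (J.inv_mem hb), M.π_inv hb,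
    add_eq_zero2]

/-- the image of a subgroup -/
def im (A : Subgroup G) : AddSubgroup V where
  carrier := {v | ∃ a ∈ J ⊓ A, π a = v}
  zero_mem' := ⟨1, one_mem _, M.π_one⟩
  add_mem' := by
    rintro _ _ ⟨a, ha, rfl⟩ ⟨b, hb, rfl⟩
    exact ⟨a * b, mul_mem ha hb, M.π_mul _ ha.1 _ hb.1⟩
  neg_mem' := fun h => by rwa [neg2]

/-- the preimage of a subspace -/
def pre (K : AddSubgroup V) : Subgroup G where
  carrier := {a | a ∈ J ∧ π a ∈ K}
  one_mem' := ⟨J.one_mem, M.π_one ▸ K.zero_mem⟩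
  mul_mem' := fun {a b} ha hb => ⟨J.mul_mem ha.1 hb.1, M.π_mul _ ha.1 _ hb.1 ▸ K.add_mem ha.2 hb.2⟩
  inv_mem' := fun {a} ha => ⟨J.inv_mem ha.1, (M.π_inv ha.1).symm ▸ ha.2⟩

theorem card_im {A : Subgroup G} (hN : N ≤ A) (hA : A ≤ J) :
    Nat.card A = Nat.card N * Nat.card (M.im A) := by
  let φ : A →* Multiplicative V :=
    { toFun := fun a => Multiplicative.ofAdd (π a)
      map_one' := congrArg _ M.π_one
      map_mul' := fun a b => congrArg _ (M.π_mul _ (hA a.2) _ (hA b.2)) }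
  have e1 : φ.ker = N.subgroupOf A := by
    ext a; exact M.π_zero a (hA a.2)
  rw [← φ.ker.card_mul_index, index_ker, e1, Nat.card_congr (subgroupOfEquivOfLe hN).toEquiv]
  congr 1
  exact Nat.card_congr ⟨fun x => ⟨x.1.toAdd, by
    obtain ⟨_, a, rfl⟩ := x; exact ⟨a, ⟨hA a.2, a.2⟩, rfl⟩⟩, fun x => ⟨Multiplicative.ofAdd x.1, by
    obtain ⟨_, a, ha, rfl⟩ := x; exact ⟨⟨a, ha.2⟩, rfl⟩⟩, fun _ => rfl, fun _ => rfl⟩

theorem card_pre (hN : N ≤ J) (K : AddSubgroup V) :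
    Nat.card (M.pre K) = Nat.card N * Nat.card K := by
  rw [M.card_im (A := M.pre K) (fun a ha => ⟨hN ha, (M.π_zero a (hN ha)).2 ha ▸ K.zero_mem⟩)
    fun _ h => h.1]
  congr 3
  refine le_antisymm ?_ fun v hv => ?_
  · rintro _ ⟨a, ha, rfl⟩; exact ha.2.2
  · obtain ⟨a, ha, rfl⟩ := M.surj v
    exact ⟨a, ⟨ha, ha, hv⟩, rfl⟩

theorem fix_iff (Y : LY J Z z ρ) {h a : G} (hh : Commute h z) (ha : a ∈ J) :
    ρ h • π a = π a ↔ cj h a * a⁻¹ ∈ N := by
  rw [M.act h hh a ha, M.π_eq (Y.norm h hh a ha) ha]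

theorem nm (Y : LY J Z z ρ) {h a : G} (hh : Commute h z) (ha : a ∈ J) :
    ρ h • π a + π a = π (cj h a * a⁻¹) := by
  rw [M.act h hh a ha, M.π_mul _ (Y.norm h hh a ha) _ (J.inv_mem ha), M.π_inv ha]

theorem exists_QV (Y : LY J N z ρ)
    (inner : ∀ g, Commute g z → (∀ a ∈ J, cj g a * a⁻¹ ∈ N) → g ∈ J) :
    ∃ X : QV Γ V, (∀ a ∈ J, ∀ b ∈ J, X.B (π a) (π b) = sg a b) ∧
      ∀ a ∈ J, X.f (π a) = 0 ↔ a * a = 1 := by
  classical
  choose sec hJ hsec using M.surj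
  have w1 : ∀ a ∈ J, ∀ b ∈ J, sg (sec (π a)) b = sg a b := fun a ha b hb => by
    have t := (M.π_eq (hJ _) ha).1 (hsec _)
    rw [← inv_mul_cancel_right (sec (π a)) a, Y.sg_mul_left (Y.ZJ t) ha hb,
      sg_eq_zero.2 (Y.cen t hb), zero_add]
  have w2 : ∀ a ∈ J, ∀ b ∈ J, sg (sec (π a)) (sec (π b)) = sg a b := fun a ha b hb => by
    rw [w1 a ha _ (hJ _), sg_comm, w1 b hb a ha, sg_comm]
  have w3 : ∀ a ∈ J, sec (π a) * sec (π a) = a * a := fun a ha => by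
    have t := (M.π_eq (hJ _) ha).1 (hsec _)
    rw [← inv_mul_cancel_right (sec (π a)) a, (Y.cen t ha).symm.mul_mul_mul_comm, Y.Zsq _ t, one_mul]
  have ad : ∀ u u' v, sg (sec (u + u')) (sec v) = sg (sec u) (sec v) + sg (sec u') (sec v) :=
    fun u u' v => by
      rw [← Y.sg_mul_left (hJ _) (hJ _) (hJ _), ← w1 _ (J.mul_mem (hJ u) (hJ u')) _ (hJ v),
        M.π_mul _ (hJ u) _ (hJ u'), hsec, hsec]
  have z0 : ∀ v, sg (sec 0) (sec v) = 0 := fun v => by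
    have := ad 0 0 v
    rwa [add_zero, left_eq_add] at this
  let B : LinearMap.BilinForm (ZMod 2) V := LinearMap.mk₂ (ZMod 2) (fun u v => sg (sec u) (sec v))
    ad (fun c u v => by rcases z2c c with rfl | rfl <;> simp [z0])
    (fun u v v' => by rw [sg_comm, ad, sg_comm, sg_comm (sec v')])
    (fun c u v => by rcases z2c c with rfl | rfl <;> simp [sg_comm (sec u), z0])
  have hB : ∀ a ∈ J, ∀ b ∈ J, B (π a) (π b) = sg a b := w2
  have nd : ∀ v, (∀ u, B v u = 0) → v = 0 := fun v h => by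
    rw [← hsec v]
    exact (M.π_zero _ (hJ v)).2 ((Y.large _).1 fun a ha => sg_eq_zero.1 (by
      rw [← hB _ (hJ v) a ha, hsec, h]))
  let f : V → ZMod 2 := fun v => if sec v * sec v = 1 then 0 else 1
  have hf : ∀ a ∈ J, f (π a) = if a * a = 1 then 0 else 1 := fun a ha => by simp only [f, w3 a ha]
  refine ⟨⟨B, f, ⟨nd, fun v h => nd v fun u => (sg_comm _ _).trans (h u)⟩, fun u v => ?_,
    fun g v => ?_, fun g H => ?_⟩, hB, fun a ha => by simp [hf a ha]⟩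
  · obtain ⟨a, ha, rfl⟩ := M.surj u
    obtain ⟨b, hb, rfl⟩ := M.surj v
    rw [← M.π_mul a ha b hb, hf _ (J.mul_mem ha hb), hf a ha, hf b hb, hB a ha b hb]
    have e : a * b * (a * b) = cj a b * (a * a) * b := by simp [cj, mul_assoc]
    have zb := (Y.cz hb).eq
    have n := Y.ne
    rcases z2c (sg a b) with h | h <;> rw [h, e]
    · rw [cj_eq.2 (sg_eq_zero.1 h)]
      rcases Y.sqr a ha with e1 | e1 <;> rcases Y.sqr b hb with e2 | e2 <;>
        simp [e1, e2, n, zb, mul_assoc, Y.sq] <;> rfl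
    · rw [(Y.sg_one_iff ha hb).1 h]
      rcases Y.sqr a ha with e1 | e1 <;> rcases Y.sqr b hb with e2 | e2 <;>
        simp [e1, e2, n, ← mul_assoc b, zb, mul_assoc, Y.sq, Y.zz] <;> rfl
  · obtain ⟨h, hh, rfl⟩ := Y.ρ_surj g
    obtain ⟨a, ha, rfl⟩ := M.surj v
    rw [M.act h hh a ha, hf _ (Y.norm h hh a ha), hf a ha, ← cj_mul]
    simp [cj]
  · obtain ⟨h, hh, rfl⟩ := Y.ρ_surj g
    exact Y.ρ_J (inner h hh fun a ha => (M.fix_iff Y hh ha).1 (H _))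

end MQ

end Cfsg.Agent.H96.Par
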