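/-
Four-groups acting on `J = 2^k × 2^{1+8}`.
-/
import Cfsg.Agent.H96.PaD

set_option autoImplicit false
set_option linter.unusedSimpArgs false
set_option linter.unusedSectionVars false

namespace Cfsg.Agent.H96.Par

open Subgroup H4.GF H4.GF.M43 H4.GF.M43.QVx

universe u

variable {G : Type u} [Group G] {J Z : Subgroup G} {z : G} {Γ : Type*} [Group Γ] {ρ : G → Γ}
  {L : Subgroup Γ} {τ : W → Γ}

theorem mem_cen {a b : G} : a ∈ centralizer ({b} : Set G) ↔ Commute a b :=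
  mem_centralizer_singleton_iff

theorem LY.gen (Y : LY J Z z ρ) (T : TD L τ) (P : Subgroup G)
    (hP : ∀ k v, Commute k z → v ≠ 0 → ρ k = τ v → k * k ∈ P) {k : G} (hk : Commute k z)
    (hL : ρ k ∈ L) : ∃ m ∈ P, Commute m z ∧ ∃ j ∈ J, k = j * m := by
  let M : Subgroup Γ :=
    { carrier := {γ | ∃ m ∈ P, Commute m z ∧ ρ m = γ}
      one_mem' := ⟨1, P.one_mem, Commute.one_left z, Y.ρ_one⟩
      mul_mem' := by
        rintro _ _ ⟨a, ha, a1, rfl⟩ ⟨b, hb, b1, rfl⟩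
        exact ⟨a * b, P.mul_mem ha hb, a1.mul_left b1, Y.ρ_mul _ _ a1 b1⟩
      inv_mem' := by
        rintro _ ⟨a, ha, a1, rfl⟩
        exact ⟨a⁻¹, P.inv_mem ha, a1.inv_left, Y.ρ_inv a1⟩ }
  obtain ⟨m, hm, m1, e⟩ := T.gen M (fun v hv => by
    obtain ⟨g, hg, e⟩ := Y.ρ_surj (τ v)
    have g2 := hg.mul_left hg
    refine ⟨g * g * (g * g), P.mul_mem (hP g v hg hv e) (hP g v hg hv e), g2.mul_left g2, ?_⟩
    rw [Y.ρ_mul _ _ g2 g2, Y.ρ_mul _ _ hg hg, e, ← mul_assoc, T.cube, one_mul]) hL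
  exact ⟨m, hm, m1, k * m⁻¹, (Y.ρ_eq hk m1).1 e.symm, by simp⟩

theorem LY.exists_U (Y : LY J Z z ρ) :
    ∃ (V : Type u) (_ : AddCommGroup V) (_ : Module (ZMod 2) V) (_ : DistribMulAction Γ V)
      (π : G → V), MQ J (zpowers z) z ρ π :=
  Y.exists_MQ (zpowers_le.2 Y.zJ) (mem_zpowers z) fun g hg a ha => by
    rcases (H15.mem_zpowers_two Y.sq).1 ha with rfl | rfl
    · simp [cj]
    · rw [cj_eq.2 hg]; exact ha

/-- the data of the module `J / Z` -/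
structure SD (J Z : Subgroup G) (z : G) (ρ : G → Γ) (L : Subgroup Γ) (τ : W → Γ) {V : Type u}
    [AddCommGroup V] [Module (ZMod 2) V] [DistribMulAction Γ V] (π : G → V) (X : QV Γ V) :
    Prop where
  Y : LY J Z z ρ
  M : MQ J Z z ρ π
  hB : ∀ a ∈ J, ∀ b ∈ J, X.B (π a) (π b) = sg a b
  hf : ∀ a ∈ J, X.f (π a) = 0 ↔ a * a = 1
  cV : Nat.card V = 256
  T : TD L τ
  KZ : ∀ g, Commute g z → ρ g ∈ L → ∀ t ∈ Z, Commute g t

namespace SD

variable [Finite G] {V : Type u} [AddCommGroup V] [Module (ZMod 2) V] [DistribMulAction Γ V]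
  {π : G → V} {X : QV Γ V} (S : SD J Z z ρ L τ π X)
include S

theorem fin : Finite V := Nat.finite_of_card_ne_zero (by rw [S.cV]; decide)

theorem B0 {a b : G} (ha : a ∈ J) (hb : b ∈ J) : X.B (π a) (π b) = 0 ↔ Commute a b := by
  rw [S.hB a ha b hb, sg_eq_zero]; rfl

theorem mem_J {g e : G} (hg : Commute g z) (he : e ∈ J) (ee : e * e = 1)
    (h : ∀ x ∈ J, Commute x e → Commute x g) : g ∈ J :=
  have := S.fin
  (S.Y.ρ_ker g hg).1 (hyp_triv X ((S.hf e he).2 ee) fun v hv => by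
    obtain ⟨x, hx, rfl⟩ := S.M.surj v
    rw [S.M.act g hg x hx, cj_eq.2 (h x hx ((S.B0 hx he).1 hv)).symm])

theorem lkey {t : G} (ht : Commute t z) (tZ : ∀ u ∈ Z, Commute t u) {r : Γ} (hr : r ∈ L)
    (c : r * ρ t = ρ t * r) (o : ∀ v : V, r • r • v = v + r • v) {x : G} (hx : x ∈ J)
    (h : ρ t • π x = π x) : cj t x = x ∨ cj t x = z * x := by
  obtain ⟨U, _, _, _, p, M⟩ := S.Y.exists_U
  obtain ⟨g, hg, rfl⟩ := S.Y.ρ_surj r
  have fZ : ∀ k, Commute k z → (∀ u ∈ Z, Commute k u) → ∀ u ∈ Z, ρ k • p u = p u :=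
    fun k hk h u hu => by rw [M.act k hk u (S.Y.ZJ hu), cj_eq.2 (h u hu)]
  have x1 := S.Y.norm g hg x hx
  have x2 := S.Y.norm g hg _ x1
  have y : x * cj g x * cj g (cj g x) ∈ Z := by
    rw [← S.M.π_zero _ (J.mul_mem (J.mul_mem hx x1) x2), S.M.π_mul _ (J.mul_mem hx x1) _ x2,
      S.M.π_mul _ hx _ x1, ← S.M.act g hg _ x1, ← S.M.act g hg _ hx, o, aa]
  have e1 := fZ t ht tZ _ y
  rw [M.π_mul _ (J.mul_mem hx x1) _ x2, M.π_mul _ hx _ x1, ← M.act g hg _ x1,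
    ← M.act g hg _ hx, smul_add, smul_add, ← cm_smul c, ← cm_smul c, ← cm_smul c] at e1
  have e2 := fZ g hg (S.KZ g hg hr) _ ((S.M.fix_iff S.Y ht hx).1 h)
  rw [← M.nm S.Y ht hx] at e2
  have e3 : ρ t • p x = p x := by
    obtain ⟨n, hn⟩ : ∃ n, ρ t • p x = n + p x := ⟨_, (aa'' _ _).symm⟩
    rw [hn, aa''] at e2
    rw [hn] at e1 ⊢
    simp only [smul_add, e2] at e1
    rw [← add_eq_zero2] at e1
    simp only [add_assoc, add_comm, add_left_comm, aa, aa', add_zero, zero_add] at e1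
    rw [e1, zero_add]
  rcases (H15.mem_zpowers_two S.Y.sq).1 ((M.fix_iff S.Y ht hx).1 e3) with e | e
  · exact .inl (mul_inv_eq_one.1 e)
  · exact .inr (mul_inv_eq_iff_eq_mul.1 e)

omit S in
theorem cent_two {t : G} {K : Subgroup G}
    (h : ∀ x ∈ K, cj t x = x ∨ cj t x = z * x) :
    Nat.card K ≤ 2 * Nat.card (K ⊓ centralizer {t} : Subgroup G) :=
  card_le_two_mul fun a ha b hb h1 h2 => by
    rw [mem_cen, Commute.symm_iff, ← cj_eq] at h1 h2 ⊢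
    have : cj t a⁻¹ = (cj t a)⁻¹ := by simp [cj, mul_assoc]
    rw [cj_mul, this, (h a ha).resolve_left h1, (h b hb).resolve_left h2]
    simp [mul_assoc]

theorem card_fx {t : G} (ht : Commute t z) (tZ : ∀ u ∈ Z, Commute t u) {r : Γ} (hr : r ∈ L)
    (c : r * ρ t = ρ t * r) (o : ∀ v : V, r • r • v = v + r • v) :
    Nat.card (Fx V (ρ t)) ≤ 2 * Nat.card (S.M.im (J ⊓ centralizer {t})) := by
  have e1 := cent_two (K := S.M.pre (Fx V (ρ t))) fun x hx => S.lkey ht tZ hr c o hx.1 (mem_Fx.1 hx.2)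
  have e2 := card_le_of_le (inf_le_inf_right (centralizer {t})
    (show S.M.pre (Fx V (ρ t)) ≤ J from fun _ h => h.1))
  rw [S.M.card_pre S.Y.ZJ] at e1
  rw [S.M.card_im (A := J ⊓ centralizer {t})
    (fun u hu => ⟨S.Y.ZJ hu, mem_cen.2 (tZ u hu).symm⟩) inf_le_left] at e2
  have : 0 < Nat.card Z := Nat.card_pos
  nlinarith

theorem lift {t g : G} (ht : Commute t z) (hg : Commute g z) (hL : ρ g ∈ L)
    (hj : cj g t * t⁻¹ ∈ J) (h : π (cj g t * t⁻¹) ∈ Im V (ρ t)) :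
    ∃ k, Commute k z ∧ ρ k = ρ g * ρ g ∧ Commute k t := by
  obtain ⟨v, e⟩ := mem_Im.1 h
  obtain ⟨x, hx, rfl⟩ := S.M.surj v
  have x1 := S.Y.norm t ht _ (J.inv_mem hx)
  rw [← S.M.π_inv hx, S.M.act t ht _ (J.inv_mem hx), S.M.π_inv hx, add_comm,
    ← S.M.π_mul _ hx _ x1, eq_comm, S.M.π_eq hj (J.mul_mem hx x1)] at e
  have k1 : Commute (x⁻¹ * g) z := (S.Y.cz hx).inv_left.mul_left hg
  have r1 : ρ (x⁻¹ * g) = ρ g := by
    rw [S.Y.ρ_mul _ _ (S.Y.cz hx).inv_left hg, S.Y.ρ_J (J.inv_mem hx), one_mul]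
  have e1 : cj (x⁻¹ * g) t = (cj g t * t⁻¹ * (x * cj t x⁻¹)⁻¹) * t := by
    rw [← cj_eq.2 (S.Y.cen e (J.inv_mem hx)).symm]
    simp [cj, mul_assoc]
  refine ⟨x⁻¹ * g * (x⁻¹ * g), k1.mul_left k1, by rw [S.Y.ρ_mul _ _ k1 k1, r1], ?_⟩
  rw [← cj_eq, ← cj_cj, e1, cj_mul, e1, cj_eq.2 (S.KZ _ k1 (r1 ▸ hL) _ e), ← mul_assoc,
    S.Y.Zsq _ e, one_mul]

theorem cj_J {t g : G} (ht : Commute t z) (hg : Commute g z) (c : ρ g * ρ t = ρ t * ρ g) :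
    cj g t * t⁻¹ ∈ J := by
  rw [← S.Y.ρ_eq (by simpa [cj_eq.2 hg] using (cj_comm (g := g)).2 ht) ht, S.Y.ρ_cj hg ht, cj_eq]
  exact c

theorem lemP {Jc : V →+ V} (C : CF X L Jc) {s t : G} (hs : Commute s z) (ht : Commute t z)
    (sZ : ∀ u ∈ Z, Commute s u) (tZ : ∀ u ∈ Z, Commute t u) (ss : s * s = 1) (tt : t * t = 1)
    (c : Commute s t) (n1 : s ∉ J) (n2 : t ∉ J) (n3 : s * t ∉ J)
    (h1 : ∀ x ∈ J, Commute x s → Commute x t) (h2 : ∀ x ∈ J, Commute x t → Commute x s)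
    (h3 : ∀ x ∈ J, Commute x (s * t) → Commute x s)
    (hN : ∀ g, Commute g z → ρ g ∈ L → Commute g s → Commute (g * g) t) : False := by
  have := S.fin
  have st := hs.mul_left ht
  have stst : s * t * (s * t) = 1 := by rw [c.symm.mul_mul_mul_comm, ss, tt, one_mul]
  have fA : ∀ d, Commute d z → (∀ x ∈ J, Commute x s → Commute x d) →
      S.M.im (J ⊓ centralizer {s}) ≤ Fx V (ρ d) := by
    rintro d hd h _ ⟨x, hx, rfl⟩
    rw [mem_Fx, S.M.act d hd x hx.1, cj_eq.2 (h x hx.1 (mem_cen.1 hx.2.2)).symm]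
  have key : ∀ d, Commute d z → (∀ u ∈ Z, Commute d u) → d * d = 1 → d ∉ J →
      (∀ x ∈ J, Commute x d → Commute x s) → Lin Jc (ρ d) →
      Nat.card (Fx V (ρ d)) ≤ 2 * Nat.card (S.M.im (J ⊓ centralizer {s})) := by
    intro d hd dZ dd n h l
    obtain ⟨r, hr, c, o, -⟩ := C.keyP S.cV l (S.Y.ρ_sq hd dd) fun e => n ((S.Y.ρ_ker d hd).1 e)
    refine (S.card_fx hd dZ hr c o).trans (Nat.mul_le_mul_left 2 (AddSubgroup.card_le_of_le ?_))
    rintro _ ⟨x, hx, rfl⟩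
    exact ⟨x, ⟨hx.1, hx.1, mem_cen.2 (h x hx.1 (mem_cen.1 hx.2.2))⟩, rfl⟩
  obtain ⟨l1, l2, F1, F2⟩ := C.four S.cV (S.Y.ρ_sq hs ss) (S.Y.ρ_sq ht tt)
    (by rw [← S.Y.ρ_mul _ _ hs ht, c.eq, S.Y.ρ_mul _ _ ht hs]) (fA s hs fun _ _ h => h) (fA t ht h1)
    (by
      rintro g (rfl | rfl | rfl)
      · exact key s hs sZ ss n1 fun _ _ h => h
      · exact key t ht tZ tt n2 h2
      · rw [← S.Y.ρ_mul _ _ hs ht]
        exact key _ st (fun u hu => (sZ u hu).mul_left (tZ u hu)) stst n3 h3)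
  obtain ⟨r, hr, cr, o, x, nx, H⟩ :=
    C.keyP S.cV l1 (S.Y.ρ_sq hs ss) fun e => n1 ((S.Y.ρ_ker s hs).1 e)
  refine nx (mem_Fx.1 (F2 ▸ mem_Fx.2 ?_))
  rw [mul_smul, H _ l2 (S.Y.ρ_sq ht tt) F1 ?_, ← mul_smul, S.Y.ρ_sq hs ss, one_smul]
  refine or_not.imp_left fun e => ?_
  obtain ⟨g, hg, rfl⟩ := S.Y.ρ_surj r
  have j := S.cj_J hs hg cr
  obtain ⟨k, hk, rk, ck⟩ := S.lift hs hg hr j (by
    have := card_Fx_Im' (V := V) (ρ s)
    rw [e, S.cV] at this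
    rw [AddSubgroup.eq_of_le_of_card_ge (im_le_fx (S.Y.ρ_sq hs ss)) (by omega), mem_Fx,
      S.M.act s hs _ j, ← S.M.π_inv j]
    congr 1
    have si : s⁻¹ = s := inv_eq_of_mul_eq_one_right ss
    simp [cj, mul_assoc, si, ss])
  have := hN k hk (rk ▸ L.mul_mem hr hr) ck
  have e1 := congrArg ρ this.eq
  have r3 : ρ g * ρ g * ρ g = 1 := X.faith _ fun v => by
    rw [mul_smul, mul_smul, o, o, add_comm v, aa']
  rwa [S.Y.ρ_mul _ _ (hk.mul_left hk) ht, S.Y.ρ_mul _ _ ht (hk.mul_left hk), S.Y.ρ_mul _ _ hk hk, rk,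
    ← mul_assoc (ρ g * ρ g), r3, one_mul] at e1

theorem nm_w {w b : G} (hw : w ∈ J) (hb : Commute b z)
    (h : ∀ x ∈ J, Commute x w → cj x b = b ∨ cj x b = w * b) (v : V) (hv : X.B v (π w) = 0) :
    ρ b • v + v = 0 ∨ ρ b • v + v = π w := by
  obtain ⟨x, hx, rfl⟩ := S.M.surj v
  rw [S.M.nm S.Y hb hx, show cj b x * x⁻¹ = b * (cj x b)⁻¹ by simp [cj, mul_assoc]]
  rcases h x hx ((S.B0 hx hw).1 hv) with e | e <;> rw [e]
  · exact .inl (by simp [S.M.π_one])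
  · exact .inr (by simp [S.M.π_inv hw])

theorem lemQ {Jc : V →+ V} (C : CF X L Jc) {w b : G} (hw : w ∈ J) (wZ : w ∉ Z) (ww : w * w = 1)
    (hb : Commute b z) (n : b ∉ J) (l : Lin Jc (ρ b))
    (h : ∀ x ∈ J, Commute x w → cj x b = b ∨ cj x b = w * b)
    (hN : ∀ g, Commute g z → ρ g ∈ L → Commute g b → ρ g • π w = π w) : False := by
  have := S.fin
  have w0 : π w ≠ 0 := fun e => wZ ((S.M.π_zero w hw).1 e)
  obtain ⟨wI, cI⟩ := sieg X (fun e => n ((S.Y.ρ_ker b hb).1 e)) w0 ((S.hf w hw).2 ww)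
    (S.nm_w hw hb h)
  have c := card_Fx_Im' (V := V) (ρ b)
  rw [cI, S.cV] at c
  obtain ⟨r, hr, cr, H⟩ := C.keyQ S.cV l (by omega)
  obtain ⟨g, hg, rfl⟩ := S.Y.ρ_surj r
  have K : ∀ x ∈ J, π x ∈ Fx V (ρ b) → Commute x b := fun x hx hF => by
    rw [← X.perp_Im] at hF
    rcases h x hx ((S.B0 hw hx).1 (hF _ wI)).symm with e | e
    · exact cj_eq.1 e
    · rw [X.perp_Im, mem_Fx, S.M.fix_iff S.Y hb hx,
        show cj b x * x⁻¹ = b * (cj x b)⁻¹ by simp [cj, mul_assoc], e] at hF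
      exact absurd (by simpa using hF) wZ
  have j := S.cj_J hb hg cr
  obtain ⟨k, hk, rk, ck⟩ := S.lift hb hg hr j (by
    rw [← X.perp_Fx]
    intro v hv
    obtain ⟨x, hx, rfl⟩ := S.M.surj v
    refine (S.B0 hx j).2 (Commute.mul_right ?_ (K x hx hv).inv_right)
    rw [← cj_inv' g x, cj_comm]
    refine K _ (S.Y.norm _ hg.inv_left x hx) ?_
    rw [← S.M.act _ hg.inv_left x hx, S.Y.ρ_inv hg]
    exact Fx_comm (Commute.inv_right cr.symm) hv)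
  have := hN k hk (rk ▸ L.mul_mem hr hr) ck
  rw [rk, mul_smul, H _ wI, ← C.comm _ hr, H _ wI, C.om, add_eq_left] at this
  exact (C.toCB.ne w0).1 this

theorem lemI (c4 : Nat.card Z = 4) {x b : G} (hx : Commute x z) (hb : Commute b z)
    (wZ : ∀ u ∈ Z, Commute (x * x) u) (c : Commute x b) (bb : b * b = 1)
    (x4 : x * x * (x * x) = 1) (n1 : x * x ∉ J) (n2 : b ∉ J) (n3 : b * (x * x) ∉ J)
    (h : ∀ y ∈ J, Commute y (x * x) → Commute y x ∧ Commute y b) : False := by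
  have := S.fin
  obtain ⟨U, _, _, _, p, M⟩ := S.Y.exists_U
  have cz : Nat.card (zpowers z) = 2 := by rw [Nat.card_zpowers, H15.orderOf_two S.Y.ne S.Y.sq]
  have cU : Nat.card U = 512 := by have := M.card; rw [cz, S.Y.card, c4] at this; omega
  have : Finite U := Nat.finite_of_card_ne_zero (by omega)
  have hw := hx.mul_left hx
  have ZB : Z ≤ J ⊓ centralizer {x * x} := fun u hu => ⟨S.Y.ZJ hu, mem_cen.2 (wZ u hu).symm⟩
  have N2 : ∀ v, Nm U (ρ x) (Nm U (ρ x) v) = ρ (x * x) • v + v := fun v => by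
    rw [Nm_apply, Nm_apply, S.Y.ρ_mul _ _ hx hx, smul_add, mul_smul, add_assoc, aa']
  have e1 := cent_two (t := x * x) (z := z) (K := M.pre (Fx U (ρ (x * x)))) fun y hy => by
    rcases (H15.mem_zpowers_two S.Y.sq).1 ((M.fix_iff S.Y hw hy.1).1 (mem_Fx.1 hy.2)) with e | e
    · exact .inl (mul_inv_eq_one.1 e)
    · exact .inr (mul_inv_eq_iff_eq_mul.1 e)
  have e2 := card_le_of_le (inf_le_inf_right (centralizer {x * x})
    (show M.pre (Fx U (ρ (x * x))) ≤ J from fun _ h => h.1))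
  have e3 := M.card_im ((zpowers_le.2 S.Y.mem).trans ZB) inf_le_left
  have e4 := S.M.card_im ZB inf_le_left
  rw [M.card_pre (zpowers_le.2 S.Y.zJ), cz] at e1
  rw [cz] at e3
  rw [c4] at e4
  have := jord cU (Nm U (ρ x)) (fun v => by
    rw [N2, N2, inv_fx (S.Y.ρ_sq hw x4), aa]) (β := M.im (J ⊓ centralizer {x * x})) (by
    rintro _ ⟨y, hy, rfl⟩
    exact mem_Fx.2 (by rw [M.act x hx y hy.1, cj_eq.2 (h y hy.1 (mem_cen.1 hy.2.2)).1.symm])) (by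
    rw [show ((Nm U (ρ x)).comp (Nm U (ρ x))).ker = Fx U (ρ (x * x)) from
      AddSubgroup.ext fun v => by rw [AddMonoidHom.mem_ker, AddMonoidHom.comp_apply, N2]; rfl]
    omega)
  refine z4z2 X S.cV (x := ρ x) (b := ρ b) (by
    rw [← S.Y.ρ_mul _ _ hx hb, c.eq, S.Y.ρ_mul _ _ hb hx]) (S.Y.ρ_sq hb bb) (by
    rw [← S.Y.ρ_mul _ _ hx hx, S.Y.ρ_sq hw x4]) (by
    rwa [← S.Y.ρ_mul _ _ hx hx, Ne, S.Y.ρ_ker _ hw]) (by rwa [Ne, S.Y.ρ_ker _ hb]) (by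
    rwa [← S.Y.ρ_mul _ _ hx hx, ← S.Y.ρ_mul _ _ hb hw, Ne, S.Y.ρ_ker _ (hb.mul_left hw)])
    (C := S.M.im (J ⊓ centralizer {x * x})) (by omega) ?_ ?_ <;> rintro _ ⟨y, hy, rfl⟩
  · rw [S.M.act x hx y hy.1, cj_eq.2 (h y hy.1 (mem_cen.1 hy.2.2)).1.symm]
  · rw [S.M.act b hb y hy.1, cj_eq.2 (h y hy.1 (mem_cen.1 hy.2.2)).2.symm]

end SD

end Cfsg.Agent.H96.Par
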