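/-
Conjugate frames, weak closure of `z` in `Z(J)`, isolated involutions.
-/
import Cfsg.Agent.H96.PaE
import Cfsg.Agent.H4.Basic

set_option autoImplicit false
set_option linter.unusedSimpArgs false
set_option linter.unusedSectionVars false

namespace Cfsg.Agent.H96.Par

open Subgroup H4.GF H4.GF.M43 H4.GF.M43.QVx H15

universe u

variable {G : Type u} [Group G] {J Z : Subgroup G} {z : G} {Γ : Type*} [Group Γ] {ρ : G → Γ}
  {L : Subgroup Γ} {τ : W → Γ}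

/-- no 2-subgroup is normalised by `L` -/
def O2 (L : Subgroup Γ) : Prop :=
  ∀ P : Subgroup Γ, IsPGroup 2 P → (∀ l ∈ L, ∀ p ∈ P, cj l p ∈ P) → P = ⊥

/-- `y` is isolated in `C(t)` -/
def Iso (t y : G) : Prop := ∀ g, Commute g t → Commute (cj g y) y → cj g y = y

theorem cj_mem {g a : G} {Q : Subgroup G} : cj g a ∈ cjs g Q ↔ a ∈ Q := conj_mem_cjs

theorem mem_cj {g a : G} {Q : Subgroup G} : a ∈ cjs g Q ↔ cj g⁻¹ a ∈ Q := by
  rw [← cj_mem (g := g) (a := cj g⁻¹ a), cj_inv']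

theorem cj_sur (g a : G) : ∃ b, a = cj g b := ⟨_, (cj_inv' g a).symm⟩

theorem cj_one (g : G) : cj g 1 = 1 := by simp [cj]

theorem cj_eq_one {g a : G} : cj g a = 1 ↔ a = 1 := by simp [cj]

theorem cj_sw (g h x : G) : cj (cj g h) (cj g x) = cj g (cj h x) := by simp [cj, mul_assoc]

theorem cj_iv (g x : G) : cj g x⁻¹ = (cj g x)⁻¹ := by simp [cj, mul_assoc]

theorem Iso.conj {t y : G} (h : Iso t y) (g : G) : Iso (cj g t) (cj g y) := fun k h1 h2 => by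
  obtain ⟨k, rfl⟩ := cj_sur g k
  rw [cj_sw] at h2 ⊢
  rw [h k (cj_comm.1 h1) (cj_comm.1 h2)]

namespace LY

variable (Y : LY J Z z ρ)
include Y

theorem conj (g : G) : LY (cjs g J) (cjs g Z) (cj g z) fun x => ρ (cj g⁻¹ x) := by
  refine ⟨cj_mem.2 Y.mem, fun e => Y.ne (cj_eq_one.1 e), map_mono Y.ZJ, fun t ht => ?_,
    fun k => ?_, fun a ha b hb => ?_, fun a ha => ?_, fun k hk a ha => ?_,
    by rw [card_cjs, card_cjs, Y.card], fun a b ha hb => ?_, fun γ => ?_, fun a ha => ?_⟩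
  · obtain ⟨t, rfl⟩ := cj_sur g t
    rw [← cj_mul, Y.Zsq t (cj_mem.1 ht), cj_one]
  · obtain ⟨k, rfl⟩ := cj_sur g k
    rw [cj_mem, ← Y.large]
    refine ⟨fun h a ha => cj_comm.1 (h _ (cj_mem.2 ha)), fun h a ha => ?_⟩
    obtain ⟨a, rfl⟩ := cj_sur g a
    exact cj_comm.2 (h a (cj_mem.1 ha))
  · obtain ⟨a, rfl⟩ := cj_sur g a
    obtain ⟨b, rfl⟩ := cj_sur g b
    rw [cj_sw, ← cj_mul, cj_inj, cj_inj]
    exact Y.comm a (cj_mem.1 ha) b (cj_mem.1 hb)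
  · obtain ⟨a, rfl⟩ := cj_sur g a
    rw [← cj_mul, cj_eq_one, cj_inj]
    exact Y.sqr a (cj_mem.1 ha)
  · obtain ⟨k, rfl⟩ := cj_sur g k
    obtain ⟨a, rfl⟩ := cj_sur g a
    rw [cj_sw, cj_mem]
    exact Y.norm k (cj_comm.1 hk) a (cj_mem.1 ha)
  · obtain ⟨a, rfl⟩ := cj_sur g a
    obtain ⟨b, rfl⟩ := cj_sur g b
    rw [← cj_mul, cj_inv, cj_inv, cj_inv]
    exact Y.ρ_mul a b (cj_comm.1 ha) (cj_comm.1 hb)
  · obtain ⟨a, ha, rfl⟩ := Y.ρ_surj γ
    exact ⟨cj g a, cj_comm.2 ha, by rw [cj_inv]⟩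
  · obtain ⟨a, rfl⟩ := cj_sur g a
    rw [cj_inv, cj_mem]
    exact Y.ρ_ker a (cj_comm.1 ha)

/-- `ρ` as a homomorphism -/
def hom : centralizer ({z} : Set G) →* Γ where
  toFun := fun g => ρ g
  map_one' := Y.ρ_one
  map_mul' := fun a b => Y.ρ_mul a b (mem_cen.1 a.2) (mem_cen.1 b.2)

theorem o2 (hO : O2 L) {R : Subgroup G} (h1 : ∀ r ∈ R, Commute r z) (h2 : IsPGroup 2 R)
    (h3 : ∀ k, Commute k z → ρ k ∈ L → ∀ r ∈ R, cj k r ∈ R) : R ≤ J := fun r hr => by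
  have := hO ((R.subgroupOf _).map Y.hom) ((h2.comap_subtype).map _) (by
    rintro l hl _ ⟨p, hp, rfl⟩
    obtain ⟨k, hk, rfl⟩ := Y.ρ_surj l
    exact ⟨⟨cj k p, mem_cen.2 (by simpa [cj_eq.2 hk] using (cj_comm (g := k)).2 (mem_cen.1 p.2))⟩,
      h3 k hk hl p hp, Y.ρ_cj hk (mem_cen.1 p.2)⟩)
  exact (Y.ρ_ker r (h1 r hr)).1 ((eq_bot_iff_forall _).1 this _ ⟨⟨r, mem_cen.2 (h1 r hr)⟩, hr, rfl⟩)

theorem ex_nc [Finite G] : ∃ a ∈ J, ∃ b ∈ J, cj a b = z * b := by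
  by_contra hno
  push Not at hno
  have := card_le_of_le (show J ≤ Z from fun a ha => (Y.large a).1 fun b hb =>
    cj_eq.1 ((Y.comm a ha b hb).resolve_right (hno a ha b hb)))
  have h := Y.card
  have : 0 < Nat.card Z := Nat.card_pos
  omega

theorem le_eq [Finite G] {J' Z' : Subgroup G} {w : G} {ρ' : G → Γ} (Y' : LY J' Z' w ρ')
    (h : J ≤ J') : z = w := by
  obtain ⟨a, ha, b, hb, e⟩ := Y.ex_nc
  rcases Y'.comm a (h ha) b (h hb) with f | f <;> rw [e] at f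
  · exact absurd (by simpa using f) Y.ne
  · simpa using f

theorem iso2 {t y x : G} (N : Iso t y) (hy : Commute y z) (yy : y * y = 1) (yt : Commute y t)
    (hx : x ∈ J) (xt : Commute x t) : Commute x y := by
  have yi : y⁻¹ = y := inv_eq_of_mul_eq_one_right yy
  have y2 : cj x y * cj x y = 1 := by rw [← cj_mul, yy, cj_one]
  have e : cj y x * x⁻¹ = y * cj x y := by simp [cj, yi, mul_assoc]
  have m := J.mul_mem (Y.norm y hy x hx) (J.inv_mem hx)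
  rw [e] at m
  have e2 : cj (cj x y) y = y * (y * cj x y * (y * cj x y)) := by
    rw [cj, inv_eq_of_mul_eq_one_right y2]; simp only [← mul_assoc, yy, one_mul]
  have yt' : Commute (cj x y) t := by simpa [cj_eq.2 xt] using (cj_comm (g := x)).2 yt
  rcases Y.sqr _ m with f | f <;> rw [f] at e2
  · exact cj_eq.1 (N x xt (cj_eq.1 (by rw [e2, mul_one])))
  · have := N _ yt' (by rw [e2]; exact (Commute.refl y).mul_left hy.symm)
    rw [e2] at this
    exact absurd (by simpa using this) Y.ne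

theorem four [Finite G] (c4 : Nat.card Z = 4) {t u : G} (ht : t ∈ Z) (t1 : t ≠ 1) (t2 : t ≠ z)
    (hu : u ∈ Z) : u = 1 ∨ u = z ∨ u = t ∨ u = z * t := by
  classical
  have n1 : z * t ≠ 1 := fun e => t2 (by rw [← Y.zz t, e, mul_one])
  have : ({1, z, t, z * t} : Set G) = Z := Set.eq_of_subset_of_ncard_le (by
    rintro _ (rfl | rfl | rfl | rfl)
    exacts [Z.one_mem, Y.mem, ht, Z.mul_mem Y.mem ht]) (by
    rw [← Nat.card_coe_set_eq, SetLike.coe_sort_coe, c4,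
      Set.ncard_insert_of_notMem (by simp [Y.ne.symm, t1.symm, n1.symm]),
      Set.ncard_insert_of_notMem (by simp [t2.symm, t1]),
      Set.ncard_pair (by simp [Y.ne])])
  exact (show u ∈ ({1, z, t, z * t} : Set G) from this ▸ hu)

theorem ex4 [Finite G] (c4 : Nat.card Z = 4) : ∃ a ∈ Z, a ≠ 1 ∧ a ≠ z := by
  by_contra hno
  push Not at hno
  have := card_le_of_le (show Z ≤ zpowers z from fun a ha =>
    (mem_zpowers_two Y.sq).2 (or_iff_not_imp_left.2 (hno a ha)))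
  rw [Nat.card_zpowers, orderOf_two Y.ne Y.sq] at this
  omega

theorem cj4 [Finite G] (c4 : Nat.card Z = 4) {g t : G} (hg : Commute g z) (ht : t ∈ Z) :
    cj g t = t ∨ cj g t = z * t := by
  by_cases t1 : t = 1
  · exact .inl (by rw [t1, cj_one])
  by_cases t2 : t = z
  · exact .inl (by rw [t2, cj_eq.2 hg])
  rcases Y.four c4 ht t1 t2 (Y.normZ hg ht) with e | e | e
  · exact absurd (cj_eq_one.1 e) t1
  · exact absurd (cj_inj.1 (e.trans (cj_eq.2 hg).symm)) t2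
  · exact e

theorem mul4 [Finite G] (c4 : Nat.card Z = 4) {g h t : G} (hg : Commute g z) (hh : Commute h z)
    (ht : t ∈ Z) (n1 : ¬ Commute g t) (n2 : ¬ Commute h t) : Commute (g * h) t := by
  rw [← cj_eq] at n1 n2 ⊢
  rw [← cj_cj, (Y.cj4 c4 hh ht).resolve_left n2, cj_mul, cj_eq.2 hg,
    (Y.cj4 c4 hg ht).resolve_left n1, Y.zz]

theorem sq4 [Finite G] (c4 : Nat.card Z = 4) {g t : G} (hg : Commute g z) (ht : t ∈ Z) :
    Commute (g * g) t := by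
  by_cases h : Commute g t
  exacts [h.mul_left h, Y.mul4 c4 hg hg ht h h]

theorem all4 [Finite G] (c4 : Nat.card Z = 4) {g t u : G} (hg : Commute g z) (ht : t ∈ Z)
    (t1 : t ≠ 1) (t2 : t ≠ z) (h : Commute g t) (hu : u ∈ Z) : Commute g u := by
  rcases Y.four c4 ht t1 t2 hu with rfl | rfl | rfl | rfl
  exacts [Commute.one_right g, hg, h, hg.mul_right h]

theorem zt {t : G} (ht : t ∈ Z) (t1 : t ≠ 1) (t2 : t ≠ z) : z * t ∈ Z ∧ z * t ≠ 1 ∧ z * t ≠ z :=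
  ⟨Z.mul_mem Y.mem ht, fun e => t2 (by rw [← Y.zz t, e, mul_one]), by simpa using t1⟩

theorem cross [Finite G] {J' Z' : Subgroup G} {w : G} {ρ' : G → Γ} (Y' : LY J' Z' w ρ')
    (c4 : Nat.card Z = 4) (c4' : Nat.card Z' = 4) (n : w ≠ z) {u b : G} (hu : u ∈ Z) (hb : b ∈ Z')
    (h1 : Commute u w) (h2 : Commute b z) : Commute b u := by
  refine cj_eq.1 ((Y.cj4 c4 h2 hu).resolve_right fun e => ?_)
  have e1 : cj u b = z * b := by
    have : cj u b = (cj b u * u⁻¹)⁻¹ * b := by simp [cj, mul_assoc]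
    rw [this, e, mul_inv_cancel_right, Y.inv_Z Y.mem]
  rcases Y'.cj4 c4' h1 hb with f | f <;> rw [e1] at f
  · exact Y.ne (by simpa using f)
  · exact n (by simpa using f.symm)

end LY

namespace SD

variable [Finite G] {V : Type u} [AddCommGroup V] [Module (ZMod 2) V] [DistribMulAction Γ V]
  {π : G → V} {X : QV Γ V} (S : SD J Z z ρ L τ π X)
include S

theorem conj (g : G) : SD (cjs g J) (cjs g Z) (cj g z) (fun x => ρ (cj g⁻¹ x)) L τ
    (fun x => π (cj g⁻¹ x)) X := by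
  refine ⟨S.Y.conj g, ⟨fun a ha b hb => ?_, fun v => ?_, fun a ha => ?_, fun h hh a ha => ?_,
    by rw [card_cjs, card_cjs, S.M.card]⟩, fun a ha b hb => ?_, fun a ha => ?_, S.cV, S.T,
    fun k hk hL t ht => ?_⟩
  · rw [cj_mul, S.M.π_mul _ (mem_cj.1 ha) _ (mem_cj.1 hb)]
  · obtain ⟨a, ha, rfl⟩ := S.M.surj v
    exact ⟨cj g a, cj_mem.2 ha, by rw [cj_inv]⟩
  · rw [S.M.π_zero _ (mem_cj.1 ha), mem_cj]
  · obtain ⟨h, rfl⟩ := cj_sur g h
    obtain ⟨a, rfl⟩ := cj_sur g a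
    rw [cj_sw, cj_inv, cj_inv, cj_inv]
    exact S.M.act h (cj_comm.1 hh) a (cj_mem.1 ha)
  · rw [S.hB _ (mem_cj.1 ha) _ (mem_cj.1 hb), sg_conj]
  · rw [S.hf _ (mem_cj.1 ha), ← cj_mul, cj_eq_one]
  · obtain ⟨k, rfl⟩ := cj_sur g k
    obtain ⟨t, rfl⟩ := cj_sur g t
    rw [cj_inv] at hL
    exact cj_comm.2 (S.KZ k (cj_comm.1 hk) hL t (cj_mem.1 ht))

theorem inner {g : G} (hg : Commute g z) (h : ∀ a ∈ J, cj g a * a⁻¹ ∈ Z) : g ∈ J :=
  (S.Y.ρ_ker g hg).1 (X.faith _ fun v => by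
    obtain ⟨a, ha, rfl⟩ := S.M.surj v
    exact (S.M.fix_iff S.Y hg ha).2 (h a ha))

/-- `z` is weakly closed in `Z` -/
theorem wc (hO : O2 L) {g : G} (h : cj g z ∈ Z) : cj g z = z := by
  have : Fact (Nat.Prime 2) := ⟨Nat.prime_two⟩
  have Y' := S.Y.conj g
  have n : J ≤ normalizer (cjs g J : Set G) := fun a ha => mem_normalizer_iff.2 fun b =>
    ⟨Y'.norm a (S.Y.cen h ha).symm b, fun hb => by
      simpa [cj_inv] using Y'.norm _ (S.Y.cen h (J.inv_mem ha)).symm _ hb⟩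
  have le := S.Y.o2 hO (R := cjs g J ⊓ centralizer {z}) (fun r hr => mem_cen.1 hr.2)
    (Y'.isP.to_le inf_le_left) fun k hk hL r hr => ⟨Y'.norm k (S.KZ k hk hL _ h) r hr.1, mem_cen.2 (by
      simpa [cj_eq.2 hk] using (cj_comm (g := k)).2 (mem_cen.1 hr.2))⟩
  refine Y'.le_eq S.Y (le_sup_right.trans (eq_of_le_of_not_lt (le_sup_left (b := cjs g J))
    fun lt => ?_).ge)
  obtain ⟨x, ⟨hx, nx⟩, xJ⟩ := SetLike.exists_of_lt
    (H4.lt_inf_normalizer (IsPGroup.to_sup_of_normal_right' S.Y.isP Y'.isP n) lt)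
  obtain ⟨j, hj, r, hr, rfl⟩ : ∃ j ∈ J, ∃ r ∈ cjs g J, j * r = x := by
    have := (coe_mul_of_left_le_normalizer_right J (cjs g J) n) ▸ (show x ∈ ((J ⊔ cjs g J : Subgroup G) : Set G) from hx)
    exact this
  have r1 : r ∈ normalizer (J : Set G) := (mul_mem_cancel_left (le_normalizer hj)).1 nx
  refine xJ (J.mul_mem hj (le ⟨hr, mem_cen.2 (cj_eq.1 ((S.Y.conj r).le_eq S.Y ?_))⟩))
  rintro _ ⟨a, ha, rfl⟩
  exact (mem_normalizer_iff.1 r1 a).1 ha

theorem ex_q {w : G} (hw : w ∈ J) : ∃ q ∈ J, Commute q w ∧ q * q = z := by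
  have := S.fin
  by_contra hno
  push Not at hno
  have h1 := (sing_le X S.cV (le_perp X (A := ⊤ ⊓ hyp X (π w)) fun v hv => by
    obtain ⟨q, hq, rfl⟩ := S.M.surj v
    exact (S.hf q hq).2 ((S.Y.sqr q hq).resolve_right (hno q hq ((S.B0 hq hw).1 hv.2))))).1
  by_cases w0 : π w = 0
  · rw [show ⊤ ⊓ hyp X (π w) = ⊤ from eq_top_iff.2 fun v _ => ⟨trivial, by simp [mem_hyp, w0]⟩,
      AddSubgroup.card_top, S.cV] at h1
    omega
  · obtain ⟨u, hu⟩ := X.exists_B w0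
    have := card_half X (K := ⊤) trivial hu
    rw [AddSubgroup.card_top, S.cV] at this
    omega

theorem perp2 {w b : G} (hw : w ∈ J) (hb : b ∈ J) (h : ∀ x ∈ J, Commute x b → Commute x w) :
    π w = 0 ∨ π w = π b :=
  eq_of_perp X fun v hv => by
    obtain ⟨x, hx, rfl⟩ := S.M.surj v
    exact (S.B0 hx hw).2 (h x hx ((S.B0 hx hb).1 hv))

theorem perp3 {w b : G} (hw : w ∈ J) (hb : b ∈ J) (h : ∀ x ∈ J, Commute x b → Commute x w)
    (h' : ∀ x ∈ J, Commute x (w * b) → Commute x w) : w ∈ Z := by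
  rw [← S.M.π_zero w hw]
  rcases S.perp2 hw hb h with e | e
  · exact e
  rcases S.perp2 hw (J.mul_mem hw hb) h' with f | f
  · exact f
  rwa [S.M.π_mul w hw b hb, ← e, aa] at f

theorem sq_cen {k x : G} (hk : Commute k z) (kZ : ∀ u ∈ Z, Commute k u) (hx : x ∈ J)
    (h : ρ k • π x = π x) : Commute (k * k) x := by
  have t := (S.M.fix_iff S.Y hk hx).1 h
  rw [← cj_eq, ← cj_cj, ← inv_mul_cancel_right (cj k x) x, cj_mul, cj_eq.2 (kZ _ t),
    ← inv_mul_cancel_right (cj k x) x, ← mul_assoc, inv_mul_cancel_right, S.Y.Zsq _ t, one_mul]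

end SD

end Cfsg.Agent.H96.Par
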