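/-
The transfer of an involution whose centraliser contains a 2-group with a unique fixed coset.
-/
import Mathlib.GroupTheory.Transfer
import Mathlib.GroupTheory.PGroup

set_option autoImplicit false

namespace Cfsg.Agent.H96.Par

open Subgroup

theorem par_act {P Ω : Type*} [Group P] [Finite P] [Finite Ω] [MulAction P Ω] (hP : IsPGroup 2 P)
    (S : Set Ω) (hS : ∀ p : P, ∀ s ∈ S, p • s ∈ S) :
    S.ncard % 2 = {s ∈ S | ∀ p : P, p • s = s}.ncard % 2 := by
  have : Fact (Nat.Prime 2) := ⟨Nat.prime_two⟩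
  let : MulAction P S :=
    { smul := fun p s => ⟨p • s.1, hS p s s.2⟩
      one_smul := fun s => Subtype.ext (one_smul P s.1)
      mul_smul := fun p q s => Subtype.ext (mul_smul p q s.1) }
  have h := hP.card_modEq_card_fixedPoints S
  rw [Nat.card_coe_set_eq] at h
  have e : Nat.card (MulAction.fixedPoints P S) = {s ∈ S | ∀ p : P, p • s = s}.ncard := by
    rw [← Nat.card_coe_set_eq]
    exact Nat.card_congr
      ⟨fun x => ⟨x.1.1, x.1.2, fun p => congrArg Subtype.val (x.2 p)⟩,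
        fun x => ⟨⟨x.1, x.2.1⟩, fun p => Subtype.ext (x.2.2 p)⟩, fun _ => rfl, fun _ => rfl⟩
  rw [e] at h
  exact h

theorem tr_one {G A : Type*} [Group G] [Finite G] [CommGroup A] {H : Subgroup G} (ϕ : H →* A)
    {u : G} (hu : u ∈ H) (uu : u * u = 1) (P : Subgroup G) (hP : IsPGroup 2 P)
    (Pu : ∀ p ∈ P, Commute p u) (PH : P ≤ H)
    (uniq : ∀ g, (∀ p ∈ P, g⁻¹ * p * g ∈ H) → g ∈ H) :
    MonoidHom.transfer ϕ u = ϕ ⟨u, hu⟩ := by
  classical
  let := H.fintypeQuotientOfFiniteIndex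
  let T : H.LeftTransversal := default
  let α : G ⧸ H → G := fun q => T.2.leftQuotientEquiv q
  have hα : ∀ q, (α q : G ⧸ H) = q := T.2.quotientGroupMk_leftQuotientEquiv
  have ui : u⁻¹ = u := inv_eq_of_mul_eq_one_right uu
  have mem : ∀ (g : G) q, (α (g • q))⁻¹ * (g * α q) ∈ H := fun g q => by
    rw [← QuotientGroup.eq, hα, ← smul_eq_mul, ← MulAction.Quotient.smul_coe, hα]
  have mem' : ∀ q, (α q)⁻¹ * (u * α (u • q)) ∈ H := fun q => by
    have := mem u (u • q)
    rwa [← mul_smul, uu, one_smul] at this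
  let F : G ⧸ H → A := fun q => ϕ ⟨_, mem' q⟩
  have e0 : MonoidHom.transfer ϕ u = ∏ q, F q := by
    rw [MonoidHom.transfer_def ϕ T]
    refine Finset.prod_congr rfl fun q _ => congrArg ϕ (Subtype.ext ?_)
    change (α q)⁻¹ * ((u • T).2.leftQuotientEquiv q : G) = _
    rw [smul_apply_eq_smul_apply_inv_smul, ui]
    rfl
  have e1 : ∀ q, F q * F (u • q) = 1 := fun q => by
    rw [← map_mul, ← ϕ.map_one]
    refine congrArg ϕ (Subtype.ext ?_)
    change (α q)⁻¹ * (u * α (u • q)) * ((α (u • q))⁻¹ * (u * α (u • u • q))) = 1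
    rw [← mul_smul, uu, one_smul]
    simp [mul_assoc, ← mul_assoc u u, uu]
  have e2 : ∀ (p : P) q, u • q = q → u • p • q = p • q ∧ F (p • q) = F q := fun p q h => by
    have h' : u • p • q = p • q := by
      change u • (p : G) • q = (p : G) • q
      rw [← mul_smul, ← (Pu p p.2).eq, mul_smul, h]
    refine ⟨h', ?_⟩
    have : (⟨_, mem' (p • q)⟩ : H) = ⟨_, mem p q⟩ * ⟨_, mem' q⟩ * ⟨_, mem p q⟩⁻¹ := Subtype.ext (by
      change (α (p • q))⁻¹ * (u * α (u • p • q)) = (α (p • q))⁻¹ * (p * α q) *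
        ((α q)⁻¹ * (u * α (u • q))) * ((α (p • q))⁻¹ * (p * α q))⁻¹
      rw [h', h]
      simp [mul_assoc, ← mul_assoc (p : G) u, (Pu p p.2).eq])
    simp only [F, this, map_mul, map_inv, mul_inv_cancel_comm]
  have fix1 : ∀ g ∈ H, g • ((1 : G) : G ⧸ H) = (1 : G) := fun g hg => by
    rw [MulAction.Quotient.smul_coe, QuotientGroup.eq]; simpa
  have e3 : F (1 : G) = ϕ ⟨u, hu⟩ := by
    have a : α (1 : G) ∈ H := by simpa using QuotientGroup.eq.1 (hα (1 : G))
    have : (⟨_, mem' (1 : G)⟩ : H) = ⟨_, a⟩⁻¹ * ⟨u, hu⟩ * ⟨_, a⟩ := Subtype.ext (by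
      change (α (1 : G))⁻¹ * (u * α (u • ((1 : G) : G ⧸ H))) = (α (1 : G))⁻¹ * u * α (1 : G)
      rw [fix1 u hu, mul_assoc])
    simp only [F, this, map_mul, map_inv, inv_mul_cancel_comm]
  have e4 : ∀ a, (Finset.univ.filter fun q => u • q = q ∧ F q = a).card % 2 =
      if F (1 : G) = a then 1 else 0 := fun a => by
    have := par_act hP {q | u • q = q ∧ F q = a} fun p q h =>
      ⟨(e2 p q h.1).1, (e2 p q h.1).2.trans h.2⟩
    rw [← Set.ncard_coe_finset, Finset.coe_filter_univ, this]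
    have k : ∀ q : G ⧸ H, (∀ p : P, p • q = q) → q = (1 : G) := fun q h => by
      rw [← hα q, eq_comm, QuotientGroup.eq, inv_one, one_mul]
      refine uniq _ fun p hp => ?_
      have := mem p q
      rwa [show p • q = q from h ⟨p, hp⟩, ← mul_assoc] at this
    split_ifs with h
    · rw [show {s ∈ {q | u • q = q ∧ F q = a} | ∀ p : P, p • s = s} = {((1 : G) : G ⧸ H)} from
        Set.ext fun q => ⟨fun h => k q h.2, by
          rintro rfl; exact ⟨⟨fix1 u hu, h⟩, fun p => fix1 p (PH p.2)⟩⟩, Set.ncard_singleton]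
    · rw [show {s ∈ {q | u • q = q ∧ F q = a} | ∀ p : P, p • s = s} = ∅ from
        Set.eq_empty_of_forall_notMem fun q hq => h (k q hq.2 ▸ hq.1.2), Set.ncard_empty]
  rw [e0, ← Finset.prod_filter_mul_prod_filter_not _ fun q => u • q = q,
    Finset.prod_involution (s := Finset.univ.filter fun q => ¬ u • q = q) (fun q _ => u • q)
      (fun q _ => e1 q) (fun q h _ => (Finset.mem_filter.1 h).2) (fun q h => by
        simpa using h) (fun q _ => by rw [← mul_smul, uu, one_smul]), mul_one,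
    show (∏ q ∈ _, F q) = ∏ q ∈ _, id (F q) from rfl, Finset.prod_comp, ← e3,
    Finset.prod_eq_single (F (1 : G))]
  · have := e4 (F (1 : G))
    rw [if_pos rfl] at this
    rw [Finset.filter_filter, ← Nat.div_add_mod (Finset.card _) 2, this, pow_succ, pow_mul, pow_two]
    have := e1 (1 : G)
    rw [fix1 u hu] at this
    simp [this]
  · intro a ha n
    obtain ⟨q, hq, rfl⟩ := Finset.mem_image.1 ha
    have := e4 (F q)
    rw [if_neg n.symm] at this
    rw [Finset.filter_filter, ← Nat.div_add_mod (Finset.card _) 2, this, add_zero, pow_mul, pow_two]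
    have := e1 q
    rw [(Finset.mem_filter.1 hq).2] at this
    simp [this]
  · intro h
    exact absurd (Finset.mem_image_of_mem F (by simpa using fix1 u hu)) h

end Cfsg.Agent.H96.Par
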