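/-
`|Z(J)| = 4`: if `z` is isolated in the centralisers of the other involutions of `Z(J)`, then
`z` is isolated.
-/
import Cfsg.Agent.H96.PaF
import Cfsg.Agent.H96.PaT

set_option autoImplicit false
set_option linter.unusedSimpArgs false
set_option linter.unusedSectionVars false

namespace Cfsg.Agent.H96.Par

open Subgroup H4.GF H4.GF.M43 H4.GF.M43.QVx H15

universe u

variable {G : Type u} [Group G] {J Z : Subgroup G} {z : G} {Γ : Type*} [Group Γ] {ρ : G → Γ}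
  {L : Subgroup Γ} {τ : W → Γ}

/-- `z` is isolated in the centralisers of the other involutions of `Z` -/
def HN (Z : Subgroup G) (z : G) : Prop := ∀ t ∈ Z, t ≠ 1 → t ≠ z → Iso t z

theorem HN.conj (N : HN Z z) (g : G) : HN (cjs g Z) (cj g z) := fun t ht t1 t2 => by
  obtain ⟨t, rfl⟩ := cj_sur g t
  exact (N t (cj_mem.1 ht) (fun e => t1 (cj_eq_one.2 e)) fun e => t2 (cj_inj.2 e)).conj g

theorem cm_cj {k x y : G} (h1 : Commute k y) (h2 : Commute x y) : Commute (cj k x) y :=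
  (h1.mul_left h2).mul_left h1.inv_left

theorem cj_sq {g x : G} (h : x * x = 1) : cj g x * cj g x = 1 := by rw [← cj_mul, h, cj_one]

/-- a sign character -/
noncomputable def sgn (H : Subgroup G) (P : G → Prop)
    (h : ∀ a ∈ H, ∀ b ∈ H, P (a * b) ↔ (P a ↔ P b)) : H →* ℤˣ := by
  classical
  exact MonoidHom.mk' (fun a => if P a then 1 else -1) fun a b => by
    have := h a a.2 b b.2
    by_cases h1 : P a <;> by_cases h2 : P b <;> simp [h1, h2] at this ⊢ <;> simp [this]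

theorem sgn_one {H : Subgroup G} {P : G → Prop} {h} {a : H} : sgn H P h a = 1 ↔ P a := by
  by_cases e : P a <;> simp [sgn, e]

namespace SD

variable [Finite G] {V : Type u} [AddCommGroup V] [Module (ZMod 2) V] [DistribMulAction Γ V]
  {π : G → V} {X : QV Γ V} (S : SD J Z z ρ L τ π X)
include S

theorem trJ (hW : ∀ g, cj g z ∈ J → cj g z = z) {A : Type*} [CommGroup A]
    (ϕ : centralizer ({z} : Set G) →* A) {e : G} (he : e ∈ J) (ee : e * e = 1) :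
    MonoidHom.transfer ϕ e = ϕ ⟨e, mem_cen.2 (S.Y.cz he)⟩ :=
  tr_one ϕ _ ee (J ⊓ centralizer {e}) (S.Y.isP.to_le inf_le_left) (fun _ hp => mem_cen.1 hp.2)
    (fun _ hp => mem_cen.2 (S.Y.cz hp.1)) fun g h => by
      have k : ∀ p ∈ J, Commute p e → Commute p (cj g z) := fun p hp c => by
        rw [← cj_inv' g p, cj_comm]
        simpa [cj] using mem_cen.1 (h p ⟨hp, mem_cen.2 c⟩)
      exact mem_cen.2 (cj_eq.1 (hW g (S.mem_J (k z S.Y.zJ (S.Y.cz he).symm).symm he ee k)))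

variable (c4 : Nat.card Z = 4) (hO : O2 L) [L.Normal]
  (h2 : ∀ a b : Γ, a ∉ L → b ∉ L → a * b ∈ L) (N : HN Z z)
include c4 h2

theorem inL {x b a : G} (hx : Commute x z) (hb : Commute b z) (ha : a ∈ Z) (n : ¬ Commute x a)
    (h : Commute b a) : ρ b ∈ L := by_contra fun m => n (by
  have := S.KZ _ (hx.mul_left hb) (S.Y.ρ_mul _ _ hx hb ▸
    h2 _ _ (fun e => n (S.KZ x hx e a ha)) m) a ha
  simpa using this.mul_left h.inv_left)

include hO N

theorem nw {g : G} (hw : cj g z ∈ J) : cj g z = z := by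
  by_contra n
  have := S.fin
  have Y' := S.Y.conj g
  have N' := N.conj g
  have c4' : Nat.card (cjs g Z) = 4 := by rw [card_cjs, c4]
  set w := cj g z with hwd
  have wZ : w ∉ Z := fun h => n (S.wc hO h)
  have ww : w * w = 1 := Y'.sq
  have wz := S.Y.cz hw
  obtain ⟨b, hb, b1, b2⟩ := Y'.ex4 c4'
  obtain ⟨q, hq, qw, qq⟩ := S.ex_q hw
  have bz : Commute b z := (qq ▸ Y'.sq4 c4' qw hb).symm
  have bw : Commute w b := Y'.cen Y'.mem (Y'.ZJ hb)
  have bZ : ∀ u ∈ Z, Commute b u := fun u hu =>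
    S.Y.cross Y' c4 c4' n hu hb (S.Y.cen hu hw) bz
  have i1 : ∀ x ∈ J, Commute x b → Commute x w := fun x hx =>
    S.Y.iso2 (N' b hb b1 b2) wz ww bw hx
  obtain ⟨k1, k2, k3⟩ := Y'.zt hb b1 b2
  have bJ : b ∉ J := fun h => wZ (S.perp3 hw h i1 fun x hx =>
    S.Y.iso2 (N' _ k1 k2 k3) wz ww ((Commute.refl w).mul_right bw) hx)
  obtain ⟨x, hx, xw, xb⟩ : ∃ x ∈ J, Commute x w ∧ ¬ Commute x b := by
    by_contra hno
    push Not at hno
    exact bJ (S.mem_J bz hw ww hno)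
  obtain ⟨a, ha, a1, a2⟩ := S.Y.ex4 c4
  have hL : ρ b ∈ L := S.inL c4 h2 (x := cj g⁻¹ x) (by rw [← cj_inv g z, cj_comm]; exact xw) bz ha
    (fun e => xb (Y'.all4 c4' xw (cj_mem.2 ha) (fun e => a1 (cj_eq_one.1 e))
      (fun e => a2 (cj_inj.1 e)) (by rwa [← cj_inv' g x, cj_comm]) hb)) (bZ a ha)
  have h : ∀ x ∈ J, Commute x w → cj x b = b ∨ cj x b = w * b := fun x _ e => Y'.cj4 c4' e hb
  rcases dichF S.T X S.cV with ⟨U, C⟩ | ⟨Jc, C⟩
  · refine nwA C S.T X S.cV hL (S.Y.ρ_sq bz (Y'.Zsq b hb)) (fun e => bJ ((S.Y.ρ_ker b bz).1 e))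
      (fun e => wZ ((S.M.π_zero w hw).1 e)) ((S.hf w hw).2 ww) (S.nm_w hw bz h) fun l hl e => ?_
    obtain ⟨k, hk, rfl⟩ := S.Y.ρ_surj l
    have k2 := hk.mul_left hk
    rw [← S.Y.ρ_mul _ _ hk hk, ← mul_inv_eq_iff_eq_mul, ← cj, ← S.Y.ρ_cj k2 bz]
    rcases Y'.cj4 c4' (S.sq_cen hk (S.KZ k hk hl) hw e) hb with f | f <;> rw [f]
    rw [S.Y.ρ_mul _ _ wz bz, S.Y.ρ_J hw, one_mul]
  · refine S.lemQ C hw wZ ww bz bJ (C.comm _ hL) h fun k hk _ kb => ?_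
    rw [S.M.act k hk w hw, N' b hb b1 b2 k kb (i1 _ (S.Y.norm k hk w hw) (cm_cj kb bw))]

omit S h2 hO in
theorem mix (Y : LY J Z z ρ) {J' Z' : Subgroup G} {w : G} {ρ' : G → Γ} (Y' : LY J' Z' w ρ')
    (c4' : Nat.card Z' = 4) (wz : Commute w z) {a b : G} (ha : a ∈ Z) (a1 : a ≠ 1) (a2 : a ≠ z)
    (hb : b ∈ Z') (h : Commute w a) : Commute z b := by
  have za : Commute z a := Y.cen Y.mem (Y.ZJ ha)
  by_cases ab : Commute a b
  · exact (Y'.iso2 (N a ha a1 a2) wz.symm Y.sq za (Y'.ZJ hb) ab.symm).symm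
  by_contra zb
  obtain ⟨k1, k2, k3⟩ := Y.zt ha a1 a2
  exact zb (Y'.iso2 (N _ k1 k2 k3) wz.symm Y.sq ((Commute.refl z).mul_right za) (Y'.ZJ hb)
    (Y'.mul4 c4' wz.symm h.symm hb zb ab).symm).symm

theorem beta {g a b : G} (wz : Commute (cj g z) z) (n : cj g z ≠ z) (ha : a ∈ Z)
    (hb : b ∈ cjs g Z) (h1 : ¬ Commute (cj g z) a) (h3 : ¬ Commute z b) : False := by
  have S' := S.conj g
  have Y' := S'.Y
  have c4' : Nat.card (cjs g Z) = 4 := by rw [card_cjs, c4]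
  have W := fun g => S.nw c4 hO h2 N (g := g)
  set w := cj g z with hwd
  have zi := S.Y.inv_Z S.Y.mem
  have e1 : cj z b = w * b := (Y'.cj4 c4' wz.symm hb).resolve_left fun e => h3 (cj_eq.1 e)
  have e2 : cj b z = z * w := by
    have : cj b z = (cj z b * b⁻¹)⁻¹ * z := by simp [cj, mul_assoc]
    rw [this, e1, mul_inv_cancel_right, Y'.inv_Z Y'.mem, wz.eq]
  have e3 : cj a w = z * w := by
    have := (S.Y.cj4 c4 wz ha).resolve_left fun e => h1 (cj_eq.1 e)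
    have e : cj a w = (cj w a * a⁻¹)⁻¹ * w := by simp [cj, mul_assoc]
    rw [e, this, mul_inv_cancel_right, zi]
  have k1 : ∀ x ∈ cjs g J, Commute x a → x ∈ J := fun x hx xa => by
    have hk : Commute (b⁻¹ * a * g) z := cj_eq.1 (by
      rw [← cj_cj, ← cj_cj, ← hwd, e3, ← e2, cj_inv])
    have := S.Y.norm _ hk _ (mem_cj.1 hx)
    rwa [← cj_cj, cj_inv', ← cj_cj, cj_eq.2 xa.symm, cj_eq.2 (Y'.cen hb hx).inv_left] at this
  have k2 : ∀ x ∈ cjs g J, Commute x z → x ∈ J ∨ w * x ∈ J := fun x hx xz =>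
    (em (Commute x a)).imp (k1 x hx) fun e =>
      k1 _ (mul_mem Y'.zJ hx) (S.Y.mul4 c4 wz xz ha h1 e)
  have k3 : ∀ x ∈ cjs g J, x ∈ J → x * x = 1 := fun x hx h =>
    (Y'.sqr x hx).resolve_right fun e => (S.Y.sqr x h).elim (fun f => Y'.ne (e.symm.trans f))
      fun f => n (e.symm.trans f)
  refine n (S'.nw c4' hO h2 (N.conj g) (g := g⁻¹) (by
    rw [cj_inv]
    refine S'.inner wz.symm fun r hr => ?_
    have hm := mul_mem (Y'.norm z wz.symm r hr) (inv_mem hr)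
    have e4 : z * (cj z r * r⁻¹) = cj r z := by simp [cj, zi, ← mul_assoc, S.Y.sq]
    have e5 : cj z (cj z r * r⁻¹) = (cj z r * r⁻¹)⁻¹ := by
      simp [cj, zi, mul_assoc, S.Y.zz]
    set m := cj z r * r⁻¹
    rcases Y'.sqr m hm with f | f
    · have mz : Commute m z := (cj_eq.1 (by rw [e5, inv_eq_of_mul_eq_one_right f])).symm
      rcases k2 m hm mz with h | h
      · have := W r (e4 ▸ J.mul_mem S.Y.zJ h)
        rw [← e4, mul_eq_left] at this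
        exact this ▸ one_mem _
      · have e6 : cj (b * r) z = z * (w * m) := by
          rw [← cj_cj, ← e4, cj_mul, e2, cj_eq.2 (Y'.cen hb hm), mul_assoc]
        have := W _ (e6 ▸ J.mul_mem S.Y.zJ h)
        rw [e6, mul_eq_left] at this
        rw [eq_inv_of_mul_eq_one_right this]
        exact inv_mem Y'.mem
    · have hbm := mul_mem (Y'.ZJ hb) hm
      have wm := Y'.cen Y'.mem hm
      have e6 : b * m * (b * m) = w := by
        rw [(Y'.cen hb hm).symm.mul_mul_mul_comm, Y'.Zsq b hb, f, one_mul]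
      have e7 : m⁻¹ = w * m := inv_eq_of_mul_eq_one_right (by
        rw [← mul_assoc, ← wm.eq, mul_assoc, f, Y'.sq])
      rcases k2 _ hbm (cj_eq.1 (by
        rw [cj_mul, e1, e5, e7, (Y'.cen Y'.mem (Y'.ZJ hb)).eq, mul_assoc, Y'.zz])).symm with h | h
      · exact absurd (e6.symm.trans (k3 _ hbm h)) Y'.ne
      · have := k3 _ (mul_mem Y'.zJ hbm) h
        rw [(Y'.cen Y'.mem hbm).symm.mul_mul_mul_comm, e6, Y'.sq, one_mul] at this
        exact absurd this Y'.ne) |>.symm.trans (cj_inv g z))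

omit h2 hO N in
theorem alf {J' Z' : Subgroup G} {w : G} {ρ' : G → Γ} (Y' : LY J' Z' w ρ') (c4' : Nat.card Z' = 4)
    (N' : HN Z' w) (wJ : w ∉ J) (hw : ∀ u ∈ Z, Commute w u) (hz : ∀ u ∈ Z', Commute z u) :
    (∀ t ∈ Z', ∀ u ∈ Z, Commute t u) ∧ (∀ x ∈ J, Commute x w → ∀ t ∈ Z', Commute x t) ∧
      ∀ t ∈ Z', t ≠ 1 → (∀ x ∈ J, Commute x t → Commute x w) ∧ t ∉ J := by
  have wz := hw z S.Y.mem
  refine ⟨fun t ht u hu => S.Y.cross Y' c4 c4' (fun e => wJ (e ▸ S.Y.zJ)) hu ht (hw u hu).symm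
    (hz t ht).symm, fun x hx h t ht => cj_eq.1 ((Y'.cj4 c4' h ht).resolve_right fun e => wJ ?_),
    fun t ht t1 => ?_⟩
  · have := J.mul_mem hx (S.Y.norm t (hz t ht).symm _ (J.inv_mem hx))
    rwa [show x * cj t x⁻¹ = cj x t * t⁻¹ by simp [cj, mul_assoc], e, mul_inv_cancel_right] at this
  have k : ∀ x ∈ J, Commute x t → Commute x w := fun x hx h => by
    by_cases e : t = w
    · exact e ▸ h
    exact S.Y.iso2 (N' t ht t1 e) wz Y'.sq (Y'.cen Y'.mem (Y'.ZJ ht)) hx h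
  exact ⟨k, fun h => wJ (S.mem_J wz h (Y'.Zsq t ht) k)⟩

omit c4 h2 hO N in
theorem cmU {U : AddSubgroup V} (C : CA τ U) {x k : G} (hx : x ∈ J) (hU : π x ∈ U)
    (hk : Commute k z) (hL : ρ k ∈ L) : cj k x = x ∨ cj k x = z * x := by
  have := S.fin
  obtain ⟨m, hm, -, j, hj, rfl⟩ := S.Y.gen S.T (centralizer {x}) (fun k v hk _ e => mem_cen.2
    (S.sq_cen hk (S.KZ k hk (e ▸ S.T.mem v)) hx (C.fixL S.T _ (e ▸ S.T.mem v) _ hU))) hk hL
  rw [← cj_cj, cj_eq.2 (mem_cen.1 hm)]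
  exact S.Y.comm j hj x hx

omit h2 hO N in
theorem trA {U : AddSubgroup V} (C : CA τ U) (hW : ∀ g, cj g z ∈ J → cj g z = z) {x x' s g : G}
    (hx : x ∈ J) (hU : π x ∈ U) (hx' : x' ∈ J) (hU' : π x' ∈ U) (xx : x * x = 1) (xx' : x' * x' = 1)
    (e : cj x x' = z * x') (hZ : ∀ h, Commute h z → ∀ u ∈ Z, Commute h u)
    (hH : ∀ h, Commute h z → cj h x' * x'⁻¹ ∈ Z) (hs : Commute s z) (sL : ρ s ∈ L)
    (sZ : s ∈ cjs g Z) (sx : Commute s x) (sx' : cj s x' = z * x') : False := by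
  have := S.fin
  obtain ⟨a, ha, a1, a2⟩ := S.Y.ex4 c4
  obtain ⟨k1, k2, k3⟩ := S.Y.zt ha a1 a2
  have aa := S.Y.Zsq a ha
  have za := (S.Y.cen ha S.Y.zJ).eq
  have k4 : z * a ≠ a := by simpa using S.Y.ne
  have k5 : a * (z * a) = z := by rw [← mul_assoc, za, mul_assoc, aa, mul_one]
  have k6 : z * a * z = a := by rw [mul_assoc, za, S.Y.zz]
  let ϕ := sgn (centralizer {z}) (fun h => cj h x' * x'⁻¹ = 1 ∨ cj h x' * x'⁻¹ = a)
    fun h hh k hk => by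
      have t := hH k (mem_cen.1 hk)
      rw [← cj_cj, ← inv_mul_cancel_right (cj k x') x', cj_mul, cj_eq.2 (hZ h (mem_cen.1 hh) _ t),
        inv_mul_cancel_right, mul_assoc]
      rcases S.Y.four c4 ha a1 a2 t with f | f | f | f <;>
        rcases S.Y.four c4 ha a1 a2 (hH h (mem_cen.1 hh)) with f' | f' | f' | f' <;>
        rw [f, f'] <;> simp [a1, a2, a2.symm, k2, k4, k5, k6, S.Y.ne, S.Y.sq, S.Y.zz, aa, za, mul_assoc,
          S.Y.Zsq _ k1]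
  let T := MonoidHom.transfer ϕ
  have v1 : ∀ j (hj : j ∈ J), j * j = 1 → T j = ϕ ⟨j, mem_cen.2 (S.Y.cz hj)⟩ :=
    fun j hj h => S.trJ hW ϕ hj h
  have p1 : ∀ j : centralizer ({z} : Set G), Commute (j : G) x' → ϕ j = 1 := fun j h =>
    sgn_one.2 (.inl (by rw [cj_eq.2 h, mul_inv_cancel]))
  have v2 : T x ≠ 1 := by
    rw [v1 x hx xx, Ne, sgn_one]
    simp [e, S.Y.ne, a2.symm]
  have v3 : ∀ j ∈ J, Commute j x → Commute j x' → T j = 1 := fun j hj h h' => by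
    rcases S.Y.sqr j hj with f | f
    · rw [v1 j hj f, p1 _ h']
    have := v1 _ (J.mul_mem hj (J.mul_mem hx hx')) (by
      rw [(h.mul_right h').symm.mul_mul_mul_comm, f, show x * x' * (x * x') = cj x x' * x' by
        simp [cj, inv_eq_of_mul_eq_one_right xx, mul_assoc], e, mul_assoc z x', xx', mul_one, S.Y.sq])
    rw [map_mul, map_mul, v1 x hx xx, v1 x' hx' xx', ← map_mul] at this
    have e1 := map_mul ϕ ⟨j, mem_cen.2 (S.Y.cz hj)⟩
      (⟨x, mem_cen.2 (S.Y.cz hx)⟩ * ⟨x', mem_cen.2 (S.Y.cz hx')⟩)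
    rw [p1 ⟨j, _⟩ h', one_mul] at e1
    exact mul_eq_right.1 (this.trans e1)
  have v4 : T s = 1 := by
    obtain ⟨u, rfl⟩ := cj_sur g s
    have hu := cj_mem.1 sZ
    rw [cj, map_mul, map_mul, map_inv, mul_inv_cancel_comm, v1 u (S.Y.ZJ hu) (S.Y.Zsq u hu),
      p1 _ (S.Y.cen hu hx')]
  have q : ∀ y ∈ J, π y ∈ U → ∀ k v, Commute k z → ρ k = τ v → Commute (k * k) y :=
    fun y hy h k v hk e =>
      S.sq_cen hk (hZ k hk) hy (C.fixL S.T _ (e ▸ S.T.mem v) _ h)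
  obtain ⟨m, ⟨⟨m1, m2⟩, m3⟩, -, j, hj, f⟩ := S.Y.gen S.T
    (T.ker ⊓ centralizer {x} ⊓ centralizer {x'}) (fun k v hk _ e =>
      ⟨⟨by simp [MonoidHom.mem_ker], mem_cen.2 (q x hx hU k v hk e)⟩, mem_cen.2 (q x' hx' hU' k v hk e)⟩)
    (hs.mul_left (S.Y.cz hx)) (by rwa [S.Y.ρ_mul _ _ hs (S.Y.cz hx), S.Y.ρ_J hx, mul_one])
  have f1 : j = s * x * m⁻¹ := by rw [f, mul_inv_cancel_right]
  have := congrArg T f
  rw [map_mul, map_mul, v4, one_mul, show T m = 1 from m1, v3 j hj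
    (f1 ▸ (sx.mul_left (Commute.refl x)).mul_left (mem_cen.1 m2).inv_left)
    (f1 ▸ (cj_eq.1 (by rw [← cj_cj, e, cj_mul, cj_eq.2 hs, sx', S.Y.zz])).mul_left
      (mem_cen.1 m3).inv_left), one_mul] at this
  exact v2 this

theorem alpha {g : G} (n : cj g z ≠ z) (hw : ∀ u ∈ Z, Commute (cj g z) u)
    (hz : ∀ u ∈ cjs g Z, Commute z u) : False := by
  have := S.fin
  have S' := S.conj g
  have Y' := S'.Y
  have c4' : Nat.card (cjs g Z) = 4 := by rw [card_cjs, c4]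
  have W := fun g => S.nw c4 hO h2 N (g := g)
  have zJ : z ∉ cjs g J := fun h => n ((S'.nw c4' hO h2 (N.conj g) (g := g⁻¹)
    (by rwa [cj_inv])).symm.trans (cj_inv g z))
  set w := cj g z with hwd
  obtain ⟨f1, f2, f3⟩ := S.alf c4 Y' c4' (N.conj g) (fun h => n (W g h)) hw hz
  obtain ⟨-, g2, g3⟩ := S'.alf c4' S.Y c4 N zJ hz hw
  obtain ⟨b, hb, b1, b2⟩ := Y'.ex4 c4'
  obtain ⟨k1, k2, k3⟩ := Y'.zt hb b1 b2
  have hz' := fun u hu => (hz u hu).symm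
  have wz := hz' w Y'.mem
  rcases dichF S.T X S.cV with ⟨U, C⟩ | ⟨Jc, C⟩
  swap
  · exact S.lemP C wz (hz' b hb) hw (f1 b hb) Y'.sq (Y'.Zsq b hb) (Y'.cen Y'.mem (Y'.ZJ hb))
      (f3 w Y'.mem Y'.ne).2 (f3 b hb b1).2 (f3 _ k1 k2).2 (fun x hx h => f2 x hx h b hb)
      (f3 b hb b1).1 (f3 _ k1 k2).1 fun k _ _ h => Y'.sq4 c4' h hb
  obtain ⟨s, hs, s1, sL⟩ : ∃ s ∈ cjs g Z, s ≠ 1 ∧ ρ s ∈ L := by
    by_cases e1 : ρ w ∈ L
    · exact ⟨w, Y'.mem, Y'.ne, e1⟩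
    by_cases e2 : ρ b ∈ L
    · exact ⟨b, hb, b1, e2⟩
    exact ⟨_, k1, k2, S.Y.ρ_mul _ _ wz (hz' b hb) ▸ h2 _ _ e1 e2⟩
  have sz := hz' s hs
  obtain ⟨x, hx, hU, x0, xs⟩ : ∃ x ∈ J, π x ∈ U ∧ π x ≠ 0 ∧ Commute x s := by
    obtain ⟨u, hu, u0⟩ := exists_ne_zero (K := U) (by rw [C.card]; decide)
    obtain ⟨u', hu', u1⟩ := exists_not_mem (A := ex ⊥ u) (K := U) (by
      rw [C.card, card_ex (by simpa using u0), AddSubgroup.card_bot]; decide)
    obtain ⟨x, hx, rfl⟩ := S.M.surj u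
    obtain ⟨y, hy, rfl⟩ := S.M.surj u'
    rcases S.cmU C hx hu sz sL with e | e
    · exact ⟨x, hx, hu, u0, (cj_eq.1 e).symm⟩
    rcases S.cmU C hy hu' sz sL with e' | e'
    · exact ⟨y, hy, hu', fun e => u1 (.inl e), (cj_eq.1 e').symm⟩
    refine ⟨y * x, J.mul_mem hy hx, S.M.π_mul y hy x hx ▸ U.add_mem hu' hu,
      fun e => u1 (.inr (S.M.π_mul y hy x hx ▸ e)), (cj_eq.1 ?_).symm⟩
    rw [cj_mul, e, e', (S.Y.cz hy).mul_mul_mul_comm, S.Y.sq, one_mul]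
  by_cases hq : ∃ x ∈ J, π x ∈ U ∧ Commute x w ∧ x * x = z
  · obtain ⟨x, hx, hU, xw, xx⟩ := hq
    obtain ⟨a, ha, a1, a2⟩ := S.Y.ex4 c4
    obtain ⟨l1, l2, -⟩ := S.Y.zt ha a1 a2
    have x1 : X.f (π x) = 1 := (z2c _).resolve_left fun e => S.Y.ne (xx ▸ (S.hf x hx).1 e)
    refine S'.lemI c4' xw (hw a ha).symm (xx ▸ hz) (S.Y.cen ha hx).symm (S.Y.Zsq a ha)
      (xx ▸ S.Y.sq) (xx ▸ zJ) (g3 a ha a1).2
      (by rw [xx, (S.Y.cen ha S.Y.zJ).eq]; exact (g3 _ l1 l2).2) fun y hy h => ?_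
    rw [xx] at h
    refine ⟨?_, g2 y hy h a ha⟩
    have m1 := J.mul_mem (S.Y.norm y h x hx) (J.inv_mem hx)
    have m2 : cj y x * x⁻¹ ∈ cjs g J := by
      have := mul_mem hy (Y'.norm x xw _ (inv_mem hy))
      rwa [show y * cj x y⁻¹ = cj y x * x⁻¹ by simp [cj, mul_assoc]] at this
    have m3 := (S.hf _ m1).2 ((S.Y.sqr _ m1).resolve_right fun e => zJ (e ▸ mul_mem m2 m2))
    rw [← S.M.nm S.Y h hx, X.f_add, X.f_smul, x1] at m3
    have m4 : ρ y • π x = π x := by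
      by_contra e
      have x0 : π x ≠ 0 := fun e => by simp [e, X.f_zero] at x1
      refine x0 (C.disj S.T X hU ?_)
      rw [eq_pl C.card hU (C.norm S.T (ρ y) hU) x0 (fun f => x0 ((smul_eq_zero_iff_eq _).1 f)) e]
      exact pl_le (K := hyp X (π x)) (X.B_self _) (by simpa [show (1 : ZMod 2) + 1 = 0 from rfl, mem_hyp] using m3)
    by_contra e
    exact (g3 _ ((S.M.fix_iff S.Y h hx).1 m4) fun f => e (cj_eq.1 (mul_inv_eq_one.1 f))).2 m2
  push Not at hq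
  have xw := (f3 s hs s1).1 x hx xs
  have xx := (S.Y.sqr x hx).resolve_right (hq x hx hU xw)
  have fx := (S.hf x hx).2 xx
  obtain ⟨u, hu, fu, e⟩ : ∃ u ∈ U, X.f u = 0 ∧ X.B (π x) u = 1 := by
    obtain ⟨u, hu, e⟩ : ∃ u ∈ U, X.B (π x) u = 1 := by
      by_contra hno
      push Not at hno
      exact x0 (C.disj S.T X hU fun u hu => X.B_comm _ _ ▸ (z2c _).resolve_right (hno u hu))
    rcases z2c (X.f u) with f | f
    · exact ⟨u, hu, f, e⟩
    · exact ⟨π x + u, U.add_mem hU hu, by rw [X.f_add, fx, f, e]; rfl,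
        by rw [map_add, X.B_self, e, zero_add]⟩
  obtain ⟨x', hx', rfl⟩ := S.M.surj u
  have e1 : cj x x' = z * x' := (S.Y.sg_one_iff hx hx').1 (S.hB x hx x' hx' ▸ e)
  have nw : ¬ Commute x' w := fun h => hq _ (J.mul_mem hx hx')
    (S.M.π_mul x hx x' hx' ▸ U.add_mem hU hu) (xw.mul_left h) ((S.Y.sqr _ (J.mul_mem hx hx')).resolve_left
      fun f => by
        rw [← S.hf _ (J.mul_mem hx hx'), S.M.π_mul x hx x' hx', X.f_add, fx, fu, e] at f
        simp at f)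
  have c1 : ∀ t ∈ cjs g Z, ρ t • π x' = π x' := fun t ht => by
    have e0 : ρ t • π x = π x := by
      rw [S.M.act t (hz' t ht) x hx, cj_eq.2 (f2 x hx xw t ht).symm]
    have e2 := X.B_smul (ρ t) (π x) (π x')
    have e3 := X.f_smul (ρ t) (π x')
    have := C.norm S.T (ρ t) hu
    rw [eq_pl C.card hU hu x0 (fun f => by simp [f] at e) (fun f => by simp [f, X.B_self] at e),
      mem_pl] at this
    rw [e0, e] at e2
    rcases this with f | f | f | f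
    · simp [f] at e2
    · simp [f, X.B_self] at e2
    · exact f
    · rw [f, X.f_add, fx, fu, e] at e3
      simp at e3
  have c2 : ∀ t ∈ cjs g Z, t ≠ 1 → ρ t ∈ L → cj t x' = z * x' := fun t ht t1 h =>
    (S.cmU C hx' hu (hz' t ht) h).resolve_left fun f => nw ((f3 t ht t1).1 x' hx' (cj_eq.1 f).symm)
  obtain ⟨σ, hσ, σL⟩ : ∃ σ ∈ cjs g Z, ρ σ ∉ L := by
    by_contra hno
    push Not at hno
    have := c2 _ k1 k2 (hno _ k1)
    rw [← cj_cj, c2 b hb b1 (hno b hb), cj_mul, cj_eq.2 wz, c2 w Y'.mem Y'.ne (hno w Y'.mem),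
      S.Y.zz] at this
    exact S.Y.ne (by simpa using this)
  have σz := hz' σ hσ
  refine S.trA c4 C W hx hU hx' hu xx ((S.hf x' hx').1 fu) e1 (fun h hh u hu => ?_) (fun h hh => ?_)
    sz sL hs xs.symm (c2 s hs s1 sL)
  · by_contra f
    exact σL (S.inL c4 h2 hh σz hu f (f1 σ hσ u hu))
  · rw [← S.M.fix_iff S.Y hh hx']
    by_cases f : ρ h ∈ L
    · exact C.fixL S.T _ f _ hu
    · simpa [mul_smul, c1 σ hσ] using C.fixL S.T _ (h2 _ _ f σL) _ hu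

/-- `z` is isolated -/
theorem ti : Iso 1 z := fun g _ wz => by
  by_contra n
  have Y' := S.Y.conj g
  have c4' : Nat.card (cjs g Z) = 4 := by rw [card_cjs, c4]
  obtain ⟨a, ha, a1, a2⟩ := S.Y.ex4 c4
  obtain ⟨b, hb, b1, b2⟩ := Y'.ex4 c4'
  by_cases h : Commute (cj g z) a
  · exact S.alpha c4 hO h2 N n (fun u hu => S.Y.all4 c4 wz ha a1 a2 h hu)
      fun u hu => mix c4 N S.Y Y' c4' wz ha a1 a2 hu h
  · exact S.beta c4 hO h2 N wz n ha hb h fun e =>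
      h (mix c4' (N.conj g) Y' S.Y c4 wz.symm hb b1 b2 ha e)

end SD

end Cfsg.Agent.H96.Par
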