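/-
Sections of a group with an involution centraliser `(2^k × 2^{1+8}).Γ`.
-/
import Cfsg.Agent.H96.PaG
import Cfsg.Agent.S0270
import Cfsg.Agent.H44.Cores
import Mathlib.GroupTheory.FixedPointFree

set_option autoImplicit false
set_option linter.unusedSimpArgs false
set_option linter.unusedSectionVars false

namespace Cfsg.Agent.H96.Par

open Subgroup H4.GF H4.GF.M43 H4.GF.M43.QVx H15 H97 H29

universe u

variable {G : Type u} [Group G] {J Z : Subgroup G} {z : G} {Γ : Type*} [Group Γ] {ρ : G → Γ}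
  {L : Subgroup Γ} {τ : W → Γ}

/-- `L ≅ PSp₄(3)` is normal and normalises no 2-subgroup -/
structure GD (L : Subgroup Γ) : Prop where
  nl : L.Normal
  o2 : O2 L
  e : Nonempty (L ≃* PSp 2 (ZMod 3))

namespace GD

variable (D : GD L)
include D

theorem simple : IsSimpleGroup L :=
  have := S0270.result (F := ZMod 3) 2 le_rfl fun _ => (ZMod.card 3).ge
  have := D.e.some.toEquiv.nontrivial
  IsSimpleGroup.isSimpleGroup_of_surjective D.e.some.symm.toMonoidHom D.e.some.symm.surjective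

theorem le_or (N : Subgroup Γ) (hN : ∀ l ∈ L, ∀ p ∈ N, cj l p ∈ N) :
    L ≤ N ∨ ∀ l ∈ L, l ∈ N → l = 1 := by
  have := D.simple
  rcases (show (N.subgroupOf L).Normal from ⟨fun n hn g => hN g g.2 n hn⟩).eq_bot_or_eq_top with h | h
  · exact .inr fun l hl hn => congrArg Subtype.val ((eq_bot_iff_forall _).1 h ⟨l, hl⟩ hn)
  · exact .inl (subgroupOf_eq_top.1 h)

theorem cm {N : Subgroup Γ} (hN : N.Normal) (h : ∀ l ∈ L, l ∈ N → l = 1) {s l : Γ} (hs : s ∈ N)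
    (hl : l ∈ L) : Commute s l :=
  commute_of_normal_of_disjoint N L hN D.nl (disjoint_def.2 fun h1 h2 => h _ h2 h1) s l hs hl

theorem inv1 {s : Γ} (ss : s * s = 1) (h : ∀ l ∈ L, Commute s l) : s = 1 :=
  zpowers_eq_bot.1 (D.o2 (zpowers s) (fun p => ⟨1, by
    obtain ⟨p, hp⟩ := p
    rcases (mem_zpowers_two ss).1 hp with rfl | rfl <;> ext <;> simp [pow_two, ss]⟩)
    fun l hl p hp => by
      rcases (mem_zpowers_two ss).1 hp with rfl | rfl
      exacts [(cj_one l).symm ▸ hp, (cj_eq.2 (h l hl).symm).symm ▸ hp])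

theorem min {N : Subgroup Γ} (hN : N.Normal) {s : Γ} (hs : s ∈ N) (ss : s * s = 1) (s1 : s ≠ 1) :
    L ≤ N :=
  (D.le_or N fun l _ p hp => hN.conj_mem p hp l).resolve_right fun h =>
    s1 (D.inv1 ss fun _ hl => D.cm hN h hs hl)

theorem hm (h2 : ∀ a b : Γ, a ∉ L → b ∉ L → a * b ∈ L) (N : Subgroup Γ) (hN : N.Normal)
    (n : N ≠ ⊥) : L ≤ N :=
  (D.le_or N fun l _ p hp => hN.conj_mem p hp l).resolve_right fun h =>
    n ((eq_bot_iff_forall _).2 fun s hs => D.inv1 (h _ ((em (s ∈ L)).elim (fun e => L.mul_mem e e)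
      fun e => h2 s s e e) (N.mul_mem hs hs)) fun _ hl => D.cm hN h hs hl)

theorem cenL {s : Γ} (hs : s ∈ L) (h : ∀ l ∈ L, Commute s l) : s = 1 := by
  obtain ⟨τ, T⟩ := exists_TD L D.e.some
  have := D.simple
  refine (D.le_or (centralizer L) fun l hl p hp => ?_).elim (fun k => ?_)
    fun k => k s hs fun l hl => (h l hl).symm
  · rwa [cj_eq.2 (hp l hl)]
  · have : IsMulCommutative L := ⟨⟨fun a b => Subtype.ext (k b.2 a a.2)⟩⟩
    have : Finite L := Nat.finite_of_card_ne_zero (by rw [T.card]; decide)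
    have := (Group.is_simple_iff_prime_card (α := L)).1 inferInstance
    rw [T.card] at this; revert this; norm_num

theorem cen1 (h2 : ∀ a b : Γ, a ∉ L → b ∉ L → a * b ∈ L) {s : Γ} (h : ∀ l ∈ L, Commute s l) :
    s = 1 :=
  D.inv1 (D.cenL ((em (s ∈ L)).elim (fun e => L.mul_mem e e) fun e => h2 s s e e)
    fun l hl => (h l hl).mul_left (h l hl)) h

theorem sub {Γ₀ : Subgroup Γ} (h : L ≤ Γ₀) : GD (L.subgroupOf Γ₀) :=
  ⟨D.nl.subgroupOf _, fun P hP hn => (map_eq_bot_iff_of_injective P Γ₀.subtype_injective).1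
    (D.o2 _ (hP.map _) (by
      rintro l hl _ ⟨p, hp, rfl⟩
      exact ⟨_, hn ⟨l, h hl⟩ hl p hp, rfl⟩)), ⟨(subgroupOfEquivOfLe h).trans D.e.some⟩⟩

end GD

theorem iso_of_sup [Finite G] (zz : z * z = 1) (h : centralizer {z} ⊔ oddCore G = ⊤) :
    Iso 1 z := fun g _ c => by
  obtain ⟨k, hk, o, ho, rfl⟩ : ∃ o ∈ oddCore G, ∃ k ∈ centralizer {z}, o * k = g := by
    have : g ∈ ((oddCore G ⊔ centralizer {z} : Subgroup G) : Set G) := by rw [sup_comm, h]; trivial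
    rwa [normal_mul] at this
  rw [← cj_cj, cj_eq.2 (mem_cen.1 ho)] at c ⊢
  have m : cj k z * z ∈ oddCore G := by
    have := mul_mem hk ((pPrimeCore_normal 2 G).conj_mem _ (inv_mem hk) z)
    rwa [inv_eq_of_mul_eq_one_right zz, ← mul_assoc, ← mul_assoc] at this
  have e : (cj k z * z) ^ 2 = 1 := by rw [c.mul_pow, pow_two, pow_two, cj_sq zz, zz, one_mul]
  have := (Nat.Coprime.coprime_dvd_left (orderOf_dvd_natCard (⟨_, m⟩ : oddCore G))
    H44.pPrimeCore_coprime).eq_one_of_dvd (orderOf_dvd_of_pow_eq_one (Subtype.ext e))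
  rw [eq_inv_of_mul_eq_one_left (congrArg Subtype.val (orderOf_eq_one_iff.1 this)),
    inv_eq_of_mul_eq_one_right zz]

theorem card_map' {C M : Type*} [Group C] [Group M] (f : C →* M) {A : Subgroup C} (h : f.ker ≤ A) :
    Nat.card A = Nat.card f.ker * Nat.card (A.map f) := by
  rw [← (f.comp A.subtype).ker.card_mul_index, index_ker, MonoidHom.range_comp, range_subtype,
    ← Nat.card_congr (subgroupOfEquivOfLe h).toEquiv]
  rfl

namespace LY

variable (Y : LY J Z z ρ)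
include Y

theorem KZ4 [Finite G] (T : TD L τ) (c4 : Nat.card Z = 4) (g : G) (hg : Commute g z) (hL : ρ g ∈ L)
    (t : G) (ht : t ∈ Z) : Commute g t := by
  obtain ⟨m, hm, -, j, hj, rfl⟩ := Y.gen T (centralizer {t})
    (fun k _ hk _ _ => mem_cen.2 (Y.sq4 c4 hk ht)) hg hL
  exact (Y.cen ht hj).symm.mul_left (mem_cen.1 hm)

theorem exists_SD [Finite G] (D : GD L) (T : TD L τ)
    (KZ : ∀ g, Commute g z → ρ g ∈ L → ∀ t ∈ Z, Commute g t)
    (hC : ∀ g, Commute g z → (∀ l ∈ L, Commute (ρ g) l) → (∀ a ∈ J, cj g a * a⁻¹ ∈ Z) → g ∈ J) :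
    ∃ (V : Type u) (_ : AddCommGroup V) (_ : Module (ZMod 2) V) (_ : DistribMulAction Γ V)
      (π : G → V) (X : QV Γ V), SD J Z z ρ L τ π X := by
  obtain ⟨V, _, _, _, π, M⟩ := Y.exists_MQ Y.ZJ Y.mem fun _ hg _ ha => Y.normZ hg ha
  have k : ∀ g, Commute g z → (ρ g ∈ (MulAction.toPermHom Γ V).ker ↔
      ∀ a ∈ J, cj g a * a⁻¹ ∈ Z) := fun g hg => by
    refine ⟨fun h a ha => (M.fix_iff Y hg ha).1 (Equiv.congr_fun h _), fun h => Equiv.ext fun v => ?_⟩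
    obtain ⟨a, ha, rfl⟩ := M.surj v
    exact (M.fix_iff Y hg ha).2 (h a ha)
  obtain ⟨X, h1, h2⟩ := M.exists_QV Y fun g hg h => hC g hg (fun l hl => D.cm inferInstance
    ((D.le_or _ fun l _ p hp => Normal.conj_mem inferInstance p hp l).resolve_left fun le => by
      obtain ⟨g, hg, e⟩ := Y.ρ_surj (τ e1)
      have := Y.ρ_J (Y.ZJ ((Y.large (g * g)).1 fun a ha => by
        have t := (k g hg).1 (e ▸ le (T.mem e1)) a ha
        rw [← cj_eq, ← cj_cj, ← inv_mul_cancel_right (cj g a) a, cj_mul,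
          cj_eq.2 (KZ g hg (e ▸ T.mem e1) _ t), ← inv_mul_cancel_right (cj g a) a, ← mul_assoc,
          inv_mul_cancel_right, Y.Zsq _ t, one_mul]))
      rw [Y.ρ_mul _ _ hg hg, e] at this
      exact T.ne e1 (fr_ne 0) (by simpa [this] using T.cube e1)) ((k g hg).2 h) hl) h
  refine ⟨V, _, _, _, π, X, Y, M, h1, h2, ?_, T, KZ⟩
  have := M.card
  rw [Y.card] at this
  exact (Nat.eq_of_mul_eq_mul_right Nat.card_pos this).symm

theorem lx [Finite G] (hZ : ∀ t ∈ Z, t = 1 ∨ t = z)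
    (inner : ∀ g, Commute g z → (∀ a ∈ J, cj g a * a⁻¹ ∈ Z) → g ∈ J) :
    LX J z ∧ Nat.card J = 512 := by
  have eZ : Z = zpowers z := le_antisymm (fun t ht => (mem_zpowers_two Y.sq).2 (hZ t ht))
    (zpowers_le.2 Y.mem)
  refine ⟨⟨Y.zJ, Y.ne, Y.sq, fun a ha => Y.cz ha, Y.comm, Y.sqr,
    fun g h => hZ g ((Y.large g).1 h), Y.norm, fun P hP zP a ha n => ?_⟩,
    by rw [Y.card, eZ, Nat.card_zpowers, orderOf_two Y.ne Y.sq]⟩
  obtain ⟨V, _, _, _, π, M⟩ := Y.exists_MQ Y.ZJ Y.mem fun _ hg _ ha => Y.normZ hg ha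
  obtain ⟨X, h1, -⟩ := M.exists_QV Y inner
  have : Finite V := Nat.finite_of_card_ne_zero fun e => by
    have := M.card
    rw [e, zero_mul] at this
    exact Nat.card_pos.ne' this
  by_contra hno
  push Not at hno
  obtain ⟨b, hb, e⟩ : π a ∈ M.im P := X.perp_perp (M.im P) ▸ fun v hv => by
    obtain ⟨b, hb, rfl⟩ := M.surj v
    rw [h1 b hb a ha]
    exact sg_ne_one fun e => hno b hb (fun m hm => (sg_eq_zero.1 ((h1 m (hP hm) b hb).symm.trans
      (hv _ ⟨m, ⟨hP hm, hm⟩, rfl⟩))).symm) ((Y.sg_one_iff hb ha).1 e)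
  have := (M.π_eq ha hb.1).1 e.symm
  rw [eZ] at this
  exact n ((P.mul_mem_cancel_right (P.inv_mem hb.2)).1 (zpowers_le.2 zP this))

end LY

/-- a section `C → M` -/
structure Sec (J Z : Subgroup G) (z : G) (C : Subgroup G) {M : Type u} [Group M] (f : C →* M)
    (z' : M) : Prop where
  surj : Function.Surjective f
  zC : z ∈ C
  fz : f ⟨z, zC⟩ = z'
  nz : z' ≠ 1
  JC : ∀ x ∈ J, ∃ t ∈ Z, x * t ∈ C
  kZ : ∀ c, f c = 1 → (c : G) ∈ Z
  cz : ∀ c, Commute (f c) z' → Commute (c : G) z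

namespace Sec

variable {C : Subgroup G} {M : Type u} [Group M] {f : C →* M} {z' : M} (E : Sec J Z z C f z')
include E

theorem cz' {c : C} (h : Commute (c : G) z) : Commute (f c) z' :=
  E.fz ▸ (show Commute c ⟨z, E.zC⟩ from Subtype.ext h).map f

theorem mem {A : Subgroup G} (h : Z ≤ A) {c : C} : f c ∈ (A.subgroupOf C).map f ↔ (c : G) ∈ A := by
  refine ⟨?_, fun h => ⟨c, h, rfl⟩⟩
  rintro ⟨b, hb, e⟩
  have := h (E.kZ (b⁻¹ * c) (by rw [map_mul, map_inv, e, inv_mul_cancel]))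
  exact (mul_mem_cancel_left (inv_mem hb)).1 this

variable [Finite G] {V : Type u} [AddCommGroup V] [Module (ZMod 2) V] [DistribMulAction Γ V]
  {π : G → V} {X : QV Γ V} (S : SD J Z z ρ L τ π X)
include S

theorem inner {c : C} (hc : Commute (c : G) z)
    (h : ∀ a ∈ (J.subgroupOf C).map f, cj (f c) a * a⁻¹ ∈ (Z.subgroupOf C).map f) : (c : G) ∈ J :=
  S.inner hc fun x hx => by
    obtain ⟨t, ht, m⟩ := E.JC x hx
    have := h _ ⟨⟨_, m⟩, J.mul_mem hx (S.Y.ZJ ht), rfl⟩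
    rw [cj, ← map_inv, ← map_inv, ← map_mul, ← map_mul, ← map_mul, E.mem le_rfl] at this
    change cj (c : G) (x * t) * (x * t)⁻¹ ∈ Z at this
    have u := Z.mul_mem (S.Y.normZ hc ht) (Z.inv_mem ht)
    rwa [cj_mul, mul_inv_rev, ← mul_assoc, mul_assoc (cj _ x), mul_assoc,
      (S.Y.cen u (J.inv_mem hx)).eq, ← mul_assoc, mul_mem_cancel_right u] at this

theorem ly : ∃ ρ' : M → (C.subgroupOf (centralizer {z})).map S.Y.hom,
    LY ((J.subgroupOf C).map f) ((Z.subgroupOf C).map f) z' ρ' ∧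
      ∀ c : C, Commute (c : G) z → (ρ' (f c) : Γ) = ρ c := by
  classical
  have Y := S.Y
  choose s hs using E.surj
  let ρ' : M → (C.subgroupOf (centralizer {z})).map S.Y.hom := fun m =>
    if h : Commute (s m : G) z then ⟨ρ (s m), ⟨_, mem_cen.2 h⟩, (s m).2, rfl⟩ else 1
  have hρ : ∀ c : C, Commute (c : G) z → (ρ' (f c) : Γ) = ρ c := fun c hc => by
    have h : Commute (s (f c) : G) z := E.cz _ (by rw [hs]; exact E.cz' hc)
    simp only [ρ', dif_pos h]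
    exact (Y.ρ_eq h hc).2 (Y.ZJ (E.kZ (s (f c) * c⁻¹) (by rw [map_mul, map_inv, hs, mul_inv_cancel])))
  have fcj : ∀ a b : C, cj (f a) (f b) = f (cj a b) := fun a b => by simp [cj]
  refine ⟨ρ', ⟨⟨⟨z, E.zC⟩, Y.mem, E.fz⟩, E.nz, map_mono (subgroupOf_mono C Y.ZJ), ?_, fun g => ?_, ?_,
    ?_, fun g hg => ?_, ?_, fun g h hg hh => ?_, ?_, fun g hg => ?_⟩, hρ⟩
  · rintro _ ⟨t, ht, rfl⟩
    rw [← map_mul, show t * t = 1 from Subtype.ext (Y.Zsq t ht), map_one]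
  · obtain ⟨c, rfl⟩ := E.surj g
    rw [E.mem le_rfl]
    refine ⟨fun h => ?_, ?_⟩
    · have hc := E.cz c (h _ ⟨⟨z, E.zC⟩, Y.zJ, E.fz⟩)
      have cJ := E.inner S hc fun a ha => by rw [cj_eq.2 (h a ha), mul_inv_cancel]; exact one_mem _
      refine (Y.large c).1 fun x hx => ?_
      obtain ⟨t, ht, m⟩ := E.JC x hx
      have m' := J.mul_mem hx (Y.ZJ ht)
      have := cj_eq.1 ((Y.comm c cJ _ m').resolve_right fun e => E.nz (by
        have := cj_eq.2 (h _ ⟨⟨_, m⟩, m', rfl⟩)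
        rwa [fcj, show cj c ⟨_, m⟩ = ⟨z, E.zC⟩ * ⟨_, m⟩ from Subtype.ext e, map_mul, mul_eq_right,
          E.fz] at this))
      simpa using this.mul_right (Y.cen ht cJ).symm.inv_right
    · rintro h _ ⟨a, ha, rfl⟩
      exact (show Commute c a from Subtype.ext (Y.cen h ha)).map f
  · rintro _ ⟨a, ha, rfl⟩ _ ⟨b, hb, rfl⟩
    rw [fcj, ← E.fz, ← map_mul]
    exact (Y.comm a ha b hb).imp (fun e => congrArg f (Subtype.ext e)) fun e => congrArg f (Subtype.ext e)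
  · rintro _ ⟨a, ha, rfl⟩
    rw [← E.fz, ← map_mul, ← f.map_one]
    exact (Y.sqr a ha).imp (fun e => congrArg f (Subtype.ext e)) fun e => congrArg f (Subtype.ext e)
  · obtain ⟨c, rfl⟩ := E.surj g
    rintro _ ⟨a, ha, rfl⟩
    exact ⟨cj c a, Y.norm c (E.cz c hg) a ha, (fcj c a).symm⟩
  · have h1 := card_map' f (A := J.subgroupOf C) fun c hc => Y.ZJ (E.kZ c hc)
    have h2 := card_map' f (A := Z.subgroupOf C) fun c hc => E.kZ c hc
    let φ : J.subgroupOf C →* Multiplicative V := MonoidHom.mk' (fun a => Multiplicative.ofAdd (π a))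
      fun a b => congrArg _ (S.M.π_mul _ a.2 _ b.2)
    have h3 := φ.ker.card_mul_index
    rw [index_ker, MonoidHom.range_eq_top.2 (fun v => by
        obtain ⟨x, hx, e⟩ := S.M.surj v.toAdd
        obtain ⟨t, ht, m⟩ := E.JC x hx
        refine ⟨⟨⟨_, m⟩, J.mul_mem hx (Y.ZJ ht)⟩, congrArg Multiplicative.ofAdd ?_⟩
        change π (x * t) = _
        rw [S.M.π_mul x hx t (Y.ZJ ht), (S.M.π_zero t (Y.ZJ ht)).2 ht, add_zero, e]; rfl),
      card_top, show Nat.card (Multiplicative V) = 256 from S.cV,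
      show φ.ker = (Z.subgroupOf C).subgroupOf _ from ext fun a => S.M.π_zero _ a.2,
      Nat.card_congr (subgroupOfEquivOfLe (subgroupOf_mono C Y.ZJ)).toEquiv, h1, h2] at h3
    have : 0 < Nat.card f.ker := Nat.card_pos
    nlinarith
  · obtain ⟨a, rfl⟩ := E.surj g
    obtain ⟨b, rfl⟩ := E.surj h
    have ha := E.cz a hg
    have hb := E.cz b hh
    refine Subtype.ext ?_
    rw [← map_mul, coe_mul, hρ a ha, hρ b hb, hρ _ (ha.mul_left hb), coe_mul, Y.ρ_mul _ _ ha hb]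
  · rintro ⟨_, ⟨g, hg⟩, hC, rfl⟩
    exact ⟨f ⟨g, hC⟩, E.cz' (mem_cen.1 hg), Subtype.ext (hρ _ (mem_cen.1 hg))⟩
  · obtain ⟨c, rfl⟩ := E.surj g
    rw [E.mem Y.ZJ, Subtype.ext_iff, hρ c (E.cz c hg)]
    exact Y.ρ_ker c (E.cz c hg)

/-- the theorem on centralisers `2^{1+8}.PSp₄(3)` applied in a section -/
theorem app (D : GD L) (h2 : ∀ a ∈ C, ∀ b ∈ C, Commute a z → Commute b z → ρ a ∉ L → ρ b ∉ L →
      ρ a * ρ b ∈ L) (hL : ∀ l ∈ L, ∃ c ∈ C, Commute c z ∧ ρ c = l)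
    (hZ : ∀ t : C, (t : G) ∈ Z → f t = 1 ∨ f t = z') (n : ¬ Iso 1 z') :
    LX ((J.subgroupOf C).map f) z' ∧ W5 (cls z') (fam z' ((J.subgroupOf C).map f)) ∧
      Nonempty (closure (cls z') ≃* PSU 6 F4 2) ∧
      ∀ c : C, Commute (c : G) z → ρ c ∈ L → f c ∈ closure (cls z') := by
  have : Finite M := Finite.of_surjective f E.surj
  obtain ⟨ρ', Y, hρ⟩ := E.ly S
  have le : L ≤ (C.subgroupOf (centralizer {z})).map S.Y.hom := fun l hl => by
    obtain ⟨c, hc, cz, rfl⟩ := hL l hl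
    exact ⟨⟨c, mem_cen.2 cz⟩, hc, rfl⟩
  have D' := D.sub le
  have := D'.nl
  have h2' : ∀ a b : (C.subgroupOf (centralizer {z})).map S.Y.hom, a ∉ L.subgroupOf _ →
      b ∉ L.subgroupOf _ → a * b ∈ L.subgroupOf _ := by
    rintro ⟨_, a, ha, rfl⟩ ⟨_, b, hb, rfl⟩
    exact h2 a ha b hb (mem_cen.1 a.2) (mem_cen.1 b.2)
  obtain ⟨lx, c⟩ := Y.lx (by rintro _ ⟨t, ht, rfl⟩; exact hZ t ht) fun g hg h => by
    obtain ⟨c, rfl⟩ := E.surj g
    exact ⟨c, E.inner S (E.cz c hg) h, rfl⟩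
  have hs : Function.Surjective Y.hom := fun γ => by
    obtain ⟨g, hg, e⟩ := Y.ρ_surj γ
    exact ⟨⟨g, mem_cen.2 hg⟩, e⟩
  have hk : ∀ h, Y.hom h = 1 ↔ (h : M) ∈ (J.subgroupOf C).map f := fun h => Y.ρ_ker h (mem_cen.1 h.2)
  rcases psp43 lx c (fun g hg h => Y.o2 D'.o2 (R := pCore 2 M ⊓ centralizer {z'})
    (fun r hr => mem_cen.1 hr.2) (H44.pCore_isPGroup.to_le inf_le_left) (fun k hk _ r hr =>
      ⟨(pCore_normal 2 M).conj_mem r hr.1 k, mem_cen.2 (cm_cj hk (mem_cen.1 hr.2))⟩)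
    ⟨hg, mem_cen.2 h⟩) Y.hom hs hk _ h2' D'.e.some with h | ⟨c5, e⟩
  · exact absurd (iso_of_sup Y.sq h) n
  exact ⟨lx, c5, e, fun c hc h => c5.mem_of lx Y.hom hs hk (D'.hm h2') (h := ⟨f c, mem_cen.2 (E.cz' hc)⟩)
    (by change (ρ' (f c) : Γ) ∈ L; rwa [hρ c hc])⟩

end Sec

end Cfsg.Agent.H96.Par
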