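/-
Consequences of a section `U₆(2)`.
-/
import Cfsg.Agent.H96.PaH
import Cfsg.Agent.S0280
import Cfsg.Agent.S0283

set_option autoImplicit false
set_option linter.unusedSimpArgs false
set_option linter.unusedSectionVars false

namespace Cfsg.Agent.H96.Par

open Subgroup H4.GF H4.GF.M43 H4.GF.M43.QVx H15 H97 H29
open scoped commutatorElement

universe u

variable {G : Type u} [Group G] {J Z : Subgroup G} {z : G} {Γ : Type*} [Group Γ] {ρ : G → Γ}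
  {L : Subgroup Γ} {τ : W → Γ}

theorem u6_card : Nat.card (PSU 6 F4 2) = 9196830720 := by
  have h1 := S0280.result (q := 2) F4.card_eq 6 (by decide)
  rw [show 2 ^ (6 * (6 - 1) / 2) * ∏ i ∈ Finset.range 6,
    (if Even i then 2 ^ (i + 1) + 1 else 2 ^ (i + 1) - 1) = 82771476480 by decide +kernel,
    show Nat.gcd 6 (2 + 1) = 3 by decide] at h1
  omega

theorem u6_simple {N : Type*} [Group N] (e : N ≃* PSU 6 F4 2) : IsSimpleGroup N :=
  have := S0283.result (q := 2) F4.card_eq 6 (by decide) (by decide)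
  have := e.toEquiv.nontrivial
  IsSimpleGroup.isSimpleGroup_of_surjective e.symm.toMonoidHom e.symm.surjective

theorem u6_res {N : Type*} [Group N] [Finite N] (e : N ≃* PSU 6 F4 2) : pResidual 2 N = ⊤ := by
  have := u6_simple e
  have : Fact (Nat.Prime 2) := ⟨Nat.prime_two⟩
  by_contra h
  obtain ⟨M, hM, i⟩ := H3.pResidual_ne_top_iff.1 h
  rcases hM.eq_bot_or_eq_top with rfl | rfl
  · rw [index_bot, Nat.card_congr e.toEquiv, u6_card] at i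
    omega
  · simp at i

theorem lx_sub {Q N : Subgroup G} (h : LX Q z) (hQ : Q ≤ N) :
    LX (Q.subgroupOf N) ⟨z, hQ h.mem⟩ := by
  refine ⟨h.mem, fun e => h.ne (congrArg Subtype.val e), Subtype.ext h.sq,
    fun a ha => Subtype.ext (h.cen a ha),
    fun a ha b hb => (h.comm a ha b hb).imp Subtype.ext Subtype.ext,
    fun a ha => (h.sqr a ha).imp Subtype.ext Subtype.ext,
    fun g hg => (h.large g fun a ha => congrArg Subtype.val (hg ⟨a, hQ ha⟩ ha)).imp Subtype.ext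
      Subtype.ext, fun g hg a ha => h.norm g (congrArg Subtype.val hg) a ha, fun M hM hz a ha n => ?_⟩
  obtain ⟨b, hb, h1, h2⟩ := h.sep (M.map N.subtype) (map_le_iff_le_comap.2 hM) ⟨_, hz, rfl⟩ a ha
    (by rwa [← coe_subtype, mem_map_iff_mem N.subtype_injective])
  exact ⟨⟨b, hQ hb⟩, hb, fun m hm => Subtype.ext (h1 _ ⟨m, hm, rfl⟩), Subtype.ext h2⟩

theorem inverts [Finite G] {O : Subgroup G} [hO : O.Normal] {t : G} (tt : t * t = 1)
    (h : ∀ o ∈ O, Commute t o → o = 1) {o : G} (ho : o ∈ O) : cj t o = o⁻¹ :=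
  congrArg Subtype.val (congrFun (MonoidHom.FixedPointFree.coe_eq_inv_of_involutive
    (φ := MulAut.conjNormal (H := O) t) (fun g e => Subtype.ext (h g g.2 (cj_eq.1 (congrArg Subtype.val e))))
    fun g => Subtype.ext (show cj t (cj t g) = g by rw [cj_cj, tt]; simp [cj])) ⟨o, ho⟩)

theorem odd_one [Finite G] {o : G} {n : ℕ} (ho : o ∈ oddCore G) (h : o ^ 2 ^ n = 1) : o = 1 :=
  congrArg Subtype.val (orderOf_eq_one_iff.1 (((Nat.Coprime.coprime_dvd_left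
    (orderOf_dvd_natCard (⟨o, ho⟩ : oddCore G)) H44.pPrimeCore_coprime).pow_right n).eq_one_of_dvd
    (orderOf_dvd_of_pow_eq_one (Subtype.ext h))))

variable [Finite G] {V : Type u} [AddCommGroup V] [Module (ZMod 2) V] [DistribMulAction Γ V]
  {π : G → V} {X : QV Γ V}

/-- `d` acts on `J` like a transvection -/
structure Tr (J Z : Subgroup G) (z : G) (ρ : G → Γ) (π : G → V) (X : QV Γ V) (d : G) : Prop where
  cz : Commute d z
  sq : d * d = 1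
  nJ : d ∉ J
  cZ : ∀ u ∈ Z, Commute d u
  card : Nat.card (Im V (ρ d)) ≤ 4
  sing : ∀ v ∈ Im V (ρ d), X.f v = 0
  fix : ∀ x ∈ J, ρ d • π x = π x → Commute d x

namespace SD

variable (S : SD J Z z ρ L τ π X)
include S

theorem trZ (hO : O2 L) {A : Type*} [CommGroup A] (ϕ : centralizer ({z} : Set G) →* A) {t : G}
    (ht : t ∈ Z) : MonoidHom.transfer ϕ t = ϕ ⟨t, mem_cen.2 (S.Y.cen ht S.Y.zJ)⟩ :=
  tr_one ϕ _ (S.Y.Zsq t ht) J S.Y.isP (fun _ hp => (S.Y.cen ht hp).symm)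
    (fun _ hp => mem_cen.2 (S.Y.cz hp)) fun g h => mem_cen.2 (cj_eq.1 (S.wc hO ((S.Y.large _).1
      fun p hp => by
        rw [← cj_inv' g p, cj_comm]
        simpa [cj] using (mem_cen.1 (h p hp)).symm)))

theorem odd (D : GD L) {g : G} (h : Commute (cj g z) z) (n : cj g z ∉ J) : oddCore G = ⊥ := by
  have := S.fin
  have nO := pPrimeCore_normal 2 G
  have k : ∀ o ∈ oddCore G, o ∈ J → o = 1 := fun o ho hj => by
    obtain ⟨n, e⟩ := S.Y.isP ⟨o, hj⟩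
    exact odd_one ho (congrArg Subtype.val e)
  have i : ∀ o ∈ oddCore G, cj z o = o⁻¹ := fun o ho => inverts S.Y.sq (fun o ho c =>
    k o ho (S.Y.ZJ ((S.Y.large o).1 fun a ha => cj_eq.1 (mul_inv_eq_one.1 (k _ (by
      simpa [cj, mul_assoc] using mul_mem ho (nO.conj_mem _ (inv_mem ho) a))
      (J.mul_mem (S.Y.norm o c.symm a ha) (J.inv_mem ha))))))) ho
  let N := centralizer (oddCore G : Set G)
  have m : cj g z * z ∈ N := fun o ho => (cj_eq.1 (by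
    obtain ⟨o', rfl⟩ := cj_sur g o
    have h' : o' ∈ oddCore G := by simpa [cj, mul_assoc] using nO.conj_mem _ ho g⁻¹
    rw [← cj_cj, i _ ho, ← cj_iv, cj_sw, i _ (inv_mem h'), inv_inv])).symm
  have hz := h.mul_left (Commute.refl z)
  have e : ρ (cj g z * z) = ρ (cj g z) := by
    rw [S.Y.ρ_mul _ _ h (Commute.refl z), S.Y.ρ_J S.Y.zJ, mul_one]
  obtain ⟨⟨k, kz⟩, hk, ek⟩ := D.min (N := (N.subgroupOf _).map S.Y.hom) (Normal.map inferInstance _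
    fun γ => by obtain ⟨g, hg, e⟩ := S.Y.ρ_surj γ; exact ⟨⟨g, mem_cen.2 hg⟩, e⟩)
    ⟨⟨_, mem_cen.2 hz⟩, m, e⟩ (S.Y.ρ_sq h (cj_sq S.Y.sq)) (fun e => n ((S.Y.ρ_ker _ h).1 e))
    (S.T.mem e1)
  replace kz := mem_cen.1 kz
  replace hk : k ∈ N := hk
  replace ek : ρ k = τ e1 := ek
  obtain ⟨x, hx, e⟩ : ∃ x ∈ J, cj k x * x⁻¹ * (cj k x * x⁻¹) = z := by
    by_contra hno
    push Not at hno
    have h1 := (sing_le X S.cV (le_perp X (A := Im V (τ e1)) (by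
      rintro _ ⟨v, rfl⟩
      obtain ⟨x, hx, rfl⟩ := S.M.surj v
      have m := J.mul_mem (S.Y.norm k kz x hx) (J.inv_mem hx)
      rw [Nm_apply, ← ek]
      exact (S.M.nm S.Y kz hx).symm ▸ (S.hf _ m).2 ((S.Y.sqr _ m).resolve_right (hno x hx))))).1
    have h2 := card_Fx_Im' (V := V) (τ e1)
    rw [S.T.fx X S.cV (v := e1) (fr_ne 0), S.cV] at h2
    omega
  have m2 : cj k x * x⁻¹ ∈ N := by
    simpa [cj, mul_assoc] using mul_mem hk (Normal.conj_mem inferInstance _ (inv_mem hk) x)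
  refine (eq_bot_iff_forall _).2 fun o ho => odd_one ho (n := 1) ?_
  have := i o ho
  rw [cj_eq.2 (show Commute z o from ((e ▸ mul_mem m2 m2 : z ∈ N) o ho).symm)] at this
  rw [pow_one, pow_two, ← eq_inv_iff_mul_eq_one, ← this]

theorem genJ {Jc : V →+ V} (C : CF X L Jc) {P : Subgroup G} (ZP : Z ≤ P)
    (h : ∀ k, Commute k z → ρ k ∈ L → ∀ x ∈ J, cj k x * x⁻¹ ∈ P) : J ≤ P := fun x hx => by
  have := S.fin
  obtain ⟨y, hy, e⟩ : π x ∈ S.M.im P := X.perp_perp (S.M.im P) ▸ fun v hv => by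
    rw [C.nofix v fun l hl => inv_smul_eq_iff.1 (add_eq_zero2.1 (X.nd' fun u => by
      obtain ⟨k, hk, rfl⟩ := S.Y.ρ_surj l
      obtain ⟨y, hy, rfl⟩ := S.M.surj u
      rw [X.B_comm, ← X.adj, S.M.nm S.Y hk hy]
      exact hv _ ⟨_, ⟨J.mul_mem (S.Y.norm k hk y hy) (J.inv_mem hy), h k hk hl y hy⟩, rfl⟩)) |>.symm]
    simp
  exact (P.mul_mem_cancel_right (P.inv_mem hy.2)).1 (ZP ((S.M.π_eq hx hy.1).1 e.symm))

theorem lin4 {Jc : V →+ V} (C : CF X L Jc) {s : Γ} (h : Nat.card (Im V s) ≤ 4) : Lin Jc s := by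
  have := S.fin
  by_contra n
  have h1 := C.semi n (F := Fx V s) (K := ⊤) le_top (fun _ _ => trivial) le_rfl
  have h2 := card_Fx_Im' (V := V) s
  rw [AddSubgroup.card_top, S.cV] at h1
  rw [S.cV] at h2
  nlinarith

theorem tr_conj {d k : G} (t : Tr J Z z ρ π X d) (hk : Commute k z) : Tr J Z z ρ π X (cj k d) := by
  have := S.fin
  have e : ∀ v : V, ρ (cj k d) • v + v = ρ k • (ρ d • (ρ k)⁻¹ • v + (ρ k)⁻¹ • v) := fun v => by
    rw [S.Y.ρ_cj hk t.cz, smul_add, smul_inv_smul, cj, mul_smul, mul_smul]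
  refine ⟨cm_cj hk t.cz, cj_sq t.sq, fun h => t.nJ (cj_inv k d ▸ S.Y.norm _ hk.inv_left _ h),
    fun u hu => ?_, (card_le_smul (ρ k)⁻¹ ?_).trans t.card, ?_, fun x hx h => ?_⟩
  · rw [← cj_inv' k u, cj_comm]
    exact t.cZ _ (S.Y.normZ hk.inv_left hu)
  · rintro _ ⟨v, rfl⟩
    rw [Nm_apply, e, inv_smul_smul]
    exact ⟨_, rfl⟩
  · rintro _ ⟨v, rfl⟩
    rw [Nm_apply, e, X.f_smul]
    exact t.sing _ ⟨_, rfl⟩
  · rw [← cj_inv' k x, cj_comm]
    refine t.fix _ (S.Y.norm _ hk.inv_left x hx) ?_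
    rw [← add_eq_zero2, e, smul_eq_zero_iff_eq, add_eq_zero2] at h
    rwa [← S.M.act _ hk.inv_left x hx, S.Y.ρ_inv hk]

theorem same {Jc : V →+ V} (C : CF X L Jc) {d w : G} (td : Tr J Z z ρ π X d)
    (tw : Tr J Z z ρ π X w) : ∃ k, Commute k z ∧ ρ k ∈ L ∧ w * (cj k d)⁻¹ ∈ Z := by
  have := S.fin
  have key : ∀ d, Tr J Z z ρ π X d → ∃ u, u ≠ 0 ∧ X.f u = 0 ∧ Im V (ρ d) = pl u (Jc u) :=
    fun d t => by
      obtain ⟨u, hu, u0⟩ : ∃ u ∈ Im V (ρ d), u ≠ 0 := by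
        by_contra hno
        push Not at hno
        exact t.nJ ((S.Y.ρ_ker d t.cz).1 (X.faith _ fun v => add_eq_zero2.1 (hno _ ⟨v, rfl⟩)))
      refine ⟨u, u0, t.sing u hu, (AddSubgroup.eq_of_le_of_card_ge (pl_le hu ?_) ?_).symm⟩
      · obtain ⟨v, rfl⟩ := hu
        exact ⟨Jc v, by rw [Nm_apply, Nm_apply, map_add, S.lin4 C t.card]⟩
      · rw [card_pl u0 (C.toCB.ne u0).1 (C.toCB.ne u0).2]; exact t.card
  obtain ⟨u, u0, fu, e⟩ := key d td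
  obtain ⟨u', u0', fu', e'⟩ := key w tw
  obtain ⟨l, hl, m⟩ := C.trans u0 u0' fu fu'
  obtain ⟨k, hk, rfl⟩ := S.Y.ρ_surj l
  have t := S.tr_conj td hk
  have r := sieg_eq X tw.sing tw.card (fun e => tw.nJ ((S.Y.ρ_ker w tw.cz).1 e))
    (fun e => t.nJ ((S.Y.ρ_ker _ t.cz).1 e)) (fun v => ⟨v, rfl⟩) fun v => by
      have : ρ d • (ρ k)⁻¹ • v + (ρ k)⁻¹ • v ∈ pl u (Jc u) := e ▸ ⟨_, rfl⟩
      rw [S.Y.ρ_cj hk td.cz, cj, mul_smul, mul_smul, e', ← smul_inv_smul (ρ k) v, inv_smul_smul,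
        ← smul_add]
      exact pl_le (K := (pl u' (Jc u')).comap (ac V (ρ k))) m (by
        change ρ k • Jc u ∈ pl u' (Jc u')
        rw [← C.comm _ hl]
        exact pl_inv (C.om u') _ m) this
  have j := (S.Y.ρ_eq tw.cz t.cz).1 r
  obtain ⟨v, f⟩ : π (w * (cj k d)⁻¹) ∈ Im V (ρ (cj k d)) := by
    rw [← X.perp_Fx]
    intro v hv
    obtain ⟨x, hx, rfl⟩ := S.M.surj v
    exact (S.B0 hx j).2 ((tw.fix x hx (r ▸ mem_Fx.1 hv)).symm.mul_right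
      (t.fix x hx (mem_Fx.1 hv)).symm.inv_right)
  obtain ⟨y, hy, rfl⟩ := S.M.surj v
  have y1 := S.Y.norm _ t.cz _ (J.inv_mem hy)
  rw [Nm_apply, ← S.M.π_inv hy, S.M.act _ t.cz _ (J.inv_mem hy), S.M.π_inv hy, add_comm,
    ← S.M.π_mul _ hy _ y1, eq_comm, S.M.π_eq j (J.mul_mem hy y1)] at f
  refine ⟨y * k, (S.Y.cz hy).mul_left hk, by rwa [S.Y.ρ_mul _ _ (S.Y.cz hy) hk, S.Y.ρ_J hy, one_mul], ?_⟩
  rw [← cj_cj]
  generalize cj k d = d' at f
  simpa [cj, mul_assoc] using f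

theorem secA (hO : O2 L) {t : G} (ht : t ∈ Z) (n : t ≠ z)
    [((zpowers t).subgroupOf (centralizer {t})).Normal] :
    Sec J Z z (centralizer {t}) (QuotientGroup.mk' ((zpowers t).subgroupOf (centralizer {t})))
      (QuotientGroup.mk ⟨z, mem_cen.2 (S.Y.cen ht S.Y.zJ).symm⟩) := by
  refine ⟨QuotientGroup.mk'_surjective _, _, rfl, fun e => ?_,
    fun x hx => ⟨1, Z.one_mem, mem_cen.2 (by simpa using (S.Y.cen ht hx).symm)⟩,
    fun c e => zpowers_le.2 ht ((QuotientGroup.eq_one_iff c).1 e), fun c e => cj_eq.1 (S.wc hO ?_)⟩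
  · rcases (mem_zpowers_two (S.Y.Zsq t ht)).1 ((QuotientGroup.eq_one_iff
      (N := (zpowers t).subgroupOf (centralizer {t})) _).1 e) with e | e
    exacts [S.Y.ne e, n e.symm]
  · let z0 : centralizer ({t} : Set G) := ⟨z, mem_cen.2 (S.Y.cen ht S.Y.zJ).symm⟩
    have : cj (c : G) z * z⁻¹ ∈ Z := zpowers_le.2 ht ((QuotientGroup.eq_one_iff
      (N := (zpowers t).subgroupOf (centralizer {t})) (cj c z0 * z0⁻¹)).1
      (mul_inv_eq_one.2 (cj_eq.2 e) :))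
    exact (Z.mul_mem_cancel_right (Z.inv_mem S.Y.mem)).1 this

end SD

theorem cen_normal (t : G) : ((zpowers t).subgroupOf (centralizer {t})).Normal :=
  ⟨fun _ ⟨k, hk⟩ g => ⟨k, hk.trans (cj_eq.2 (hk ▸ (mem_cen.1 g.2).zpow_right k)).symm⟩⟩

namespace Sec

variable {C : Subgroup G} {M : Type u} [Group M] {f : C →* M} {z' : M} (E : Sec J Z z C f z')
  (S : SD J Z z ρ L τ π X)
include E S

theorem niso (hO : O2 L) {g : G} (hg : g ∈ C) (h : Commute (cj g z) z) (n : cj g z ≠ z) :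
    ¬ Iso 1 z' := fun i => n (S.wc hO (by
  have e : cj (f ⟨g, hg⟩) z' = f (cj ⟨g, hg⟩ ⟨z, E.zC⟩) := by
    rw [cj, cj, map_mul, map_mul, map_inv, E.fz]
  have := i (f ⟨g, hg⟩) (Commute.one_right _) (e ▸ E.cz' h)
  have := E.kZ (cj ⟨g, hg⟩ ⟨z, E.zC⟩ * ⟨z, E.zC⟩⁻¹) (by
    rw [map_mul, map_inv, ← e, this, E.fz, mul_inv_cancel])
  exact (Z.mul_mem_cancel_right (Z.inv_mem S.Y.mem)).1 this))

variable (lx : LX ((J.subgroupOf C).map f) z')
  (c5 : W5 (cls z') (fam z' ((J.subgroupOf C).map f)))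
include lx c5

theorem cf [L.Normal] (h2 : ∀ a ∈ C, ∀ b ∈ C, Commute a z → Commute b z → ρ a ∉ L → ρ b ∉ L →
      ρ a * ρ b ∈ L) (hZ : ∀ t : C, (t : G) ∈ Z → f t = 1 ∨ f t = z')
    (e : closure (cls z') ≃* PSU 6 F4 2) : ∃ Jc, CF X L Jc := by
  have := S.fin
  have : Finite M := Finite.of_surjective f E.surj
  refine (dichF S.T X S.cV).resolve_left fun ⟨U, A⟩ => ?_
  obtain ⟨u, u0, hu⟩ : ∃ u : V, u ≠ 0 ∧ ∀ c ∈ C, Commute c z → ρ c • u = u := by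
    obtain ⟨u, hu, u0⟩ := exists_ne_zero (K := U) (by rw [A.card]; decide)
    by_cases h : ∃ s ∈ C, Commute s z ∧ ρ s ∉ L
    · obtain ⟨s, hs, sz, n⟩ := h
      obtain ⟨u, hu, u0, e⟩ : ∃ u ∈ U, u ≠ 0 ∧ ρ s • u = u := by
        by_cases e : ρ s • u = u
        · exact ⟨u, hu, u0, e⟩
        exact ⟨ρ s • u + u, U.add_mem (A.norm S.T _ hu) hu, fun f => e (add_eq_zero2.1 f), by
          rw [smul_add, ← mul_smul, A.fixL S.T _ (h2 s hs s hs sz sz n n) u hu, add_comm]⟩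
      refine ⟨u, u0, fun c hc cz => ?_⟩
      by_cases f : ρ c ∈ L
      · exact A.fixL S.T _ f u hu
      · simpa [mul_smul, e] using A.fixL S.T _ (h2 c hc s hs cz sz f n) u hu
    · push Not at h
      exact ⟨u, u0, fun c hc cz => A.fixL S.T _ (h c hc cz) u hu⟩
  obtain ⟨y, hy, rfl⟩ := S.M.surj u
  obtain ⟨t, ht, m⟩ := E.JC y hy
  have hx := J.mul_mem hy (S.Y.ZJ ht)
  have e1 : π (y * t) = π y := by
    rw [S.M.π_mul y hy t (S.Y.ZJ ht), (S.M.π_zero t (S.Y.ZJ ht)).2 ht, add_zero]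
  have hQ := c5.Q_le (self_mem_cls z')
  rw [fam_self lx.norm] at hQ
  have hc := c5.big _ (self_mem_cls z')
  rw [fam_self lx.norm] at hc
  have := no_fixed (u6_res e) (lx_sub lx hQ) (by
    rw [Nat.card_congr (subgroupOfEquivOfLe hQ).toEquiv]; omega)
    (w := ⟨f ⟨_, m⟩, hQ ⟨_, hx, rfl⟩⟩) fun g hg => by
      obtain ⟨c, hc⟩ := E.surj g
      have cz := E.cz c (hc ▸ congrArg Subtype.val hg)
      have := hZ (cj c ⟨_, m⟩ * ⟨_, m⟩⁻¹) ((S.M.fix_iff S.Y cz hx).1 (e1 ▸ hu c c.2 cz))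
      rw [map_mul, map_inv, cj, map_mul, map_mul, map_inv, hc, mul_inv_eq_one,
        mul_inv_eq_iff_eq_mul (c := z')] at this
      exact this.imp Subtype.ext Subtype.ext
  refine u0 (e1 ▸ (S.M.π_zero _ hx).2 ((E.mem le_rfl (c := ⟨_, m⟩)).1 ?_))
  rcases this with h | h <;> rw [show f ⟨_, m⟩ = _ from congrArg Subtype.val h]
  exacts [one_mem _, ⟨⟨z, E.zC⟩, S.Y.mem, E.fz⟩]

theorem tr {Jc : V →+ V} (A : CF X L Jc) (JC : J ≤ C)
    (hC : ∀ c ∈ C, Commute c z → ∀ u ∈ Z, Commute c u) : ∃ g ∈ C, Tr J Z z ρ π X (cj g z) := by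
  have := S.fin
  have : Finite M := Finite.of_surjective f E.surj
  have hz := self_mem_cls z'
  obtain ⟨d', hd, t⟩ := c5.ex4 hz
  obtain ⟨g', rfl⟩ := id hd
  obtain ⟨g, rfl⟩ := E.surj g'
  have fs := fam_self lx.norm
  let d : C := cj g ⟨z, E.zC⟩
  have e : f g * z' * (f g)⁻¹ = f d := by simp [d, cj, E.fz]
  rw [e] at t hd
  have dz : Commute (d : G) z := E.cz d t.p.cm
  have nJ : (d : G) ∉ J := fun h => t.p.nd (fs.symm ▸ ⟨d, h, rfl⟩)
  have m : ∀ x ∈ J, cj (d : G) x * x⁻¹ ∈ J := fun x hx => J.mul_mem (S.Y.norm d dz x hx) (J.inv_mem hx)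
  have k : ∀ x (hx : x ∈ J), f ⟨_, JC (m x hx)⟩ = 1 ∨ ∃ e ∈ fam z' ((J.subgroupOf C).map f) z' ⊓
      fam z' ((J.subgroupOf C).map f) (f d), e ≠ 1 ∧ f ⟨_, JC (m x hx)⟩ = z' * e := fun x hx => by
    have := c5.cm_cases hz hd t (q := f ⟨x, JC hx⟩) (fs.symm ▸ ⟨_, hx, rfl⟩)
    rw [← map_commutatorElement] at this
    exact this.imp_right fun ⟨e, h1, h2, h3, _⟩ => ⟨e, h1, h2, h3⟩
  have c4 : Nat.card (Im V (ρ d)) ≤ 4 := by
    obtain ⟨e1, h1, e2, h2, n1, n2, n12⟩ := t.two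
    obtain ⟨x1, k1, rfl⟩ : e1 ∈ (J.subgroupOf C).map f := fs ▸ h1.1
    obtain ⟨x2, k2, rfl⟩ : e2 ∈ (J.subgroupOf C).map f := fs ▸ h2.1
    have p : ∀ y (hy : y ∈ J) (c : C), (c : G) ∈ J → f ⟨y, JC hy⟩ = z' * f c → π y = π c :=
      fun y hy c hc h => (S.M.π_eq hy hc).2 ((E.mem le_rfl (c := ⟨y, JC hy⟩ * c⁻¹)).1 (by
        rw [map_mul, map_inv, h, mul_inv_cancel_right]; exact ⟨⟨z, E.zC⟩, S.Y.mem, E.fz⟩))
    refine (AddSubgroup.card_le_of_le (K := pl (π x1) (π x2)) ?_).trans ?_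
    · rintro _ ⟨v, rfl⟩
      obtain ⟨x, hx, rfl⟩ := S.M.surj v
      rw [Nm_apply, S.M.nm S.Y dz hx, mem_pl]
      rcases k x hx with h | ⟨e, he, n, h⟩
      · exact .inl ((S.M.π_zero _ (m x hx)).2 (E.kZ _ h))
      by_cases a1 : e = f x1
      · exact .inr (.inl (p _ (m x hx) x1 k1 (a1 ▸ h)))
      by_cases a2 : e = f x2
      · exact .inr (.inr (.inl (p _ (m x hx) x2 k2 (a2 ▸ h))))
      rw [c5.p2c hd t.p t.tz h1 h2 he n1 n2 n n12 a1 a2, ← map_mul] at h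
      rw [p _ (m x hx) _ (J.mul_mem k2 k1) h, coe_mul, S.M.π_mul (x2 : G) k2 (x1 : G) k1, add_comm]
      simp
    · refine (Nat.card_le_card_of_surjective (fun i : Fin 4 => (![⟨0, zero_mem _⟩,
        ⟨π x1, mem_pl.2 (by simp)⟩, ⟨π x2, mem_pl.2 (by simp)⟩, ⟨π x1 + π x2, mem_pl.2 (by simp)⟩] i :
        pl (π x1) (π x2))) fun ⟨v, hv⟩ => ?_).trans (by simp)
      rcases mem_pl.1 hv with rfl | rfl | rfl | rfl
      exacts [⟨0, rfl⟩, ⟨1, rfl⟩, ⟨2, rfl⟩, ⟨3, rfl⟩]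
  have dd : (d : G) * d = 1 := cj_sq S.Y.sq
  refine ⟨g, g.2, dz, dd, nJ, hC d d.2 dz, c4, ?_, fun x hx h => ?_⟩
  · rintro _ ⟨v, rfl⟩
    obtain ⟨x, hx, rfl⟩ := S.M.surj v
    rw [Nm_apply]
    refine (S.M.nm S.Y dz hx).symm ▸ (S.hf _ (m x hx)).2 ((S.Y.sqr _ (m x hx)).resolve_right
      fun h => E.nz ?_)
    rw [← E.fz, show (⟨z, E.zC⟩ : C) = ⟨_, JC (m x hx)⟩ * ⟨_, JC (m x hx)⟩ from Subtype.ext h.symm,
      map_mul]
    rcases k x hx with h | ⟨e, he, -, h⟩ <;> rw [h]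
    · exact one_mul 1
    · rw [(show Commute e z' from t.p.lz.cen e he.1).mul_mul_mul_comm, lx.sq, t.p.E_sq he.1 he.2,
        one_mul]
  · obtain ⟨r, hr, cr, o, -⟩ := A.keyP S.cV (S.lin4 A c4) (S.Y.ρ_sq dz dd)
      fun e => nJ ((S.Y.ρ_ker d dz).1 e)
    refine cj_eq.1 ((S.lkey dz (hC d d.2 dz) hr cr o hx h).resolve_right fun e => ?_)
    have e1 : f ⟨_, JC (m x hx)⟩ = z' := by
      rw [← E.fz]; exact congrArg f (Subtype.ext (mul_inv_eq_iff_eq_mul.2 e))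
    rcases k x hx with h | ⟨e, -, n, h⟩ <;> rw [e1] at h
    exacts [E.nz h, n (by simpa using h)]

end Sec

end Cfsg.Agent.H96.Par
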