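/-
Involution centralisers `(2 × 2^{1+8}).PSp₄(3).2`.
-/
import Cfsg.Agent.H96.PaI
import Cfsg.Agent.H75.ZStar
import Cfsg.Agent.S1713

set_option autoImplicit false
set_option linter.unusedSimpArgs false
set_option linter.unusedSectionVars false

namespace Cfsg.Agent.H96.Par

open Subgroup H4.GF H4.GF.M43 H4.GF.M43.QVx H15 H97 H29
open scoped commutatorElement

universe u

variable {G : Type u} [Group G] {J Z : Subgroup G} {z : G} {Γ : Type*} [Group Γ] {ρ : G → Γ}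
  {L : Subgroup Γ} {τ : W → Γ}

/-- the conjugates of `z` by the elements taking `s` to `t` -/
def Ys (z s t : G) : Set G := {y | ∃ k, cj k z = y ∧ cj k s = t}

theorem Ys_conj (z s t g : G) : (Ys z s (cj g t)).ncard = (Ys z s t).ncard := by
  rw [← Set.ncard_image_of_injective (Ys z s t) fun _ _ => (cj_inj (g := g)).1]
  congr 1
  ext y
  constructor
  · rintro ⟨k, rfl, e⟩
    exact ⟨_, ⟨g⁻¹ * k, rfl, by rw [← cj_cj, e, cj_inv]⟩, by simp only [← cj_cj, cj_inv']⟩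
  · rintro ⟨_, ⟨k, rfl, rfl⟩, rfl⟩
    exact ⟨g * k, (cj_cj _ _ _).symm, (cj_cj _ _ _).symm⟩

theorem Ys_par [Finite G] (z s : G) {t : G} {P : Subgroup G} (hP : IsPGroup 2 P)
    (h : ∀ p ∈ P, Commute p t) :
    (Ys z s t).ncard % 2 = {y ∈ Ys z s t | ∀ p ∈ P, p * y = y * p}.ncard % 2 :=
  par P hP _ fun p hp _ ⟨k, e1, e2⟩ =>
    ⟨p * k, by rw [← cj_cj, e1], by rw [← cj_cj, e2, cj_eq.2 (h p hp)]⟩

theorem Ys_fix [Finite G] {s t : G} (o : (Ys z s t).ncard % 2 = 1) {P : Subgroup G}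
    (hP : IsPGroup 2 P) (h : ∀ p ∈ P, Commute p t) :
    ∃ k, cj k s = t ∧ ∀ p ∈ P, Commute p (cj k z) := by
  rw [Ys_par z s hP h] at o
  obtain ⟨_, ⟨k, rfl, e⟩, h⟩ := Set.nonempty_of_ncard_ne_zero fun e => by
    rw [e] at o; exact absurd o (by decide)
  exact ⟨k, e, h⟩

theorem isP_inv {t : G} (tt : t * t = 1) : IsPGroup 2 (zpowers t) := fun p => ⟨1, by
  obtain ⟨p, hp⟩ := p
  rcases (mem_zpowers_two tt).1 hp with rfl | rfl <;> ext <;> simp [pow_two, tt]⟩

theorem u6_perf {N : Type*} [Group N] (e : N ≃* PSU 6 F4 2) :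
    commutator N = ⊤ ∧ center N = ⊥ := by
  have := u6_simple e
  have k : ¬ ∀ a b : N, a * b = b * a := fun h => by
    have : IsMulCommutative N := ⟨⟨h⟩⟩
    have : Finite N := Nat.finite_of_card_ne_zero (by
      rw [Nat.card_congr e.toEquiv, u6_card]; decide)
    have := (Group.is_simple_iff_prime_card (α := N)).1 inferInstance
    rw [Nat.card_congr e.toEquiv, u6_card] at this
    exact absurd (this.eq_two_or_odd) (by decide)
  exact ⟨(inferInstance : (commutator N).Normal).eq_bot_or_eq_top.resolve_left fun h => k fun a b =>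
    commutatorElement_eq_one_iff_mul_comm.1 (mem_bot.1 (h ▸ commutator_mem_commutator trivial trivial)),
    (inferInstance : (center N).Normal).eq_bot_or_eq_top.resolve_right fun h => k fun a b =>
      mem_center_iff.1 (h ▸ mem_top b) a⟩

variable [Finite G] {V : Type u} [AddCommGroup V] [Module (ZMod 2) V] [DistribMulAction Γ V]
  {π : G → V} {X : QV Γ V}

namespace SD

variable (S : SD J Z z ρ L τ π X)
include S

theorem Ys_odd (hO : O2 L) {t : G} (ht : t ∈ Z) (s g : G) (h : s = t) :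
    (Ys z s (cj g t)).ncard % 2 = 1 := by
  rw [Ys_conj, Ys_par z s S.Y.isP fun p hp => (S.Y.cen ht hp).symm,
    show {y ∈ Ys z s t | ∀ p ∈ J, p * y = y * p} = {z} from Set.ext fun y => ⟨by
      rintro ⟨⟨k, rfl, -⟩, h⟩
      exact S.wc hO ((S.Y.large _).1 fun a ha => (h a ha).symm), by
      rintro rfl
      exact ⟨⟨1, by simp [cj], by simp [cj, h]⟩, fun p hp => S.Y.cz hp⟩⟩, Set.ncard_singleton]

theorem nconj (hO : O2 L) {s t g : G} (hs : s ∈ Z) (ht : t ∈ Z) (e : cj g t = s) :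
    ∃ h, Commute h z ∧ cj h s = t := by
  have := S.Ys_odd hO hs s g⁻¹ rfl
  rw [← e, cj_inv, e] at this
  obtain ⟨k, e1, e2⟩ := Ys_fix this S.Y.isP fun p hp => (S.Y.cen ht hp).symm
  exact ⟨k, cj_eq.1 (S.wc hO ((S.Y.large _).1 fun a ha => (e2 a ha).symm)), e1⟩

variable (c4 : Nat.card Z = 4) (D : GD L) (h2 : ∀ a b : Γ, a ∉ L → b ∉ L → a * b ∈ L)
  {a : G} (ha : a ∈ Z) (a1 : a ≠ 1) (a2 : a ≠ z)
include c4 D h2 ha a1 a2

theorem u6 (n : ¬ Iso a z) [((zpowers a).subgroupOf (centralizer {a})).Normal] :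
    ∃ z' : centralizer ({a} : Set G) ⧸ (zpowers a).subgroupOf (centralizer {a}),
      Sec J Z z (centralizer {a}) (QuotientGroup.mk' _) z' ∧
      Nonempty (closure (cls z') ≃* PSU 6 F4 2) ∧
      (∀ c : centralizer ({a} : Set G), Commute (c : G) z → ρ c ∈ L →
        QuotientGroup.mk c ∈ closure (cls z')) ∧
      (∀ c : centralizer ({a} : Set G), ∃ k : centralizer ({a} : Set G), Commute (k : G) z ∧
        QuotientGroup.mk (c * k) ∈ closure (cls z')) ∧
      (∃ Jc, CF X L Jc) ∧ ∃ g, Commute g a ∧ Tr J Z z ρ π X (cj g z) := by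
  have := D.nl
  have E := S.secA D.o2 ha a2
  have hZ : ∀ t : centralizer ({a} : Set G), (t : G) ∈ Z →
      QuotientGroup.mk' ((zpowers a).subgroupOf _) t = 1 ∨
      QuotientGroup.mk' ((zpowers a).subgroupOf _) t = QuotientGroup.mk ⟨z, E.zC⟩ := fun t ht => by
    simp only [QuotientGroup.mk'_apply, QuotientGroup.eq_one_iff, QuotientGroup.eq, mem_subgroupOf,
      coe_mul, coe_inv]
    rcases S.Y.four c4 ha a1 a2 ht with e | e | e | e <;> simp [e, mul_assoc]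
  simp only [Iso, not_forall] at n
  obtain ⟨g, h1, h3, n⟩ := n
  obtain ⟨lx, c5, ⟨e⟩, hK⟩ := E.app S D (fun _ _ _ _ _ _ => h2 _ _) (fun l hl => by
    obtain ⟨k, hk, rfl⟩ := S.Y.ρ_surj l
    exact ⟨k, mem_cen.2 (S.KZ k hk hl a ha), hk, rfl⟩) hZ (E.niso S D.o2 (mem_cen.2 h1) h3 n)
  obtain ⟨Jc, C⟩ := E.cf S lx c5 (fun _ _ _ _ _ _ => h2 _ _) hZ e
  obtain ⟨g, hg, t⟩ := E.tr S lx c5 C (fun x hx => mem_cen.2 (S.Y.cen ha hx).symm)
    fun c hc cz u hu => S.Y.all4 c4 cz ha a1 a2 (mem_cen.1 hc) hu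
  refine ⟨_, E, ⟨e⟩, hK, fun c => ?_, ⟨Jc, C⟩, g, mem_cen.1 hg, t⟩
  obtain ⟨x, hx, f⟩ := c5.fact (self_mem_cls _) (QuotientGroup.mk c)
  obtain ⟨k, hk⟩ := E.surj (x⁻¹ * QuotientGroup.mk c)
  refine ⟨k⁻¹, (E.cz k (hk ▸ f)).inv_left, ?_⟩
  rw [QuotientGroup.mk_mul, QuotientGroup.mk_inv, ← QuotientGroup.mk'_apply _ k, hk]
  simpa using hx

theorem split {Jc : V →+ V} (C : CF X L Jc) {h : G} (hh : Commute h z) (nh : ¬ Commute h a)
    {P : Subgroup G} (aP : a ∉ P) (hP : ∀ c, Commute c a → c ∈ P ∨ c * a ∈ P)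
    (hc : ∀ c k, Commute c a → Commute k a → ⁅c, k⁆ ∈ P) :
    (⟨a, mem_cen.2 (S.Y.cen ha S.Y.zJ)⟩ : centralizer ({z} : Set G)) ∉ commutator _ := by
  have := D.nl
  have aa := S.Y.Zsq a ha
  have sq : ∀ c, Commute c a → c * c ∈ P := fun c h => (hP c h).elim (fun e => P.mul_mem e e) fun e => by
    simpa [h.symm.mul_mul_mul_comm, aa] using P.mul_mem e e
  have ml : ∀ c k, Commute c a → Commute k a → (c * k ∈ P ↔ (c ∈ P ↔ k ∈ P)) := fun c k h h' => by
    by_cases e : c ∈ P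
    · simp [e, P.mul_mem_cancel_left e]
    by_cases e' : k ∈ P
    · simp [e, e', P.mul_mem_cancel_right e']
    simpa [e, e', h'.symm.mul_mul_mul_comm, aa] using
      P.mul_mem ((hP c h).resolve_left e) ((hP k h').resolve_left e')
  have zP : z ∈ P := by
    obtain ⟨q, hq, -, e⟩ := S.ex_q S.Y.zJ
    exact e ▸ sq q (S.Y.cen ha hq).symm
  have ZP : ∀ t ∈ Z, t ∈ P ↔ t = 1 ∨ t = z := fun t ht => by
    rcases S.Y.four c4 ha a1 a2 ht with rfl | rfl | rfl | rfl <;>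
      simp [zP, aP, a1, a2, P.mul_mem_cancel_left zP, (S.Y.zt ha a1 a2).2.1]
  have K : ∀ g k, Commute g z → Commute k z → Commute k a → Commute (cj g k) a :=
    fun g k hg hk h => by
      rw [← cj_inv' g a, cj_comm]
      exact S.Y.all4 c4 hk ha a1 a2 h (S.Y.normZ hg.inv_left ha)
  have nm : ∀ g k, Commute g z → Commute k z → Commute k a → (k ∈ P ↔ cj g k ∈ P) :=
    fun g k hg hk h => by
      let Δ : Subgroup G :=
        { carrier := {k | Commute k z ∧ Commute k a ∧ (k ∈ P ↔ cj g k ∈ P)}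
          one_mem' := ⟨Commute.one_left _, Commute.one_left _, by simp [cj]⟩
          mul_mem' := fun {x y} hx hy => ⟨hx.1.mul_left hy.1, hx.2.1.mul_left hy.2.1, by
            rw [cj_mul, ml _ _ hx.2.1 hy.2.1, ml _ _ (K g x hg hx.1 hx.2.1) (K g y hg hy.1 hy.2.1),
              hx.2.2, hy.2.2]⟩
          inv_mem' := fun {x} hx => ⟨hx.1.inv_left, hx.2.1.inv_left, by
            rw [cj_iv, inv_mem_iff, inv_mem_iff, hx.2.2]⟩ }
      have hJ := S.genJ C (P := Δ) (fun t ht => ⟨S.Y.cen ht S.Y.zJ, S.Y.cen ht (S.Y.ZJ ha), by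
        rw [ZP t ht, ZP _ (S.Y.normZ hg ht), cj_eq_one, ← cj_inj (g := g) (y := z), cj_eq.2 hg]⟩)
        fun k hk hL x hx => by
          have ka := S.KZ k hk hL a ha
          have xa := (S.Y.cen ha hx).symm
          have xz := S.Y.cz hx
          refine ⟨(cm_cj hk xz).mul_left xz.inv_left, (cm_cj ka xa).mul_left xa.inv_left,
            iff_of_true (hc k x ka xa) ?_⟩
          rw [cj_mul, cj_iv, ← cj_sw]
          exact hc _ _ (K g k hg hk ka) (K g x hg xz xa)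
      obtain ⟨m, hm, -, j, hj, rfl⟩ := S.Y.gen S.T Δ (fun k v hk _ e => by
        have ka := S.KZ k hk (e ▸ S.T.mem v) a ha
        exact ⟨hk.mul_left hk, ka.mul_left ka, iff_of_true (sq k ka)
          (cj_mul g k k ▸ sq _ (K g k hg hk ka))⟩) hk (S.inL c4 h2 hh hk ha nh h)
      exact (Δ.mul_mem (hJ hj) hm).2.2
  let N : Subgroup (centralizer ({z} : Set G)) := (P ⊓ centralizer {a}).subgroupOf _
  have nN : N.Normal := ⟨fun k hk g => ⟨(nm g k (mem_cen.1 g.2) (mem_cen.1 k.2) (mem_cen.1 hk.2)).1 hk.1,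
    mem_cen.2 (K g k (mem_cen.1 g.2) (mem_cen.1 k.2) (mem_cen.1 hk.2))⟩⟩
  let φ := QuotientGroup.mk' N
  have k0 : ∀ k : centralizer ({z} : Set G), (k : G) ∈ P → Commute (k : G) a → φ k = 1 :=
    fun k h1 h3 => (QuotientGroup.eq_one_iff k).2 ⟨h1, mem_cen.2 h3⟩
  have k1 : ∀ k y : centralizer ({z} : Set G), Commute (k : G) a → Commute (φ k) (φ y) := by
    let a' : centralizer ({z} : Set G) := ⟨a, mem_cen.2 (S.Y.cen ha S.Y.zJ)⟩
    let z' : centralizer ({z} : Set G) := ⟨z, mem_cen.2 (Commute.refl z)⟩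
    have : ∀ y, Commute (φ y) (φ a') := fun y => cj_eq.1 (by
      rw [cj, ← map_inv, ← map_mul, ← map_mul]
      rcases S.Y.cj4 c4 (mem_cen.1 y.2) ha with e | e
      · exact congrArg φ (Subtype.ext e)
      · rw [show y * a' * y⁻¹ = z' * a' from Subtype.ext e, map_mul,
          k0 z' zP (S.Y.cen ha S.Y.zJ).symm, one_mul])
    intro k y h
    rcases hP k h with e | e
    · rw [k0 k e h]; exact Commute.one_left _
    · have e1 := k0 (k * a') e (h.mul_left (Commute.refl a))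
      rw [map_mul, mul_eq_one_iff_eq_inv] at e1
      exact e1 ▸ (this y).symm.inv_left
  refine fun m => aP (show _ ∈ N from commutator_le.2 (fun x _ y _ => ?_) m).1
  rw [← QuotientGroup.eq_one_iff, ← QuotientGroup.mk'_apply, map_commutatorElement,
    commutatorElement_eq_one_iff_commute]
  by_cases e : Commute (x : G) a
  · exact k1 x y e
  by_cases e' : Commute (y : G) a
  · exact (k1 y x e').symm
  have := (k1 (x * y) y (S.Y.mul4 c4 (mem_cen.1 x.2) (mem_cen.1 y.2) ha e e')).mul_left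
    (Commute.refl (φ y)).inv_left
  rwa [map_mul, mul_inv_cancel_right] at this

/-- Case I: `a` and `a z` are conjugate in `C(z)` -/
theorem caseI (n : ¬ Iso a z) {h : G} (hh : Commute h z) (nh : ¬ Commute h a) :
    Spor.IsoFi22 G := by
  have := D.nl
  have := cen_normal a
  obtain ⟨z', E, ⟨e⟩, hK, hF, ⟨Jc, C⟩, g0, g0a, t0⟩ := S.u6 c4 D h2 ha a1 a2 n
  have top : closure (cls z') = ⊤ := (eq_top_iff' _).2 fun m => by
    obtain ⟨c, rfl⟩ := E.surj m
    obtain ⟨k, hk, e⟩ := hF c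
    simpa using mul_mem e (inv_mem (hK k hk (S.inL c4 h2 hh hk ha nh (mem_cen.1 k.2))))
  have e' := (topEquiv.symm.trans (MulEquiv.subgroupCongr top.symm)).trans e
  obtain ⟨p1, p2⟩ := u6_perf e'
  have aa := S.Y.Zsq a ha
  let a' : centralizer ({a} : Set G) := ⟨a, mem_cen.2 (Commute.refl a)⟩
  have hP : ∀ c : centralizer ({a} : Set G), c ∈ commutator _ ∨ c * a' ∈ commutator _ := fun c => by
    obtain ⟨k, hk, e⟩ : QuotientGroup.mk' _ c ∈ (commutator _).map (QuotientGroup.mk'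
        ((zpowers a).subgroupOf (centralizer {a}))) := by
      rw [map_commutator_eq, MonoidHom.range_eq_top.2 E.surj, ← commutator_def, p1]; trivial
    rcases (mem_zpowers_two aa).1 (QuotientGroup.eq (s := (zpowers a).subgroupOf _).1 e) with f | f
    · exact .inl (inv_mul_eq_one.1 (Subtype.ext f : k⁻¹ * c = 1) ▸ hk)
    · rw [inv_mul_eq_iff_eq_mul.1 (Subtype.ext f : k⁻¹ * c = a'), mul_assoc,
        show a' * a' = 1 from Subtype.ext aa, mul_one]
      exact .inr hk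
  have za := (S.Y.cj4 c4 hh ha).resolve_left fun e => nh (cj_eq.1 e)
  by_cases hs : a' ∈ commutator _
  · refine S1713.result a (orderOf_two a1 aa) ⟨⟨(eq_top_iff' _).2 fun c => (hP c).elim id
      (mul_mem_cancel_right hs).1⟩, ?_⟩ F4 F4.card_eq e' ⟨h, ?_, fun e => nh (cj_eq.1 e)⟩
    · refine u6_simple ((QuotientGroup.quotientMulEquivOfEq (le_antisymm (fun c hc => ?_) ?_)).trans e')
      · rw [← QuotientGroup.eq_one_iff, ← mem_bot, ← p2, mem_center_iff]
        rintro ⟨k⟩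
        exact congrArg (QuotientGroup.mk' _) (mem_center_iff.1 hc k)
      · rintro c ⟨k, hk⟩
        exact mem_center_iff.2 fun y => Subtype.ext (show Commute (y : G) c from
          (show a ^ k = c from hk) ▸ (mem_cen.1 y.2).zpow_right k)
    · exact mem_cen.2 (S.Y.cen (S.Y.normZ hh ha) (S.Y.ZJ ha))
  exfalso
  let P := (commutator (centralizer ({a} : Set G))).map (centralizer {a}).subtype
  have hP' : ∀ c, Commute c a → c ∈ P ∨ c * a ∈ P := fun c h =>
    (hP ⟨c, mem_cen.2 h⟩).imp (fun e => ⟨_, e, rfl⟩) fun e => ⟨_, e, rfl⟩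
  have m := S.split c4 D h2 ha a1 a2 C hh nh (P := P)
    (fun m => hs ((mem_map_iff_mem (subtype_injective _) (x := a')).1 m)) hP' fun c k h h' =>
      ⟨⁅⟨c, mem_cen.2 h⟩, ⟨k, mem_cen.2 h'⟩⁆, commutator_mem_commutator trivial trivial, rfl⟩
  let T := MonoidHom.transfer (Abelianization.of (G := centralizer ({z} : Set G)))
  have aT : a ∉ T.ker := fun e => m ((QuotientGroup.eq_one_iff _).1 ((S.trZ D.o2 _ ha).symm.trans e))
  have PT : P ≤ T.ker := map_le_iff_le_comap.2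
    (Abelianization.commutator_subset_ker (T.comp (centralizer {a}).subtype))
  have lift : ∀ c, Commute c a → ∃ k ∈ T.ker, Commute k a ∧ (k = c ∨ k = c * a) := fun c h =>
    (hP' c h).elim (fun e => ⟨c, PT e, h, .inl rfl⟩)
      fun e => ⟨_, PT e, h.mul_left (Commute.refl a), .inr rfl⟩
  have az := S.Y.cen ha S.Y.zJ
  have zT : z ∈ T.ker := by
    obtain ⟨q, hq, -, e⟩ := S.ex_q S.Y.zJ
    obtain ⟨k, hk, -, rfl | rfl⟩ := lift q (S.Y.cen ha hq).symm
    · simpa [e] using mul_mem hk hk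
    · simpa [(S.Y.cen ha hq).mul_mul_mul_comm, aa, e] using mul_mem hk hk
  have E1 : Sec J Z z T.ker (MonoidHom.id _) ⟨z, zT⟩ := ⟨Function.surjective_id, zT, rfl,
    fun e => S.Y.ne (congrArg Subtype.val e), fun x hx => by
      obtain ⟨k, hk, -, rfl | rfl⟩ := lift x (S.Y.cen ha hx).symm
      exacts [⟨1, Z.one_mem, by simpa using hk⟩, ⟨a, ha, hk⟩],
    fun c e => (show c = 1 from e) ▸ Z.one_mem, fun c e => congrArg Subtype.val e⟩
  have lz : ∀ c, Commute c a → ∃ k ∈ T.ker, cj k z = cj c z := fun c h => by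
    obtain ⟨k, hk, -, rfl | rfl⟩ := lift c h
    exacts [⟨k, hk, rfl⟩, ⟨_, hk, by rw [← cj_cj, cj_eq.2 az]⟩]
  obtain ⟨g1, hg1, e1⟩ := lz g0 g0a
  obtain ⟨-, c5, ⟨e2⟩, -⟩ := E1.app S D (fun _ _ _ _ _ _ => h2 _ _) (fun l hl => by
    obtain ⟨k, hk, rfl⟩ := S.Y.ρ_surj l
    obtain ⟨k', hk', -, rfl | rfl⟩ := lift k (S.KZ k hk hl a ha)
    · exact ⟨_, hk', hk, rfl⟩
    · exact ⟨_, hk', hk.mul_left az, by rw [S.Y.ρ_mul _ _ hk az, S.Y.ρ_J (S.Y.ZJ ha), mul_one]⟩)
    (fun t ht => by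
      rcases S.Y.four c4 ha a1 a2 ht with f | f | f | f
      exacts [.inl (Subtype.ext f), .inr (Subtype.ext f), absurd (f ▸ t.2) aT,
        absurd ((mul_mem_cancel_left zT).1 (f ▸ t.2)) aT])
    (E1.niso S D.o2 hg1 (e1 ▸ t0.cz) fun e => t0.nJ (e1 ▸ e.symm ▸ S.Y.zJ))
  let N := (closure (cls (⟨z, zT⟩ : T.ker))).map T.ker.subtype
  have NC : N ≤ centralizer {a} := by
    have h1 : (N.subgroupOf (centralizer {a})).map (QuotientGroup.mk' _) = ⊤ :=
      top_le_iff.1 (top ▸ (closure_le _).2 (by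
        rintro _ ⟨m, rfl⟩
        obtain ⟨c, rfl⟩ := E.surj m
        obtain ⟨k, hk, f⟩ := lz c (mem_cen.1 c.2)
        exact ⟨cj c ⟨z, E.zC⟩, ⟨cj ⟨k, hk⟩ ⟨z, zT⟩, subset_closure ⟨_, rfl⟩, f⟩, by
          rw [cj, map_mul, map_mul, map_inv, E.fz]⟩))
    have h4 := Nat.card_le_card_of_surjective _ ((QuotientGroup.mk' ((zpowers a).subgroupOf
      (centralizer {a}))).subgroupMap_surjective (N.subgroupOf (centralizer {a})))
    rw [h1, card_top, Nat.card_congr e'.toEquiv, ← Nat.card_congr e2.toEquiv,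
      ← card_map_of_injective T.ker.subtype_injective, ← inf_subgroupOf_right,
      Nat.card_congr (subgroupOfEquivOfLe inf_le_right).toEquiv] at h4
    exact inf_eq_left.1 (eq_of_le_of_card_ge inf_le_left h4)
  obtain ⟨_, ⟨k, rfl⟩, nx⟩ := c5.ex_nc (self_mem_cls _)
  have k1 : ∀ k : T.ker, Commute (cj (k : G) z) a := fun k =>
    mem_cen.1 (NC ⟨cj k ⟨z, zT⟩, subset_closure ⟨_, rfl⟩, rfl⟩)
  have k2 := (cj_comm (g := h)).2 (k1 ⟨cj h⁻¹ k, T.normal_ker.conj_mem _ k.2 _⟩)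
  rw [← cj_sw, cj_inv', cj_eq.2 hh, za] at k2
  exact nx (Subtype.ext (show Commute z (cj (k : G) z) by
    simpa using (k2.mul_right (k1 k).inv_right).symm))

/-- Case II: `C(z)` centralises `Z` -/
theorem caseII (n : ¬ Iso a z) (hH : ∀ h, Commute h z → ∀ u ∈ Z, Commute h u) (g : G) :
    Commute g a := by
  have := D.nl
  have := cen_normal a
  obtain ⟨-, -, -, -, -, ⟨Jc, C⟩, g0, g0a, t0⟩ := S.u6 c4 D h2 ha a1 a2 n
  obtain ⟨k1, k2, k3⟩ := S.Y.zt ha a1 a2
  have aa := S.Y.Zsq a ha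
  have i1 : Iso (z * a) z := by
    by_contra n'
    have := cen_normal (z * a)
    obtain ⟨-, -, -, -, -, -, g1, g1a, t1⟩ := S.u6 c4 D h2 k1 k2 k3 n'
    obtain ⟨k, hk, -, m⟩ := S.same C t0 t1
    have ka := (hH k hk a ha).mul_left g0a
    have t2 := S.tr_conj t0 hk
    rw [cj_cj] at m t2
    generalize k * g0 = g2 at m ka t2
    have w : ∀ g g' t, t ∈ Z → cj g z = cj g' t → cj g z = cj g' z := fun g g' t ht e => by
      rw [← cj_inv' g' (cj g z), cj_cj g'⁻¹, S.wc D.o2 (by rwa [← cj_cj, e, cj_inv])]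
    have u : ∀ g g', cj g z = cj g' z → ∀ t ∈ Z, cj g t = cj g' t := fun g g' e t ht => by
      rw [← cj_inv' g' (cj g t), cj_cj g'⁻¹,
        cj_eq.2 (hH _ (cj_eq.1 (by rw [← cj_cj, e, cj_inv])) t ht)]
    have v : cj g1 z ≠ cj g2 z := fun e => by
      have := u _ _ e _ k1
      rw [cj_eq.2 g1a, cj_mul, cj_eq.2 ka, mul_left_inj] at this
      exact t2.nJ (this ▸ S.Y.zJ)
    rcases S.Y.four c4 ha a1 a2 m with e | e | e | e <;> rw [mul_inv_eq_iff_eq_mul] at e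
    · exact v (e.trans (one_mul _))
    · obtain ⟨h, hh, f⟩ := S.nconj D.o2 k1 ha (g := g2⁻¹ * g1) (by
        have : cj g1 a = cj g1 z * (z * a) := by
          rw [← cj_eq.2 g1a, ← cj_mul, S.Y.zz]
        rw [← cj_cj, this, e, ← t2.cz.eq, mul_assoc, S.Y.zz, ← cj_eq.2 ka, ← cj_mul, cj_inv,
          cj_eq.2 ka])
      rw [cj_eq.2 (hH h hh _ k1)] at f
      exact S.Y.ne (by simpa using f)
    · exact v (w _ _ _ (Z.mul_mem ha S.Y.mem) (by rw [e, cj_mul, cj_eq.2 ka]))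
    · refine v (w _ _ _ (Z.mul_mem k1 S.Y.mem) ?_).symm
      rw [cj_mul, cj_eq.2 g1a, e, ← mul_assoc, S.Y.Zsq _ k1, one_mul]
  have i2 : Iso 1 a := fun g _ c => by
    obtain ⟨k, e, h⟩ := Ys_fix (by simpa [cj] using S.Ys_odd D.o2 ha a 1 rfl)
      (isP_inv (cj_sq (g := g) aa)) (t := a) fun p hp => by
        rcases (mem_zpowers_two (cj_sq aa)).1 hp with rfl | rfl
        exacts [Commute.one_left a, c]
    have bz : Commute (cj (k⁻¹ * g) a) z := by
      rw [← cj_cj, ← cj_inv k z, cj_comm]; exact h _ (mem_zpowers _)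
    suffices cj (k⁻¹ * g) a = a by rw [← cj_inv' k (cj g a), cj_cj k⁻¹, this, e]
    generalize k⁻¹ * g = g at bz
    obtain ⟨k, e, h⟩ := Ys_fix (S.Ys_odd D.o2 ha a g rfl) (S.Y.isP.to_le inf_le_left)
      (P := J ⊓ centralizer {cj g a}) fun p hp => mem_cen.1 hp.2
    rw [← e] at bz h ⊢
    by_contra n
    have Y' := S.Y.conj k
    have hb : cj k a ∈ cjs k Z := cj_mem.2 ha
    have wz := (h z ⟨S.Y.zJ, mem_cen.2 bz.symm⟩).symm
    have bw := Y'.cen Y'.mem (Y'.ZJ hb)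
    have f1 : ∀ x ∈ J, Commute x (cj k a) → Commute x (cj k z) := fun x hx c => h x ⟨hx, mem_cen.2 c⟩
    have f2 : ∀ x ∈ J, Commute x (cj k z * cj k a) → Commute x (cj k z) := fun x hx =>
      S.Y.iso2 (cj_mul k z a ▸ i1.conj k) wz Y'.sq ((Commute.refl _).mul_right bw) hx
    have f3 : ∀ x, Commute x (cj k z) → Commute x (cj k a) := fun x c => by
      rw [← cj_inv' k x, cj_comm] at c ⊢
      exact hH _ c a ha
    have wJ : cj k z ∉ J := fun m => n (cj_eq.2 (hH k (cj_eq.1 (S.wc D.o2 (S.perp3 m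
      (S.mem_J bz m Y'.sq fun x _ => f3 x) f1 f2))) a ha))
    have bb := Y'.Zsq _ (mul_mem Y'.mem hb)
    exact S.lemP C wz bz (hH _ wz) (hH _ bz) Y'.sq (cj_sq aa) bw wJ
      (fun m => wJ (S.mem_J wz m (cj_sq aa) f1)) (fun m => wJ (S.mem_J wz m bb f2))
      (fun x _ => f3 x) f1 f2 fun g _ _ c => f3 _ (c.mul_left c)
  have := H75.centralizer_sup_oddCore_of_isolated (orderOf_two a1 aa)
    fun g => i2 g (Commute.one_right g)
  rw [S.odd D t0.cz t0.nJ, sup_bot_eq] at this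
  exact mem_cen.1 (this ▸ mem_top g)

end SD

end Cfsg.Agent.H96.Par
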