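/-
Parrott's theorem on involution centralisers `(2 × 2^{1+8}).PSp₄(3).2`.
-/
import Cfsg.Agent.H96.PaJ
import Cfsg.Agent.H23.Basic
import Cfsg.Agent.S0814
import Cfsg.Agent.H29.Transport

set_option autoImplicit false
set_option linter.unusedSimpArgs false
set_option linter.unusedSectionVars false

namespace Cfsg.Agent.H96.Par

open Subgroup H4.GF H4.GF.M43 H4.GF.M43.QVx H15 H97 H29
open scoped commutatorElement

universe u

variable {G : Type u} [Group G] [Finite G] {J Z : Subgroup G} {z : G} {Γ : Type*} [Group Γ]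
  {ρ : G → Γ} {L : Subgroup Γ} {τ : W → Γ}

theorem LY.card_H (Y : LY J Z z ρ) :
    Nat.card (centralizer ({z} : Set G)) = Nat.card J * Nat.card Γ := by
  rw [← Y.hom.ker.card_mul_index, index_ker, MonoidHom.range_eq_top.2 fun γ => by
      obtain ⟨g, hg, e⟩ := Y.ρ_surj γ; exact ⟨⟨g, mem_cen.2 hg⟩, e⟩, card_top,
    show Y.hom.ker = J.subgroupOf _ from ext fun h => Y.ρ_ker h (mem_cen.1 h.2),
    Nat.card_congr (subgroupOfEquivOfLe fun a ha => mem_cen.2 (Y.cz ha)).toEquiv]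

theorem LY.core (Y : LY J Z z ρ) (c4 : Nat.card Z = 4) (D : GD L) (hi : L.index = 2) :
    Iso 1 z ∨ (∃ a ∈ Z, a ≠ 1 ∧ a ≠ z ∧ (∀ g, Commute g a) ∧ ∃ G₀ : Subgroup G, a ∈ G₀ ∧
      G₀.index = 2 ∧ ∃ _ : ((zpowers a).subgroupOf G₀).Normal,
        Nonempty (G₀ ⧸ (zpowers a).subgroupOf G₀ ≃* PSU 6 F4 2)) ∨
    (Spor.IsoFi22 G ∧ ∃ h, Commute h z ∧ ∃ a ∈ Z, ¬ Commute h a) := by
  have := D.nl
  have h2 : ∀ a b : Γ, a ∉ L → b ∉ L → a * b ∈ L := fun a b ha hb =>
    (mul_mem_iff_of_index_two hi).2 (iff_of_false ha hb)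
  obtain ⟨τ, T⟩ := exists_TD L D.e.some
  obtain ⟨V, _, _, _, π, X, S⟩ := Y.exists_SD D T (Y.KZ4 T c4) fun g hg h _ =>
    (Y.ρ_ker g hg).1 (D.cen1 h2 h)
  by_cases N : HN Z z
  · exact .inl (S.ti c4 D.o2 h2 N)
  simp only [HN, not_forall] at N
  obtain ⟨a, ha, a1, a2, n⟩ := N
  by_cases hH : ∀ h, Commute h z → Commute h a
  swap
  · push Not at hH
    obtain ⟨h, hh, nh⟩ := hH
    exact .inr (.inr ⟨S.caseI c4 D h2 ha a1 a2 n hh nh, h, hh, a, ha, nh⟩)
  have ca := S.caseII c4 D h2 ha a1 a2 n fun h hh u hu => Y.all4 c4 hh ha a1 a2 (hH h hh) hu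
  have := cen_normal a
  obtain ⟨z', E, ⟨e⟩, hK, hF, -⟩ := S.u6 c4 D h2 ha a1 a2 n
  have hn := cls_normal z'
  let f := QuotientGroup.mk' ((zpowers a).subgroupOf (centralizer ({a} : Set G)))
  have i2 : (closure (cls z')).index = 2 := by
    obtain ⟨m, hm⟩ : ∃ m, m ∉ closure (cls z') := by
      by_contra hno
      push Not at hno
      have h1 := card_map' f (A := (centralizer {z}).subgroupOf _) fun c hc =>
        mem_cen.2 (Y.cen (E.kZ c hc) Y.zJ)
      have h3 := card_subgroup_dvd_card (((centralizer {z}).subgroupOf _).map f)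
      have h4 := L.card_mul_index
      rw [Nat.card_congr (subgroupOfEquivOfLe fun g _ => mem_cen.2 (ca g)).toEquiv, Y.card_H, Y.card,
        c4, ← h4, hi, T.card, QuotientGroup.ker_mk',
        Nat.card_congr (subgroupOfEquivOfLe fun g _ => mem_cen.2 (ca g)).toEquiv, Nat.card_zpowers,
        orderOf_two a1 (Y.Zsq a ha)] at h1
      rw [← card_top (G := _ ⧸ _), ← (eq_top_iff' _).2 hno, Nat.card_congr e.toEquiv, u6_card,
        show Nat.card (((centralizer {z}).subgroupOf _).map f) = 26542080 by omega] at h3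
      exact absurd h3 (by decide)
    have key : ∀ x y, x ∉ closure (cls z') → y ∉ closure (cls z') → x * y ∈ closure (cls z') := by
      intro x y hx hy
      obtain ⟨c, rfl⟩ := E.surj x
      obtain ⟨c', rfl⟩ := E.surj y
      obtain ⟨k, hk, m⟩ := hF c
      obtain ⟨k', hk', m'⟩ := hF c'
      have := hK (k' * k) (hk'.mul_left hk) (by
        rw [coe_mul, Y.ρ_mul _ _ hk' hk]
        exact h2 _ _ (fun l => hy (by simpa using mul_mem m' (inv_mem (hK k' hk' l))))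
          fun l => hx (by simpa using mul_mem m (inv_mem (hK k hk l))))
      simpa [mul_assoc] using mul_mem (mul_mem m (hn.conj_mem _ m' (k⁻¹ : centralizer {a})))
        (inv_mem this)
    refine index_eq_two_iff.2 ⟨m, fun b => ?_⟩
    by_cases hb : b ∈ closure (cls z')
    · exact Or.inr ⟨hb, fun h => hm ((mul_mem_cancel_left hb).1 h)⟩
    · exact Or.inl ⟨key b m hb hm, hb⟩
  let φ : G →* _ := f.comp ((MonoidHom.id G).codRestrict _ fun g => mem_cen.2 (ca g))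
  have hφ : Function.Surjective φ := fun m => by
    obtain ⟨c, rfl⟩ := E.surj m
    exact ⟨c, rfl⟩
  have k : ∀ g, φ g = 1 ↔ g ∈ zpowers a := fun g => QuotientGroup.eq_one_iff _
  have : (zpowers a).Normal := (show φ.ker = _ from ext k) ▸ φ.normal_ker
  refine .inr (.inl ⟨a, ha, a1, a2, ca, (closure (cls z')).comap φ, ?_,
    (index_comap_of_surjective _ hφ).trans i2, inferInstance, ⟨?_⟩⟩)
  · rw [mem_comap, (k a).2 (mem_zpowers a)]; exact one_mem _
  · refine ((QuotientGroup.quotientMulEquivOfEq (ext fun g => ?_)).trans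
      (QuotientGroup.quotientKerEquivOfSurjective (φ.subgroupComap _) fun m => ?_)).trans e
    · rw [MonoidHom.mem_ker, Subtype.ext_iff]; exact (k g).symm
    · obtain ⟨g, e⟩ := hφ m
      exact ⟨⟨g, by rw [mem_comap, e]; exact m.2⟩, Subtype.ext e⟩

theorem ex_es {E : Subgroup G} (hE : IsExtraspecial 2 E) :
    ∃ ζ, EX E ζ ∧ ∃ a ∈ E, ∃ b ∈ E, ⁅a, b⁆ = ζ := by
  have : Fact (Nat.Prime 2) := ⟨Nat.prime_two⟩
  obtain ⟨V, _, _, _, _, D, hnd, hker⟩ := H3.exists_esData_of_isExtraspecial hE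
  have k : ∀ s, (D.ζ s : G) = 1 ∨ (D.ζ s : G) = D.ζ 1 := fun s => by
    rcases z2c s with rfl | rfl
    exacts [.inl (congrArg Subtype.val D.ζ_zero), .inr rfl]
  refine ⟨D.ζ 1, ⟨(D.ζ 1).2, fun e => one_ne_zero (D.ζ_eq_one_iff.1 (Subtype.ext e)),
    congrArg Subtype.val ((pow_two _).symm.trans (D.ζ_pow_p 1)),
    fun a ha => congrArg Subtype.val (D.ζ_comm 1 ⟨a, ha⟩).symm, fun a ha b hb => ?_, fun a ha => ?_,
    fun g hg h => ?_⟩, ?_⟩
  · have := congrArg Subtype.val (D.comm_eq ⟨a, ha⟩ ⟨b, hb⟩)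
    exact (k _).imp (fun e => mul_inv_eq_one.1 (this.trans e))
      fun e => mul_inv_eq_iff_eq_mul.1 (this.trans e)
  · have := congrArg Subtype.val ((pow_two _).symm.trans (D.pow_eq ⟨a, ha⟩))
    exact (k _).imp this.trans this.trans
  · obtain ⟨s, e⟩ := (D.π_eq_zero_iff ⟨g, hg⟩).1 ((hker _).2
      (mem_center_iff.2 fun b => Subtype.ext (h b b.2).symm))
    exact (show g = D.ζ s from congrArg Subtype.val e.symm) ▸ k s
  · obtain ⟨v, hv⟩ := exists_ne (0 : V)
    obtain ⟨u, hu⟩ : ∃ u, D.B v u = 1 := by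
      by_contra hno
      push Not at hno
      exact hv (hnd.1 v fun u => (z2c _).resolve_right (hno u))
    obtain ⟨a, rfl⟩ := D.π_surj v
    obtain ⟨b, rfl⟩ := D.π_surj u
    exact ⟨a, a.2, b, b.2, hu ▸ congrArg Subtype.val (D.comm_eq a b)⟩

theorem ly_of {A E J₀ : Subgroup (centralizer ({z} : Set G))} [hn : J₀.Normal]
    (hAE : IsInternalDirectProduct A E J₀) (hA : ∀ v ∈ A, v * v = 1) (hE : IsExtraspecial 2 E)
    (hEc : Nat.card E = 2 ^ 9) (hCJ : centralizer (J₀ : Set (centralizer ({z} : Set G))) ≤ J₀)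
    (hζ : ∀ ζ : centralizer ({z} : Set G), ζ ≠ 1 → ζ ∈ ⁅J₀, J₀⁆ → (∀ h, Commute h ζ) → (ζ : G) = z)
    (ψ : centralizer ({z} : Set G) →* Γ) (hs : Function.Surjective ψ) (hk : ∀ h, ψ h = 1 ↔ h ∈ J₀) :
    ∃ (Z : Subgroup G) (ρ : G → Γ), LY (J₀.map (centralizer {z}).subtype) Z z ρ ∧
      Nat.card Z = Nat.card A * 2 ∧ ∀ h : centralizer ({z} : Set G), ρ h = ψ h := by
  classical
  obtain ⟨ζ, x, a, ha, b, hb, ab⟩ := ex_es hE
  obtain ⟨l1, l2, cm, dj, sp⟩ := hAE
  have nm : ∀ B ≤ E, A ≤ normalizer (B : Set (centralizer ({z} : Set G))) := fun B hB a ha =>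
    centralizer_le_normalizer _ fun b hb => (cm a ha b (hB hb)).symm
  have dec : ∀ j ∈ J₀, ∃ a ∈ A, ∃ e ∈ E, a * e = j := fun j hj => by
    have : j ∈ ((A ⊔ E : Subgroup _) : Set _) := sp ▸ hj
    rwa [coe_mul_of_left_le_normalizer_right A E (nm E le_rfl)] at this
  have cA : ∀ a ∈ A, ∀ j ∈ J₀, Commute a j := fun a ha j hj => by
    obtain ⟨a', ha', e, he, rfl⟩ := dec j hj
    refine Commute.mul_right ?_ (cm a ha e he)
    have := hA _ (A.mul_mem ha ha')
    rw [mul_eq_one_iff_eq_inv, mul_inv_rev, inv_eq_of_mul_eq_one_right (hA a ha),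
      inv_eq_of_mul_eq_one_right (hA a' ha')] at this
    exact this
  have cj0 : ∀ j ∈ J₀, ∀ k ∈ J₀, cj j k = k ∨ cj j k = ζ * k := fun j hj k hk => by
    obtain ⟨a, ha, e, he, rfl⟩ := dec j hj
    obtain ⟨a', ha', e', he', rfl⟩ := dec k hk
    rw [← cj_cj, cj_eq.2 (cA a ha (cj e _) (hn.conj_mem _ hk e)), cj_mul, cj_eq.2 (cA a' ha' e (l2 he)).symm]
    exact (x.comm e he e' he').imp (congrArg _) fun f => by
      rw [show cj e e' = _ from f, ← mul_assoc, cm a' ha' ζ x.mem, mul_assoc]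
  have ez : (ζ : G) = z := hζ ζ x.ne (ab ▸ commutator_mem_commutator (l2 ha) (l2 hb)) fun h => by
    have e : cj h ζ = cj (cj h a) (cj h b) * (cj h b)⁻¹ := by
      rw [cj_sw, ← cj_iv, ← cj_mul, ← ab]; rfl
    rcases cj0 _ (hn.conj_mem _ (l2 ha) h) _ (hn.conj_mem _ (l2 hb) h) with f | f <;>
      rw [show cj (cj h a) (cj h b) = _ from f] at e
    · exact absurd (cj_eq_one.1 (e.trans (mul_inv_cancel _))) x.ne
    · exact cj_eq.1 (e.trans (mul_inv_cancel_right _ _))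
  have zl := zpowers_le.2 x.mem
  have mZ : ∀ t, t ∈ A ⊔ zpowers ζ ↔ ∃ a ∈ A, ∃ e ∈ zpowers ζ, a * e = t := fun t => by
    rw [← SetLike.mem_coe, coe_mul_of_left_le_normalizer_right A _ (nm _ zl)]; rfl
  have c1 := H23.card_sup_mul_card_inf (nm E le_rfl)
  have c2 := H23.card_sup_mul_card_inf (nm _ zl)
  rw [sp, dj, card_bot, hEc] at c1
  rw [eq_bot_iff.2 ((inf_le_inf_left A zl).trans dj.le), card_bot, Nat.card_zpowers, orderOf_two x.ne x.sq,
    mul_one] at c2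
  have cZ : ∀ t ∈ A ⊔ zpowers ζ, t * t = 1 ∧ ∀ j ∈ J₀, Commute t j := fun t ht => by
    obtain ⟨a, ha, e, he, rfl⟩ := (mZ t).1 ht
    have : e * e = 1 ∧ ∀ j : centralizer ({z} : Set G), Commute e j := by
      rcases (mem_zpowers_two x.sq).1 he with rfl | rfl
      · exact ⟨one_mul 1, Commute.one_left⟩
      · exact ⟨x.sq, fun j => Subtype.ext (show Commute (e : G) j from ez.symm ▸ (mem_cen.1 j.2).symm)⟩
    exact ⟨by rw [(this.2 a).mul_mul_mul_comm, hA a ha, this.1, one_mul],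
      fun j hj => (cA a ha j hj).mul_left (this.2 j)⟩
  refine ⟨(A ⊔ zpowers ζ).map (centralizer {z}).subtype,
    fun g => if h : g ∈ centralizer {z} then ψ ⟨g, h⟩ else 1, ⟨⟨ζ, mem_sup_right (mem_zpowers ζ), ez⟩,
    fun e => x.ne (Subtype.ext (ez.trans e)), map_mono (sup_le l1 (zl.trans l2)), ?_, fun g => ⟨fun h => ?_, ?_⟩,
    ?_, ?_, ?_, ?_, fun g h hg hh => ?_, fun γ => ?_, fun g hg => ?_⟩, ?_, fun h => dif_pos h.2⟩
  · rintro _ ⟨t, ht, rfl⟩
    exact congrArg Subtype.val (cZ t ht).1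
  · have hg := mem_cen.2 (h z ⟨ζ, l2 x.mem, ez⟩)
    obtain ⟨a, ha, e, he, f⟩ := dec ⟨g, hg⟩ (hCJ fun j hj => Subtype.ext (h j ⟨j, hj, rfl⟩).symm)
    refine ⟨_, (mZ _).2 ⟨a, ha, e, (mem_zpowers_two x.sq).2 (x.center e he fun j hj => ?_), f⟩, rfl⟩
    have := (cA a ha j (l2 hj)).inv_left.mul_left
      (f ▸ Subtype.ext (h j ⟨j, l2 hj, rfl⟩) : Commute (a * e) j)
    rwa [inv_mul_cancel_left] at this
  · rintro ⟨t, ht, rfl⟩ _ ⟨j, hj, rfl⟩
    exact ((cZ t ht).2 j hj).map _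
  · rintro _ ⟨j, hj, rfl⟩ _ ⟨k, hk, rfl⟩
    exact (cj0 j hj k hk).imp (congrArg Subtype.val) fun e => (congrArg Subtype.val e).trans (congrArg (· * _) ez)
  · rintro _ ⟨j, hj, rfl⟩
    obtain ⟨a, ha, e, he, rfl⟩ := dec j hj
    rw [← map_mul, (cA a ha e (l2 he)).symm.mul_mul_mul_comm, hA a ha, one_mul]
    exact (x.sqr e he).imp (congrArg Subtype.val) fun f => (congrArg Subtype.val f).trans ez
  · rintro g hg _ ⟨j, hj, rfl⟩
    exact ⟨_, hn.conj_mem j hj ⟨g, mem_cen.2 hg⟩, rfl⟩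
  · rw [card_map_of_injective (subtype_injective _), card_map_of_injective (subtype_injective _)]
    omega
  · rw [dif_pos (mem_cen.2 hg), dif_pos (mem_cen.2 hh), dif_pos (mem_cen.2 (hg.mul_left hh)),
      ← map_mul]
    rfl
  · obtain ⟨h, rfl⟩ := hs γ
    exact ⟨h, mem_cen.1 h.2, dif_pos h.2⟩
  · rw [dif_pos (mem_cen.2 hg), hk, ← mem_map_iff_mem (subtype_injective _)]
    rfl
  · rwa [card_map_of_injective (subtype_injective _)]

theorem gd_aut {F : Type*} [Field F] [Fintype F] (hF : Fintype.card F = 3) :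
    GD (MulAut.conj (G := PSp 2 F)).range ∧ (MulAut.conj (G := PSp 2 F)).range.index = 2 ∧
      ∀ s, (∀ l ∈ (MulAut.conj (G := PSp 2 F)).range, Commute s l) → s = 1 := by
  have : Fact (Nat.Prime 3) := ⟨Nat.prime_three⟩
  have e0 := pspEquiv 2 (equivZMod 3 hF)
  have := S0270.result (F := F) 2 le_rfl (fun _ => hF.ge)
  obtain ⟨τ, T⟩ := exists_TD ⊤ (topEquiv.trans e0)
  have cS : Nat.card (PSp 2 F) = 25920 := card_top.symm.trans T.card
  have cA : Nat.card (MulAut (PSp 2 F)) = 51840 := by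
    rw [S0814.result 3 1 le_rfl (by simpa using hF) 2 le_rfl (fun _ => le_rfl), cS]; rfl
  have hZ : center (PSp 2 F) = ⊥ := (inferInstance : (center (PSp 2 F)).Normal).eq_bot_or_eq_top.resolve_right
    fun h => by
      have : IsMulCommutative (PSp 2 F) := ⟨⟨fun a b => mem_center_iff.1 (h ▸ mem_top b) a⟩⟩
      have := (Group.is_simple_iff_prime_card (α := PSp 2 F)).1 inferInstance
      rw [cS] at this; revert this; norm_num
  have inj : Function.Injective (MulAut.conj (G := PSp 2 F)) := by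
    rw [injective_iff_map_eq_one]
    intro a ha
    rw [← mem_bot, ← hZ, mem_center_iff]
    intro g
    exact (mul_inv_eq_iff_eq_mul.1 (congrArg (fun f : MulAut _ => f g) ha)).symm
  have hi : (MulAut.conj (G := PSp 2 F)).range.index = 2 := by
    have := (MulAut.conj (G := PSp 2 F)).range.card_mul_index
    rw [← Nat.card_congr (MonoidHom.ofInjective inj).toEquiv, cS, cA] at this
    omega
  have hc : ∀ s, (∀ l ∈ (MulAut.conj (G := PSp 2 F)).range, Commute s l) → s = 1 := fun s h =>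
    MulEquiv.ext fun y => inj (Eq.trans (by ext; simp [cj]) (cj_eq.2 (h _ ⟨y, rfl⟩)))
  refine ⟨⟨normal_of_index_eq_two hi, fun P hP hn => (eq_bot_iff_forall _).2 fun s hs => hc s ?_,
    ⟨(MonoidHom.ofInjective inj).symm.trans e0⟩⟩, hi, hc⟩
  rintro _ ⟨y, rfl⟩
  rcases (show (P.comap MulAut.conj).Normal from ⟨fun n h g => by
    simpa using hn _ ⟨g, rfl⟩ _ h⟩).eq_bot_or_eq_top with h | h
  · have : s y * y⁻¹ ∈ P.comap MulAut.conj := by
      have := P.mul_mem hs (hn _ ⟨y, rfl⟩ _ (P.inv_mem hs))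
      rw [mem_comap]
      convert this using 1
      ext; simp [mul_assoc]
    rw [h, mem_bot, mul_inv_eq_one] at this
    rw [← cj_eq]
    ext; simp [cj, this]
  · obtain ⟨k, hk⟩ := (IsPGroup.iff_card (p := 2)).1 (hP.comap_of_injective _ inj)
    rw [h, card_top, cS] at hk
    exact absurd (Nat.prime_three.dvd_of_dvd_pow (hk ▸ (by decide : 3 ∣ 25920))) (by decide)

end Cfsg.Agent.H96.Par
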