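/-
`PSp₄(3)` on `2^8` with a commuting fixed-point-free element of order three.
-/
import Cfsg.Agent.H96.PaK

set_option autoImplicit false
set_option linter.unusedSimpArgs false
set_option linter.unusedSectionVars false

namespace Cfsg.Agent.H96.Par

open Subgroup H4.GF H4.GF.M43 H4.GF.M43.QVx H15

universe u

section Mod

variable {Γ : Type*} {V : Type*} [Group Γ] [AddCommGroup V] [Module (ZMod 2) V]
  [DistribMulAction Γ V] {L : Subgroup Γ} {τ : W → Γ}

theorem heis3 (T : TD L τ) : ∃ g ∈ L, ∃ l ∈ L, g * g * g = 1 ∧ g * τ e1 = τ e1 * g ∧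
    l * τ e1 = τ e1 * l ∧ l * g = g * τ e1 * l := by
  have i1 : Ind e1 e2 := fr_ind 0 1 (by decide)
  have i2 : Ind e1 (e2 - e1) := by
    have := fr_ind 0 3 (by decide)
    exact ⟨this.u0, by decide, by decide, by decide, by
      rw [← neg_sub, ← neg_one_smul (ZMod 3), om, H27.sympForm_smul_right]
      exact mul_eq_zero_of_right _ this.perp⟩
  obtain ⟨l, lL, hl⟩ := T.tr2 _ _ _ _ i1 i2
  have l1 := hl 1 0
  have l2 := hl 0 1
  have l3 := hl 1 1
  simp only [one_smul, zero_smul, add_zero, zero_add, add_sub_cancel] at l1 l2 l3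
  rw [← neg_sub, T.neg] at l2
  have r := T.rel _ _ i1.perp
  have c01 : Commute (τ e1) (τ e2) := T.comm _ _ i1.perp
  have c02 : Commute (τ e1) (τ (e1 + e2)) := T.comm _ _ (fr_ind 0 2 (by decide)).perp
  have c12 : Commute (τ e2) (τ (e1 + e2)) := T.comm _ _ (fr_ind 1 2 (by decide)).perp
  have q := T.cube e2
  refine ⟨τ (e1 + e2) * (τ e2)⁻¹, L.mul_mem (T.mem _) (L.inv_mem (T.mem _)), l, lL, ?_,
    (c02.mul_right c01.inv_right).symm, mul_inv_eq_iff_eq_mul.1 l1, mul_inv_eq_iff_eq_mul.1 ?_⟩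
  · rw [← pow_three', c12.symm.inv_right.mul_pow, inv_pow, pow_three', pow_three', T.cube, q,
      inv_one, one_mul]
  · rw [show l * (τ (e1 + e2) * (τ e2)⁻¹) * l⁻¹ = l * τ (e1 + e2) * l⁻¹ * (l * τ e2 * l⁻¹)⁻¹ by
      group, l2, l3, ← eq_inv_of_mul_eq_one_left r, ← eq_inv_of_mul_eq_one_left q]
    rw [c01.eq, mul_assoc (τ e2) (τ e1), c02.eq, ← mul_assoc (τ e2) (τ (e1 + e2)), c12.eq,
      ← mul_assoc, ← mul_assoc, c12.eq, mul_assoc _ (τ e2) (τ e2)]

variable (D : GD L) (T : TD L τ) (X : QV Γ V) (hc : Nat.card V = 256) {c : Γ}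
  (cL : ∀ l ∈ L, c * l = l * c) (o : ∀ v : V, c • c • v = v + c • v)
include D T X hc cL o

theorem noCA {U : AddSubgroup V} (C : CA τ U) : False := by
  have : Finite V := Nat.finite_of_card_ne_zero (by omega)
  have := D.nl
  have c3 : c * c * c = 1 := X.faith _ fun v => by rw [mul_smul, mul_smul, o, o, add_comm v, aa']
  obtain ⟨g, gL, l, lL, g3, gt, lt, lg⟩ := heis3 T
  have tL := T.mem e1
  have eI : Im V (τ e1) = X.perp U := by rw [← C.fx e1 (fr_ne 0), X.perp_Fx]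
  have cI := card_Fx_Im' (V := V) (τ e1)
  rw [T.fx X hc (v := e1) (fr_ne 0), hc] at cI
  have key : ∀ s ∈ L, s ≠ 1 → s * g = g * s → s * l = l * s → ∀ n,
      Nat.card (Im V (τ e1) ⊓ Fx V (c * s) : AddSubgroup V) = n →
      (n = 1 ∨ 16 ≤ n) ∧ n ≠ 64 := fun s sL s1 sg sl n e => by
    have inv : ∀ a : Γ, τ e1 * a = a * τ e1 → c * s * a = a * (c * s) →
        ∀ x ∈ Im V (τ e1) ⊓ Fx V (c * s), ac V a x ∈ Im V (τ e1) ⊓ Fx V (c * s) :=
      fun a h1 h2 x hx => ⟨Im_comm h1 hx.1, Fx_comm h2 hx.2⟩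
    have ic := inv c (cL _ tL).symm (by rw [mul_assoc, ← cL s sL])
    have ig := inv g gt.symm (by rw [mul_assoc, sg, ← mul_assoc, cL g gL, mul_assoc])
    have il := inv l lt.symm (by rw [mul_assoc, sl, ← mul_assoc, cL l lL, mul_assoc])
    have oc : Om (ac V c) (Im V (τ e1) ⊓ Fx V (c * s)) := fun x _ => o x
    have h1 := om_card oc ic
    have h0 : 0 < n := e ▸ Nat.card_pos
    refine ⟨?_, fun f => s1 (D.cenL sL fun m hm => ?_)⟩
    · have : n ≠ 4 := by
        rintro rfl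
        obtain ⟨x, hx, x0⟩ := exists_ne_zero (K := Im V (τ e1) ⊓ Fx V (c * s)) (by omega)
        have k : l • g • x = g • l • x := by
          have lc := cm_smul (V := V) (cL l lL)
          rcases tri e ig (cube g3) with h | h
          · rw [show g • x = x from h x hx, show g • l • x = l • x from h _ (il x hx)]
          rcases two_om e ic ig oc h with h | h
          · rw [show g • x = _ from h x hx, show g • l • x = _ from h _ (il x hx)]
            exact (lc x).symm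
          · rw [show g • x = _ from h x hx, show g • l • x = _ from h _ (il x hx)]
            simp only [ac_apply, lc]
        rw [← mul_smul, lg, mul_smul, mul_smul] at k
        exact x0 ((smul_eq_zero_iff_eq l).1 (fx_im (T.cube e1)
          (mem_Fx.2 (MulAction.injective g k)) (il x hx).1))
      omega
    · have h2 : ∀ x ∈ X.perp U, c • s • x = x := fun x hx => by
        rw [← mul_smul, ← mem_Fx]
        exact ((AddSubgroup.eq_of_le_of_card_ge (inf_le_left (a := Im V (τ e1))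
          (b := Fx V (c * s))) (by omega)).ge (eI.ge hx)).2
      rw [Commute, SemiconjBy, ← inv_mul_eq_one]
      refine X.faith _ fun v => ?_
      obtain ⟨y, hy, x, hx, rfl⟩ := C.dec T X v
      rw [mul_smul, inv_smul_eq_iff, smul_add, smul_add, C.fixL T _ (L.mul_mem hm sL) y hy,
        C.fixL T _ (L.mul_mem sL hm) y hy, add_right_inj, mul_smul, mul_smul]
      refine MulAction.injective c ?_
      change c • m • s • x = c • s • m • x
      rw [h2 _ (C.norm6 T X m hx), cm_smul (cL m hm), h2 x hx]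
  have t1 := T.ne e1 (fr_ne 0)
  have h := heis_card (V := V) (T.cube e1) c3 (cL _ tL)
  rw [(AddSubgroup.eq_bot_iff_forall (Im V (τ e1) ⊓ Fx V c)).2 fun x hx => by
    have := o x
    rwa [mem_Fx.1 hx.2, mem_Fx.1 hx.2, aa] at this, AddSubgroup.card_bot, one_mul,
    mul_assoc c] at h
  obtain ⟨h1, h2⟩ := key _ tL t1 gt.symm lt.symm _ rfl
  obtain ⟨h3, h4⟩ := key _ (L.mul_mem tL tL) (fun e => t1 (by simpa [e] using T.cube e1))
    (Commute.mul_left gt.symm gt.symm) (Commute.mul_left lt.symm lt.symm) _ rfl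
  rcases h1 with h1 | h1
  · rw [h1] at h; omega
  rcases h3 with h3 | h3
  · rw [h3] at h; omega
  nlinarith

theorem cfc : ∃ J, CF X L J ∧ ∀ s, Lin J s → s * c = c * s := by
  have : Finite V := Nat.finite_of_card_ne_zero (by omega)
  have := D.nl
  have hB : ∀ u v, Ind u v → Om (ac V (τ v)) (Fx V (τ u)) := fun u v i =>
    (tri (α := ac V (τ v)) (T.fx X hc i.u0) (fun _ => Fx_comm (T.comm _ _ i.perp))
      (M43.cube (T.cube v))).resolve_left fun e => noCA D T X hc cL o (T.caseA X hc i e)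
  obtain ⟨J, C⟩ := caseF T X hc hB
  have tr : ∀ β : V →+ V, (∀ l ∈ L, ∀ x, β (l • x) = l • β x) →
      (∀ x ∈ Fx V (τ (fr 0)), c • x = β x) → ∀ x, c • x = β x := fun β hβ h x => by
    have k : ∀ j, Fx V (τ (fr j)) ≤ (ac V c).eqLocus β := fun j x hx => by
      obtain ⟨l, hl, e⟩ := T.tr1 _ _ (fr_ne j) (fr_ne 0)
      have := h _ (Fx_conj e hx)
      rw [hβ l hl, cm_smul (cL l hl)] at this
      exact MulAction.injective l this
    obtain ⟨y, hy, x, hx, rfl⟩ := dec (T.cube (fr 0)) x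
    exact add_mem (k 0 hy) (T.im_le X hc hB 0 (fun j _ => k j) hx)
  refine ⟨J, C, fun s l => ?_⟩
  rw [← inv_mul_eq_one]
  refine X.faith _ fun v => ?_
  rw [mul_smul, inv_smul_eq_iff, mul_smul, mul_smul]
  rcases two_om (α := J) (β := ac V c) (T.fx X hc (fr_ne 0))
    (fun x hx => mem_Fx.2 (by rw [← C.comm _ (T.mem _), mem_Fx.1 hx]))
    (fun x hx => Fx_comm (cL _ (T.mem _)).symm hx) (C.toCB.om' _) (fun x _ => o x) with h | h
  · rw [tr J C.comm h, tr J C.comm h, l]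
  · have := tr (J.comp J) (fun l hl x => by simp [C.comm l hl]) h
    rw [this, this, AddMonoidHom.comp_apply, AddMonoidHom.comp_apply, l, l]

end Mod

variable {G : Type u} [Group G] {J Z : Subgroup G} {z : G} {Γ : Type*} [Group Γ] {ρ : G → Γ}
  {L : Subgroup Γ} {τ : W → Γ}

theorem iso3 {t y : G} (N : Iso t y) (yy : y * y = 1) (yt : Commute y t) (n : ℕ) :
    ∀ g, Commute g t → (cj g y * y) ^ 2 ^ n = 1 → cj g y = y := by
  induction n with
  | zero =>
    intro g _ h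
    rw [eq_inv_of_mul_eq_one_left (by simpa using h : cj g y * y = 1), inv_eq_of_mul_eq_one_right yy]
  | succ n ih =>
    refine fun g hg h => N g hg (cj_eq.1 (ih _ (cm_cj hg yt) ?_))
    rw [← h, pow_succ', pow_mul, pow_two, cj, inv_eq_of_mul_eq_one_right (cj_sq yy), mul_assoc]

variable [Finite G] {V : Type u} [AddCommGroup V] [Module (ZMod 2) V] [DistribMulAction Γ V]
  {π : G → V} {X : QV Γ V} (S : SD J Z z ρ L τ π X)
include S

theorem SD.lemP2 {Jc : V →+ V} (C : CF X L Jc)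
    (lin : ∀ d, Commute d z → d * d = 1 → Lin Jc (ρ d) → ∀ u ∈ Z, Commute d u) {s t : G}
    (hs : Commute s z) (ht : Commute t z) (ss : s * s = 1) (tt : t * t = 1)
    (c : Commute s t) (n1 : s ∉ J) (n2 : t ∉ J) (n3 : s * t ∉ J)
    (h1 : ∀ x ∈ J, Commute x s → Commute x t) (h2 : ∀ x ∈ J, Commute x t → Commute x s)
    (h3 : ∀ x ∈ J, Commute x (s * t) → Commute x s) (N : Iso s t) : False := by
  have := S.fin
  have st := hs.mul_left ht
  have stst : s * t * (s * t) = 1 := by rw [c.symm.mul_mul_mul_comm, ss, tt, one_mul]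
  have fA : ∀ d, Commute d z → (∀ x ∈ J, Commute x s → Commute x d) →
      S.M.im (J ⊓ centralizer {s}) ≤ Fx V (ρ d) := by
    rintro d hd h _ ⟨x, hx, rfl⟩
    rw [mem_Fx, S.M.act d hd x hx.1, cj_eq.2 (h x hx.1 (mem_cen.1 hx.2.2)).symm]
  have key : ∀ d, Commute d z → d * d = 1 → d ∉ J →
      (∀ x ∈ J, Commute x d → Commute x s) → Lin Jc (ρ d) →
      Nat.card (Fx V (ρ d)) ≤ 2 * Nat.card (S.M.im (J ⊓ centralizer {s})) := by
    intro d hd dd n h l
    obtain ⟨r, hr, c, o, -⟩ := C.keyP S.cV l (S.Y.ρ_sq hd dd) fun e => n ((S.Y.ρ_ker d hd).1 e)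
    refine (S.card_fx hd (lin d hd dd l) hr c o).trans
      (Nat.mul_le_mul_left 2 (AddSubgroup.card_le_of_le ?_))
    rintro _ ⟨x, hx, rfl⟩
    exact ⟨x, ⟨hx.1, hx.1, mem_cen.2 (h x hx.1 (mem_cen.1 hx.2.2))⟩, rfl⟩
  obtain ⟨l1, l2, F1, F2⟩ := C.four S.cV (S.Y.ρ_sq hs ss) (S.Y.ρ_sq ht tt)
    (by rw [← S.Y.ρ_mul _ _ hs ht, c.eq, S.Y.ρ_mul _ _ ht hs]) (fA s hs fun _ _ h => h) (fA t ht h1)
    (by
      rintro g (rfl | rfl | rfl)
      · exact key s hs ss n1 fun _ _ h => h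
      · exact key t ht tt n2 h2
      · rw [← S.Y.ρ_mul _ _ hs ht]
        exact key _ st stst n3 h3)
  obtain ⟨r, hr, cr, o, x, nx, H⟩ :=
    C.keyP S.cV l1 (S.Y.ρ_sq hs ss) fun e => n1 ((S.Y.ρ_ker s hs).1 e)
  refine nx (mem_Fx.1 (F2 ▸ mem_Fx.2 ?_))
  rw [mul_smul, H _ l2 (S.Y.ρ_sq ht tt) F1 ?_, ← mul_smul, S.Y.ρ_sq hs ss, one_smul]
  refine or_not.imp_left fun e => ?_
  obtain ⟨g, hg, rfl⟩ := S.Y.ρ_surj r
  have j := S.cj_J hs hg cr
  have IF : ∀ a : Γ, a * a = 1 → Fx V a = Fx V (ρ s) → Im V a = Fx V (ρ s) := fun a aa f => by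
    have := card_Fx_Im' (V := V) a
    rw [f, e, S.cV] at this
    exact AddSubgroup.eq_of_le_of_card_ge (f ▸ im_le_fx aa) (by omega)
  obtain ⟨k, hk, rk, ck⟩ := S.lift hs hg hr j (by
    rw [IF _ (S.Y.ρ_sq hs ss) rfl, mem_Fx, S.M.act s hs _ j, ← S.M.π_inv j]
    congr 1
    have si : s⁻¹ = s := inv_eq_of_mul_eq_one_right ss
    simp [cj, mul_assoc, si, ss])
  have t' := cm_cj hk ht
  have F3 : Fx V (ρ (cj k t)) = Fx V (ρ s) := by
    have cs : ρ s * ρ k = ρ k * ρ s := by rw [← S.Y.ρ_mul _ _ hs hk, ← ck.eq, S.Y.ρ_mul _ _ hk hs]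
    refine (AddSubgroup.eq_of_le_of_card_ge (fun v hv => ?_)
      (F1 ▸ card_le_smul (ρ k)⁻¹ fun v => Fx_conj (by rw [S.Y.ρ_cj hk ht, ← cj, cj_inv]))).symm
    rw [← smul_inv_smul (ρ k) v]
    exact Fx_conj (S.Y.ρ_cj hk ht).symm (F1 ▸ Fx_comm (Commute.inv_right cs) hv)
  have m := (S.Y.ρ_ker _ ((t'.mul_left ht).mul_left (t'.mul_left ht))).1 (X.faith _ fun v => by
    have a1 : ∀ v : V, ρ t • v + v ∈ Fx V (ρ s) := fun v => IF _ (S.Y.ρ_sq ht tt) F1 ▸ ⟨v, rfl⟩
    have a2 : ∀ v : V, ρ (cj k t) • v + v ∈ Fx V (ρ s) :=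
      fun v => IF _ (S.Y.ρ_sq t' (cj_sq tt)) F3 ▸ ⟨v, rfl⟩
    have a3 := add_mem (a2 (ρ t • v)) (a1 v)
    rw [add_assoc, aa'] at a3
    rw [S.Y.ρ_mul _ _ (t'.mul_left ht) (t'.mul_left ht), S.Y.ρ_mul _ _ t' ht, mul_smul, mul_smul,
      mul_smul, ← aa'' (ρ (cj k t) • ρ t • v) v, smul_add, mem_Fx.1 (F1.ge a3), smul_add,
      mem_Fx.1 (F3.ge a3), add_comm, aa'])
  obtain ⟨n, hn⟩ := S.Y.isP ⟨_, m⟩
  have := cj_eq.1 (iso3 N tt c.symm (n + 1) k ck (by
    rw [pow_succ', pow_mul, pow_two]; exact congrArg Subtype.val hn))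
  have e1 := congrArg ρ (this.mul_left this).eq
  have r3 : ρ g * ρ g * ρ g = 1 := X.faith _ fun v => by
    rw [mul_smul, mul_smul, o, o, add_comm v, aa']
  rwa [S.Y.ρ_mul _ _ (hk.mul_left hk) ht, S.Y.ρ_mul _ _ ht (hk.mul_left hk), S.Y.ρ_mul _ _ hk hk, rk,
    ← mul_assoc (ρ g * ρ g), r3, one_mul] at e1

end Cfsg.Agent.H96.Par
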