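/-
Involution centralisers `(2^2 × 2^{1+8}).(3 × PSp₄(3)).2`.
-/
import Cfsg.Agent.H96.PaL
import Cfsg.Agent.H52.Tr
import Cfsg.Agent.H58.Fi22P
import Cfsg.Agent.S1714
import Cfsg.Agent.S0815

set_option autoImplicit false
set_option linter.unusedSimpArgs false
set_option linter.unusedSectionVars false
set_option linter.unusedVariables false

namespace Cfsg.Agent.H96.Par

open Subgroup H4.GF H4.GF.M43 H4.GF.M43.QVx H15 H97 H29
open scoped commutatorElement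

universe u

variable {G : Type u} [Group G] [Finite G] {J Z F : Subgroup G} {z : G} {Γ : Type*} [Group Γ]
  {ρ : G → Γ} {L : Subgroup Γ} {τ : W → Γ}

/-- a four-group -/
structure Four (F : Subgroup G) : Prop where
  card : Nat.card F = 4
  sq : ∀ t ∈ F, t * t = 1

namespace Four

variable (h : Four F)
include h

theorem conj (g : G) : Four (cjs g F) := ⟨by rw [card_cjs, h.card], fun t ht => by
  obtain ⟨t, rfl⟩ := cj_sur g t
  exact cj_sq (h.sq t (cj_mem.1 ht))⟩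

theorem four {s t u : G} (hs : s ∈ F) (s1 : s ≠ 1) (ht : t ∈ F) (t1 : t ≠ 1) (ts : t ≠ s)
    (hu : u ∈ F) : u = 1 ∨ u = s ∨ u = t ∨ u = s * t := by
  have n1 : s * t ≠ 1 := fun e => ts (by rw [← one_mul t, ← h.sq s hs, mul_assoc, e, mul_one])
  have : ({1, s, t, s * t} : Set G) = F := Set.eq_of_subset_of_ncard_le (by
    rintro _ (rfl | rfl | rfl | rfl)
    exacts [F.one_mem, hs, ht, F.mul_mem hs ht]) (by
    rw [← Nat.card_coe_set_eq, SetLike.coe_sort_coe, h.card,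
      Set.ncard_insert_of_notMem (by simp [s1.symm, t1.symm, n1.symm]),
      Set.ncard_insert_of_notMem (by simp [ts.symm, t1]), Set.ncard_pair (by simp [s1])])
  exact (show u ∈ ({1, s, t, s * t} : Set G) from this ▸ hu)

theorem ex {s : G} (hs : s ∈ F) : ∃ t ∈ F, t ≠ 1 ∧ t ≠ s := by
  by_contra hno
  push Not at hno
  have := card_le_of_le (show F ≤ zpowers s from fun a ha =>
    (mem_zpowers_two (h.sq s hs)).2 (or_iff_not_imp_left.2 (hno a ha)))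
  have := orderOf_le_of_pow_eq_one two_pos ((pow_two s).trans (h.sq s hs))
  rw [← Nat.card_zpowers] at this
  have := h.card
  omega

theorem cj4 {g s t : G} (hg : ∀ t ∈ F, cj g t ∈ F) (hs : s ∈ F) (s1 : s ≠ 1) (c : Commute g s)
    (ht : t ∈ F) : cj g t = t ∨ cj g t = s * t := by
  by_cases t1 : t = 1
  · exact .inl (by rw [t1, cj_one])
  by_cases t2 : t = s
  · exact .inl (by rw [t2, cj_eq.2 c])
  rcases h.four hs s1 ht t1 t2 (hg t ht) with e | e | e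
  · exact absurd (cj_eq_one.1 e) t1
  · exact absurd (cj_inj.1 (e.trans (cj_eq.2 c).symm)) t2
  · exact e

theorem all {g s t u : G} (hs : s ∈ F) (s1 : s ≠ 1) (ht : t ∈ F) (t1 : t ≠ 1) (ts : t ≠ s)
    (c : Commute g s) (c' : Commute g t) (hu : u ∈ F) : Commute g u := by
  rcases h.four hs s1 ht t1 ts hu with rfl | rfl | rfl | rfl
  exacts [Commute.one_right g, c, c', c.mul_right c']

theorem sw {g s t u : G} (hg : ∀ t ∈ F, cj g t ∈ F) (hs : s ∈ F) (s1 : s ≠ 1) (c : Commute g s)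
    (ht : t ∈ F) (n : ¬ Commute g t) (hu : u ∈ F) (u1 : u ≠ 1) (us : u ≠ s) : cj g u = s * u :=
  (h.cj4 hg hs s1 c hu).resolve_left fun e => n (h.all hs s1 hu u1 us c (cj_eq.1 e) ht)

theorem mul4 {g k s t t' u : G} (hg : ∀ t ∈ F, cj g t ∈ F) (hk : ∀ t ∈ F, cj k t ∈ F) (hs : s ∈ F)
    (s1 : s ≠ 1) (c : Commute g s) (c' : Commute k s) (ht : t ∈ F) (n : ¬ Commute g t)
    (ht' : t' ∈ F) (n' : ¬ Commute k t') (hu : u ∈ F) : Commute (g * k) u := by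
  obtain ⟨w, hw, w1, ws⟩ := h.ex hs
  refine h.all hs s1 hw w1 ws (c.mul_left c') (cj_eq.1 ?_) hu
  rw [← cj_cj, h.sw hk hs s1 c' ht' n' hw w1 ws, cj_mul, cj_eq.2 c, h.sw hg hs s1 c ht n hw w1 ws,
    ← mul_assoc, h.sq s hs, one_mul]

theorem fix {P : Subgroup G} (hP : IsPGroup 2 P) (hn : ∀ p ∈ P, ∀ t ∈ F, cj p t ∈ F) :
    ∃ u ∈ F, u ≠ 1 ∧ ∀ p ∈ P, Commute p u := by
  have := par P hP ((F : Set G) \ {1}) fun p hp s hs => ⟨hn p hp s hs.1, fun e => hs.2 (cj_eq_one.1 e)⟩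
  rw [Set.ncard_sdiff_singleton_of_mem F.one_mem, ← Nat.card_coe_set_eq, SetLike.coe_sort_coe,
    h.card] at this
  obtain ⟨u, hu, e⟩ := Set.nonempty_of_ncard_ne_zero fun e => by
    rw [e] at this; exact absurd this (by decide)
  exact ⟨u, hu.1, hu.2, e⟩

end Four

theorem perf_of {N : Type*} [Group N] [IsSimpleGroup N] (k : ¬ ∀ a b : N, a * b = b * a) :
    commutator N = ⊤ ∧ center N = ⊥ :=
  ⟨(inferInstance : (commutator N).Normal).eq_bot_or_eq_top.resolve_left fun h => k fun a b =>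
    commutatorElement_eq_one_iff_mul_comm.1 (mem_bot.1 (h ▸ commutator_mem_commutator trivial trivial)),
    (inferInstance : (center N).Normal).eq_bot_or_eq_top.resolve_right fun h => k fun a b =>
      mem_center_iff.1 (h ▸ mem_top b) a⟩

theorem quasi {C : Type*} [Group C] {N : Subgroup C} [N.Normal] [IsSimpleGroup (C ⧸ N)]
    (k : ¬ ∀ a b : C ⧸ N, a * b = b * a) (h1 : N ≤ center C) (h2 : N ≤ commutator C) :
    IsQuasisimple C := by
  obtain ⟨p1, p2⟩ := perf_of k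
  refine ⟨⟨(eq_top_iff' _).2 fun c => ?_⟩, ?_⟩
  · obtain ⟨k, hk, e⟩ : QuotientGroup.mk' N c ∈ (commutator _).map (QuotientGroup.mk' N) := by
      rw [map_commutator_eq, QuotientGroup.range_mk', ← commutator_def, p1]; trivial
    exact (mul_mem_cancel_left (inv_mem hk)).1 (h2 (QuotientGroup.eq.1 e))
  · have e := QuotientGroup.quotientMulEquivOfEq (show N = center C from le_antisymm h1 fun c hc => by
      rw [← QuotientGroup.eq_one_iff, ← mem_bot, ← p2, mem_center_iff]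
      rintro ⟨k⟩
      exact congrArg (QuotientGroup.mk' _) (mem_center_iff.1 hc k))
    have := e.symm.toEquiv.nontrivial
    exact IsSimpleGroup.isSimpleGroup_of_surjective e.toMonoidHom e.surjective

variable {V : Type u} [AddCommGroup V] [Module (ZMod 2) V] [DistribMulAction Γ V]
  {π : G → V} {X : QV Γ V} {Jc : V →+ V}

/-- `Z = ⟨z⟩ × F`, and `C(z)` acts on `F` as `S₃` -/
structure S8 (J Z F : Subgroup G) (z : G) (ρ : G → Γ) (L : Subgroup Γ) (τ : W → Γ) (π : G → V)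
    (X : QV Γ V) (Jc : V →+ V) : Prop extends SD J Z z ρ L τ π X where
  D : GD L
  C : CF X L Jc
  lin : ∀ d, Commute d z → d * d = 1 → Lin Jc (ρ d) → ∀ u ∈ Z, Commute d u
  c8 : Nat.card Z = 8
  f4 : Four F
  FZ : F ≤ Z
  zF : z ∉ F
  ZF : ∀ t ∈ Z, t ∈ F ∨ z * t ∈ F
  nF : ∀ h, Commute h z → ∀ t ∈ F, cj h t ∈ F
  tr : ∀ s ∈ F, s ≠ 1 → ∀ t ∈ F, t ≠ 1 → ∃ h, Commute h z ∧ cj h s = t
  sw : ∀ s ∈ F, s ≠ 1 → ∃ h, Commute h z ∧ Commute h s ∧ ∃ t ∈ F, ¬ Commute h t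
  cK : ∀ h, Commute h z → (∀ t ∈ F, Commute h t) → ρ h ∈ L

namespace S8

variable (S : S8 J Z F z ρ L τ π X Jc)
include S

theorem nF' {g x : G} (h : Commute x (cj g z)) : ∀ t ∈ cjs g F, cj x t ∈ cjs g F := fun t ht => by
  obtain ⟨x, rfl⟩ := cj_sur g x
  obtain ⟨t, rfl⟩ := cj_sur g t
  rw [cj_sw, cj_mem]
  exact S.nF x (cj_comm.1 h) t (cj_mem.1 ht)

theorem tri8 {g s : G} (hs : s ∈ F) (yz : Commute (cj g z) z) (uz : Commute (cj g s) z)
    (h1 : ∀ x ∈ J, Commute x (cj g z) → Commute x (cj g s))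
    (h2 : ∀ x ∈ J, Commute x (cj g s) → Commute x (cj g z)) (N : Iso (z * s) z) : cj g z = z := by
  have c : Commute (cj g z) (cj g s) := cj_comm.2 (S.Y.cen (S.FZ hs) S.Y.zJ).symm
  have N' := cj_mul g z s ▸ N.conj g
  have yy := cj_sq (g := g) S.Y.sq
  have uu := cj_sq (g := g) (S.f4.sq s hs)
  have h3 : ∀ x ∈ J, Commute x (cj g z * cj g s) → Commute x (cj g z) := fun x hx =>
    S.Y.iso2 N' yz yy ((Commute.refl _).mul_right c) hx
  have dd : cj g z * cj g s * (cj g z * cj g s) = 1 := by rw [c.symm.mul_mul_mul_comm, yy, uu, one_mul]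
  by_contra n
  have yJ : cj g z ∉ J := fun m => n (S.wc S.D.o2 (S.perp3 m (S.mem_J uz m yy h1) h2 h3))
  have e : cj g z * cj g s * cj g z = cj g s := by rw [c.eq, mul_assoc, yy, mul_one]
  exact S.lemP2 S.C S.lin (yz.mul_left uz) yz dd yy ((Commute.refl _).mul_left c.symm)
    (fun m => yJ (S.mem_J yz m dd h3)) yJ (e.symm ▸ fun m => yJ (S.mem_J yz m uu h2)) h3
    (fun x hx h => h.mul_right (h1 x hx h)) (e.symm ▸ fun x hx h => (h2 x hx h).mul_right h) N'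

theorem zs {s : G} (hs : s ∈ F) (s1 : s ≠ 1) : s ≠ z ∧ z * s ∈ Z ∧ z * s ≠ 1 ∧ z * s ≠ z :=
  ⟨fun e => S.zF (e ▸ hs), S.Y.zt (S.FZ hs) s1 fun e => S.zF (e ▸ hs)⟩

theorem hn8 (N : HN Z z) : Iso 1 z := fun g _ yz => by
  obtain ⟨u, hu, u1, h⟩ := (S.f4.conj g).fix (S.Y.isP.to_le inf_le_left)
    (P := J ⊓ centralizer {cj g z}) fun p hp => S.nF' (mem_cen.1 hp.2)
  obtain ⟨s, rfl⟩ := cj_sur g u
  have hs := cj_mem.1 hu
  obtain ⟨k0, k1, k2, k3⟩ := S.zs hs fun e => u1 (cj_eq_one.2 e)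
  exact S.tri8 hs yz (h z ⟨S.Y.zJ, mem_cen.2 yz.symm⟩).symm (fun x hx c => h x ⟨hx, mem_cen.2 c⟩)
    (fun x hx => S.Y.iso2 ((N s (S.FZ hs) (fun e => u1 (cj_eq_one.2 e)) k0).conj g) yz (cj_sq S.Y.sq)
      (cj_comm.2 (S.Y.cen (S.FZ hs) S.Y.zJ).symm) hx) (N _ k1 k2 k3)

theorem inZ {g s : G} (hs : s ∈ F) (h : cj g s ∈ Z) : cj g s ∈ F := by
  obtain ⟨k, hk, e⟩ := S.nconj S.D.o2 (S.FZ hs) h (g := g⁻¹) (cj_inv g s)
  exact e ▸ S.nF k hk s hs

theorem core8 {s t : G} (hs : s ∈ F) (s1 : s ≠ 1) (ht : t = s ∨ t = z * s) (n : ¬ Iso t z)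
    [((zpowers t).subgroupOf (centralizer {t})).Normal] :
    (∃ a ∈ Z, a ≠ 1 ∧ a ≠ s ∧ a ≠ z ∧ a ≠ z * s ∧ ∀ g, Commute g t → cj g a * a⁻¹ ∈ zpowers t) ∨
    (Spor.IsoFi22 (centralizer ({t} : Set G) ⧸ (zpowers t).subgroupOf (centralizer {t})) ∧
      ∃ h, Commute h z ∧ Commute h t ∧ ∃ a ∈ Z, cj h a * a⁻¹ ∉ zpowers t) := by
  obtain ⟨k0, k1, k2, k3⟩ := S.zs hs s1
  obtain ⟨tZ, t1, t2⟩ : t ∈ Z ∧ t ≠ 1 ∧ t ≠ z := by
    rcases ht with rfl | rfl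
    exacts [⟨S.FZ hs, s1, k0⟩, ⟨k1, k2, k3⟩]
  have c : ∀ h, Commute h z → (Commute h t ↔ Commute h s) := fun h hh => by
    rcases ht with rfl | rfl
    · rfl
    · exact ⟨fun e => by simpa using hh.inv_right.mul_right e, hh.mul_right⟩
  have E := S.secA S.D.o2 tZ t2
  obtain ⟨ρ', Y, -⟩ := E.ly S.toSD
  simp only [Iso, not_forall] at n
  obtain ⟨g, h1, h3, n⟩ := n
  have k : ∀ g a : centralizer ({t} : Set G), Commute (QuotientGroup.mk g : _ ⧸ (zpowers t).subgroupOf _)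
      (QuotientGroup.mk a) ↔ cj (g : G) a * (a : G)⁻¹ ∈ zpowers t := fun g a => by
    rw [← cj_eq, ← mul_inv_eq_one]
    exact QuotientGroup.eq_one_iff (N := (zpowers t).subgroupOf _) (cj g a * a⁻¹)
  rcases Y.core (by
    have := card_map' (QuotientGroup.mk' ((zpowers t).subgroupOf (centralizer {t})))
      (A := Z.subgroupOf _) fun c hc => E.kZ c hc
    rw [QuotientGroup.ker_mk', Nat.card_congr (subgroupOfEquivOfLe fun a ha =>
      mem_cen.2 (S.Y.cen ha (S.Y.ZJ tZ))).toEquiv, Nat.card_congr (subgroupOfEquivOfLe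
      (zpowers_le.2 (mem_cen.2 (Commute.refl t)))).toEquiv, S.c8, Nat.card_zpowers,
      orderOf_two t1 (S.Y.Zsq t tZ)] at this
    omega) (S.D.sub fun l hl => by
    obtain ⟨k, hk, rfl⟩ := S.Y.ρ_surj l
    exact ⟨⟨k, mem_cen.2 hk⟩, mem_cen.2 (S.KZ k hk hl t tZ), rfl⟩) (by
    obtain ⟨h, hh, hs', w, hw, nw⟩ := S.sw s hs s1
    refine index_eq_two_iff.2 ⟨⟨_, ⟨h, mem_cen.2 hh⟩, mem_cen.2 ((c h hh).2 hs'), rfl⟩, ?_⟩
    rintro ⟨_, ⟨k, hk⟩, kt, rfl⟩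
    replace hk := mem_cen.1 hk
    change Xor (ρ k * ρ h ∈ L) (ρ k ∈ L)
    rw [← S.Y.ρ_mul _ _ hk hh]
    by_cases e : ∀ u ∈ F, Commute k u
    · exact .inr ⟨S.cK k hk e, fun m => nw (by
        simpa using (e w hw).inv_left.mul_left (S.KZ _ (hk.mul_left hh) m w (S.FZ hw)))⟩
    · push Not at e
      obtain ⟨u, hu, nu⟩ := e
      exact .inl ⟨S.cK _ (hk.mul_left hh) fun _ => S.f4.mul4 (S.nF k hk) (S.nF h hh) hs s1
        ((c k hk).1 (mem_cen.1 kt)) hs' hu nu hw nw, fun m => nu (S.KZ k hk m u (S.FZ hu))⟩)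
    with h | ⟨_, ⟨a, ha, rfl⟩, a1, a2, ca, -⟩ | ⟨h, m, hm, _, ⟨a, ha, rfl⟩, na⟩
  · exact absurd h (E.niso S.toSD S.D.o2 (mem_cen.2 h1) h3 n)
  · have m1 : (a : G) ∉ zpowers t := fun e => a1 ((QuotientGroup.eq_one_iff a).2 e)
    have m2 : z * a ∉ zpowers t := fun e => a2 (QuotientGroup.eq.2 (by
      rwa [mem_subgroupOf, coe_mul, coe_inv, S.Y.inv_Z (t := (a : G)) ha, (S.Y.cen (t := (a : G)) ha S.Y.zJ).eq]))
    refine .inl ⟨a, ha, fun e => m1 (e ▸ one_mem _), fun e => ?_, fun e => m2 (by simp [e, S.Y.sq]),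
      fun e => ?_, fun g hg => (k ⟨g, mem_cen.2 hg⟩ a).1 (ca _)⟩
    · rcases ht with f | f
      exacts [m1 (by simp [e, f]), m2 (by simp [e, f])]
    · rcases ht with f | f
      exacts [m2 (by simp [e, f, S.Y.zz]), m1 (by simp [e, f])]
  · obtain ⟨c, rfl⟩ := E.surj m
    exact .inr ⟨h, c, E.cz c hm, mem_cen.1 c.2, a, ha, fun e => na ((k c a).2 e)⟩

theorem cmZ {h s a : G} (hs : s ∈ F) (s1 : s ≠ 1) (hh : Commute h z) (c : Commute h s) (ha : a ∈ Z) :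
    ∃ w ∈ F, (a = w ∨ a = z * w) ∧ cj h a * a⁻¹ = cj h w * w⁻¹ := by
  rcases S.ZF a ha with e | e
  · exact ⟨a, e, .inl rfl, rfl⟩
  · refine ⟨_, e, .inr (S.Y.zz a).symm, ?_⟩
    rw [cj_mul, cj_eq.2 hh, mul_inv_rev, ← mul_assoc, mul_assoc z,
      (S.Y.cz (S.Y.ZJ (Z.mul_mem (S.Y.normZ hh ha) (Z.inv_mem ha)))).symm.eq, mul_inv_cancel_right]

theorem fi23 {s : G} (hs : s ∈ F) (s1 : s ≠ 1) (n : ¬ Iso (z * s) z) : Spor.IsoFi23 G := by
  have := cen_normal (z * s)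
  obtain ⟨k0, k1, k2, k3⟩ := S.zs hs s1
  obtain ⟨h, hh, hs', u, hu, nu⟩ := S.sw s hs s1
  have hd := hh.mul_right hs'
  rcases S.core8 hs s1 (.inr rfl) n with ⟨a, ha, a1, a2, a3, a4, ca⟩ | ⟨⟨e⟩, -⟩
  · obtain ⟨w, hw, f, e⟩ := S.cmZ hs s1 hh hs' ha
    have := ca h hd
    rw [e, S.f4.sw (S.nF h hh) hs s1 hs' hu nu hw (by rintro rfl; simp [a1, a3] at f)
      (by rintro rfl; simp [a2, a4] at f), mul_inv_cancel_right, mem_zpowers_two (S.Y.Zsq _ k1)] at this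
    simp [s1, S.Y.ne] at this
  have := H58.Fi22P.simple
  have := e.toEquiv.nontrivial
  have := IsSimpleGroup.isSimpleGroup_of_surjective e.symm.toMonoidHom e.symm.surjective
  obtain ⟨w, hw, w1, ws⟩ := S.f4.ex hs
  obtain ⟨x, hx, y, hy, f⟩ := S.Y.ex_nc
  have m : ∀ x ∈ J, x ∈ centralizer {z * s} := fun x hx => mem_cen.2 (S.Y.cen k1 hx).symm
  have f1 : ⁅x, y⁆ = z := mul_inv_eq_iff_eq_mul.2 f
  obtain ⟨g, hg, f2⟩ := S.tr s hs s1 w hw w1
  refine S1714.result (z * s) (orderOf_two k2 (S.Y.Zsq _ k1)) (quasi (N := (zpowers (z * s)).subgroupOf _)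
    (fun k => ?_) ?_ ?_) ⟨e⟩ ⟨g, m _ (S.Y.ZJ (S.Y.normZ hg k1)), fun e => ws ?_⟩
  · have := (QuotientGroup.eq_one_iff (N := (zpowers (z * s)).subgroupOf _)
      ⁅(⟨x, m x hx⟩ : centralizer {z * s}), ⟨y, m y hy⟩⁆).1
      (commutatorElement_eq_one_iff_mul_comm.2 (k (QuotientGroup.mk ⟨x, m x hx⟩)
        (QuotientGroup.mk ⟨y, m y hy⟩)) :)
    rcases (mem_zpowers_two (S.Y.Zsq _ k1)).1 (f1 ▸ this : z ∈ _) with e | e
    exacts [S.Y.ne e, k3 e.symm]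
  · rintro c ⟨k, hk⟩
    exact mem_center_iff.2 fun y => Subtype.ext (show Commute (y : G) c from
      (show (z * s) ^ k = c from hk) ▸ (mem_cen.1 y.2).zpow_right k)
  · intro c hc
    rcases (mem_zpowers_two (S.Y.Zsq _ k1)).1 hc with e | e
    · exact (Subtype.ext e : c = 1) ▸ one_mem _
    · rw [show c = ⁅(⟨x, m x hx⟩ : centralizer {z * s}), ⟨y, m y hy⟩⁆ *
        ⁅(⟨h, mem_cen.2 hd⟩ : centralizer {z * s}), ⟨w, m w (S.Y.ZJ (S.FZ hw))⟩⁆ from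
        Subtype.ext (e.trans (congrArg₂ (· * ·) f1.symm (mul_inv_eq_iff_eq_mul.2
          (S.f4.sw (S.nF h hh) hs s1 hs' hu nu hw w1 ws)).symm))]
      exact mul_mem (commutator_mem_commutator trivial trivial)
        (commutator_mem_commutator trivial trivial)
  · rwa [← cj, cj_mul, cj_eq.2 hg, f2, mul_right_inj] at e

variable (N : ∀ s ∈ F, s ≠ 1 → Iso (z * s) z)
include N

theorem ti8 {s : G} (hs : s ∈ F) (s1 : s ≠ 1) (n : ¬ Iso s z) {g : G} (hg : Commute g s) :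
    ∀ t ∈ F, cj g t ∈ F := by
  have := cen_normal s
  have ss := S.f4.sq s hs
  rcases S.core8 hs s1 (.inl rfl) n with ⟨a, ha, a1, a2, a3, a4, ca⟩ | ⟨-, h, hh, c, a, ha, na⟩
  · rcases S.ZF a ha with e | e
    · intro t ht
      have : cj g a ∈ F := (F.mul_mem_cancel_right (F.inv_mem e)).1 (zpowers_le.2 hs (ca g hg))
      rcases S.f4.four hs s1 e a1 a2 ht with rfl | rfl | rfl | rfl
      exacts [(cj_one g).symm ▸ ht, (cj_eq.2 hg).symm ▸ ht, this,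
        (cj_mul g s a).symm ▸ (cj_eq.2 hg).symm ▸ F.mul_mem hs this]
    exfalso
    have b1 : z * a ≠ 1 := (S.Y.zt ha a1 a3).2.1
    have i := N _ e b1
    rw [S.Y.zz] at i
    simp only [Iso, not_forall] at n
    obtain ⟨k, h1, h3, n⟩ := n
    obtain ⟨h, hh, hs', u, hu, nu⟩ := S.sw s hs s1
    rcases (mem_zpowers_two ss).1 (ca k h1) with f | f
    · exact n (i k (cj_eq.1 (mul_inv_eq_one.1 f)) h3)
    · have f1 := S.f4.sw (S.nF h hh) hs s1 hs' hu nu e b1 fun f => a4 (by rw [← f, S.Y.zz])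
      rw [cj_mul, cj_eq.2 hh, (S.Y.cen (S.FZ hs) S.Y.zJ).left_comm, mul_right_inj] at f1
      have := i (k * h) (cj_eq.1 (by
        rw [← cj_cj, f1, cj_mul, cj_eq.2 h1, mul_inv_eq_iff_eq_mul.1 f, ← mul_assoc, ss, one_mul]))
      rw [← cj_cj, cj_eq.2 hh] at this
      exact n (this h3)
  · obtain ⟨w, hw, -, e⟩ := S.cmZ hs s1 hh c ha
    rcases S.f4.cj4 (S.nF h hh) hs s1 c hw with f | f <;> simp [e, f] at na

variable (T : ∀ s ∈ F, s ≠ 1 → ∀ g, Commute g s → ∀ t ∈ F, cj g t ∈ F)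
include T

omit N in
theorem tiF {g s : G} (hs : s ∈ F) (s1 : s ≠ 1) (h : cj g s ∈ F) : ∀ t ∈ F, cj g t ∈ F :=
  fun t ht => by
  obtain ⟨k, hk, e⟩ := S.tr _ h (fun e => s1 (cj_eq_one.1 e)) s hs s1
  rw [← cj_inv k (cj g t), cj_cj k]
  exact S.nF _ hk.inv_left _ (T s hs s1 _ (cj_eq.1 (by rw [← cj_cj, e])) t ht)

theorem scH {g s : G} (hs : s ∈ F) (s1 : s ≠ 1) (h : Commute (cj g s) z) : cj g s ∈ F := by
  have a : ∀ g, ∀ s ∈ F, s ≠ 1 → Commute (cj g s) z → ∃ k, cj k s = cj g s ∧ Commute (cj k z) z ∧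
      ∀ x ∈ J, Commute x (cj k s) → Commute x (cj k z) := fun g s hs s1 h => by
    obtain ⟨k, e, f⟩ := Ys_fix (S.Ys_odd S.D.o2 (S.FZ hs) s g rfl) (S.Y.isP.to_le inf_le_left)
      (P := J ⊓ centralizer {cj g s}) fun p hp => mem_cen.1 hp.2
    exact ⟨k, e, (f z ⟨S.Y.zJ, mem_cen.2 h.symm⟩).symm, fun x hx c => f x ⟨hx, mem_cen.2 (e ▸ c)⟩⟩
  have b : ∀ g, ∀ s ∈ F, s ≠ 1 → cj g s ∈ J → cj g s ∈ F := fun g s hs s1 h => by
    obtain ⟨k, e, yz, f⟩ := a g s hs s1 (S.Y.cz h)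
    rw [← e] at h ⊢
    have yJ := S.mem_J yz h (cj_sq (S.f4.sq s hs)) f
    refine S.nF k (cj_eq.1 (S.wc S.D.o2 ?_)) s hs
    rcases S.perp2 yJ h f with e | e
    · exact (S.M.π_zero _ yJ).1 e
    · have := (S.M.π_eq yJ h).1 e
      rw [inv_eq_of_mul_eq_one_right (cj_sq (S.f4.sq s hs)), ← cj_mul] at this
      exact (S.Y.large _).1 fun x hx => (S.Y.iso2 ((N s hs s1).conj k) yz (cj_sq S.Y.sq)
        (cj_comm.2 ((Commute.refl z).mul_right (S.Y.cen (S.FZ hs) S.Y.zJ).symm)) hx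
        (S.Y.cen this hx).symm).symm
  obtain ⟨k, e, yz, f⟩ := a g s hs s1 h
  rw [← e] at h ⊢
  by_cases c : ∀ x ∈ J, Commute x (cj k z) → Commute x (cj k s)
  · exact S.nF k (cj_eq.1 (S.tri8 hs yz h c f (N s hs s1))) s hs
  push Not at c
  obtain ⟨x, hx, c, n⟩ := c
  obtain ⟨u, hu, u1, f⟩ := (S.f4.conj k).fix (S.Y.isP.to_le inf_le_left)
    (P := J ⊓ centralizer {cj k z}) fun p hp => S.nF' (mem_cen.1 hp.2)
  have e := ((S.f4.conj k).cj4 (S.nF' c) hu u1 (f x ⟨hx, mem_cen.2 c⟩) (cj_mem.2 hs)).resolve_left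
    fun e => n (cj_eq.1 e)
  have m := J.mul_mem hx (S.Y.norm _ h _ (J.inv_mem hx))
  rw [show x * cj (cj k s) x⁻¹ = cj x (cj k s) * (cj k s)⁻¹ by
    generalize cj k s = u; simp [cj, mul_assoc], e, mul_inv_cancel_right] at m
  obtain ⟨t, rfl⟩ := cj_sur k u
  have t1 : t ≠ 1 := fun e => u1 (cj_eq_one.2 e)
  exact S.tiF T (cj_mem.1 hu) t1 (b k t (cj_mem.1 hu) t1 m) s hs

theorem scF {g s t : G} (hs : s ∈ F) (s1 : s ≠ 1) (ht : t ∈ F) (t1 : t ≠ 1)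
    (h : Commute (cj g s) t) : cj g s ∈ F := by
  have uu := cj_sq (g := g) (S.f4.sq s hs)
  obtain ⟨k, e, f⟩ := Ys_fix (by simpa [cj] using S.Ys_odd S.D.o2 (S.FZ ht) t 1 rfl) (isP_inv uu)
    (t := t) fun p hp => by
      rcases (mem_zpowers_two uu).1 hp with rfl | rfl
      exacts [Commute.one_left t, h]
  rw [← cj_inv' k (cj g s), cj_cj k⁻¹]
  refine T t ht t1 k (cj_eq.1 e) _ (S.scH N T hs s1 ?_)
  rw [← cj_cj, ← cj_inv k z, cj_comm]
  exact f _ (mem_zpowers _)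

theorem case1 {g k s v t : G} (hs : s ∈ F) (s1 : s ≠ 1) (v1 : v ≠ 1) (c : Commute v (cj g s))
    (e : cj k (cj g s) = cj g s * v) (ht : t = z ∨ t ∈ F ∧ t ≠ 1) (h : Commute v t) : cj g s ∈ F := by
  obtain ⟨v, rfl⟩ := cj_sur g v
  have m := S.scF N T hs s1 hs s1 (g := g⁻¹ * k * g) (by
    rw [← cj_cj, ← cj_cj, e, ← cj_mul, cj_inv]
    exact (Commute.refl s).mul_left (cj_comm.1 c))
  rw [← cj_cj, ← cj_cj, e, ← cj_mul, cj_inv, F.mul_mem_cancel_left hs] at m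
  have v2 : v ≠ 1 := fun e => v1 (cj_eq_one.2 e)
  refine S.tiF T m v2 ?_ s hs
  rcases ht with rfl | ⟨ht, t1⟩
  exacts [S.scH N T m v2 h, S.scF N T m v2 ht t1 h]

theorem normal : F.Normal := ⟨fun s hs g => by
  by_cases s1 : s = 1
  · simp [s1]
  have uu := cj_sq (g := g) (S.f4.sq s hs)
  rcases dih uu S.Y.sq ⊤ trivial trivial with ⟨k, -, e⟩ | ⟨v, -, v1, vv, vu, vz, ⟨⟨k, -, e⟩, -⟩ |
    ⟨k, -, kv, e⟩⟩
  · replace e : cj (k * g) s = z := cj_cj k g s ▸ e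
    exact absurd (e ▸ S.inZ hs (e ▸ S.Y.mem)) S.zF
  · exact S.case1 N T hs s1 v1 vu e (.inl rfl) vz
  replace e : cj (k * g) s = z * v := cj_cj k g s ▸ e
  have hw : z * v ∈ F := e ▸ S.scH N T hs s1 (e ▸ (Commute.refl z).mul_left vz)
  have w1 : z * v ≠ 1 := fun f => s1 (cj_eq_one.1 (e.trans f))
  have e1 : g * s * g⁻¹ = cj k⁻¹ (z * v) := by rw [← e, ← cj_cj, cj_inv]
  rw [e1]
  have kv : Commute k⁻¹ v := Commute.inv_left kv
  generalize k⁻¹ = k at kv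
  obtain ⟨w, rfl⟩ : ∃ w, v = z * w := ⟨_, (S.Y.zz v).symm⟩
  rw [S.Y.zz] at hw w1 ⊢
  obtain ⟨w', hw', w2, ww⟩ := S.f4.ex hw
  obtain ⟨-, k1, -⟩ := S.zs hw w1
  obtain ⟨-, k2, -⟩ := S.zs hw' w2
  have cu : Commute (cj k w) (z * w) := cm_cj kv (S.Y.cen (S.FZ hw) (S.Y.ZJ k1))
  have e2 : z * w * (z * w') = w * w' := by
    rw [(S.Y.cen (S.FZ hw) S.Y.zJ).mul_mul_mul_comm, S.Y.sq, one_mul]
  have w3 : w * w' ≠ 1 := fun f => ww (by rw [← one_mul w', ← S.f4.sq w hw, mul_assoc, f, mul_one])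
  rcases dih (cj_sq (g := k) (S.f4.sq w hw)) (S.Y.Zsq _ k2) (centralizer {z * w}) (mem_cen.2 cu)
    (mem_cen.2 (S.Y.cen k2 (S.Y.ZJ k1))) with ⟨m, -, e⟩ | ⟨v, vd, v1, vv, vu, vz, ⟨⟨m, -, e⟩, -⟩ |
    ⟨m, md, mv, e⟩⟩
  · replace e : cj (m * k) w = z * w' := cj_cj m k w ▸ e
    exact absurd ((F.mul_mem_cancel_right hw').1 (e ▸ S.inZ hw (e ▸ k2))) S.zF
  · exact S.case1 N T hw w1 v1 vu e (.inr ⟨F.mul_mem hw hw', w3⟩)
      (e2 ▸ (mem_cen.1 vd).mul_right vz)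
  replace e : cj (m * k) w = z * w' * v := cj_cj m k w ▸ e
  have ht : z * w' * v ∈ F := e ▸ S.scF N T hw w1 (F.mul_mem hw hw') w3 (e ▸ e2 ▸
    (S.Y.cen k2 (J.mul_mem (S.Y.ZJ k1) (S.Y.ZJ k2))).mul_left ((mem_cen.1 vd).mul_right vz))
  have e3 : cj (m * k) z = z * w * (z * w' * v) := by
    rw [← e, ← cj_eq.2 ((mem_cen.1 md).mul_left kv), ← cj_mul, mul_assoc, S.f4.sq w hw, mul_one]
  have e4 := S.wc S.D.o2 (e3 ▸ Z.mul_mem k1 (S.FZ ht))
  rw [e3, mul_assoc, mul_eq_left, ← S.f4.sq w hw, mul_right_inj] at e4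
  refine S.scF N T hw w1 hw' w2 ?_
  have e5 : z * w * v = w' := by
    rw [← one_mul v, ← S.Y.Zsq _ k2, mul_assoc (z * w'), e4, ← mul_assoc, e2,
      (S.Y.cen (S.FZ hw) (S.Y.ZJ (S.FZ hw'))).eq, mul_assoc, S.f4.sq w hw, mul_one]
  exact e5 ▸ cu.mul_right (Commute.symm vu)⟩

omit N T in
theorem aut [F.Normal] {s : G} (hs : s ∈ F) (s1 : s ≠ 1) (n : ¬ Iso s z) :
    Nonempty (G ⧸ F ≃* MulAut (PSU 6 F4 2)) := by
  have nF : ∀ g, ∀ t ∈ F, cj g t ∈ F := fun g t ht => Normal.conj_mem inferInstance t ht g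
  have mC : ∀ {g}, g ∈ centralizer (F : Set G) ↔ ∀ t ∈ F, Commute g t :=
    ⟨fun h t ht => (h t ht).symm, fun h t ht => (h t ht).symm⟩
  have JC : J ≤ centralizer F := fun x hx => mC.2 fun t ht => (S.Y.cen (S.FZ ht) hx).symm
  let φ := (QuotientGroup.mk' F).comp (centralizer (F : Set G)).subtype
  have wc : ∀ g : G, Commute (g : G ⧸ F) (z : G ⧸ F) → Commute g z := fun g e =>
    cj_eq.1 (S.wc S.D.o2 ((Z.mul_mem_cancel_right (Z.inv_mem S.Y.mem)).1 (S.FZ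
      ((QuotientGroup.eq_one_iff _).1 (mul_inv_eq_one.2 (cj_eq.2 e) :)))))
  have E : Sec J Z z (centralizer F) φ.rangeRestrict (φ.rangeRestrict ⟨z, JC S.Y.zJ⟩) :=
    ⟨φ.rangeRestrict_surjective, _, rfl,
      fun e => S.zF ((QuotientGroup.eq_one_iff z).1 (congrArg Subtype.val e)),
      fun x hx => ⟨1, Z.one_mem, by simpa using JC hx⟩,
      fun c e => S.FZ ((QuotientGroup.eq_one_iff (c : G)).1 (congrArg Subtype.val e)),
      fun c e => wc c (congrArg Subtype.val e)⟩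
  obtain ⟨h, hh, hs', u, hu, nu⟩ := S.sw s hs s1
  obtain ⟨g, hg, h3, n⟩ : ∃ g ∈ centralizer (F : Set G), Commute (cj g z) z ∧ cj g z ≠ z := by
    simp only [Iso, not_forall] at n
    obtain ⟨g, h1, h3, n⟩ := n
    by_cases e : ∀ t ∈ F, Commute g t
    · exact ⟨g, mC.2 e, h3, n⟩
    push Not at e
    obtain ⟨t, ht, nt⟩ := e
    exact ⟨g * h, mC.2 fun _ => S.f4.mul4 (nF g) (nF h) hs s1 h1 hs' ht nt hu nu,
      by rwa [← cj_cj, cj_eq.2 hh], by rwa [← cj_cj, cj_eq.2 hh]⟩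
  obtain ⟨-, c5, ⟨e⟩, hK⟩ := E.app S.toSD S.D
    (fun a ha _ _ az _ m => absurd (S.cK a az (mC.1 ha)) m) (fun l hl => by
      obtain ⟨k, hk, rfl⟩ := S.Y.ρ_surj l
      exact ⟨k, mC.2 fun t ht => S.KZ k hk hl t (S.FZ ht), hk, rfl⟩)
    (fun t ht => (S.ZF t ht).imp (fun e => Subtype.ext ((QuotientGroup.eq_one_iff (t : G)).2 e))
      fun e => Subtype.ext (QuotientGroup.eq.2 (by
        change (t : G)⁻¹ * z ∈ F
        rwa [S.Y.inv_Z ht, (S.Y.cen ht S.Y.zJ).eq]))) (E.niso S.toSD S.D.o2 hg h3 n)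
  have top := (eq_top_iff' (closure (cls (φ.rangeRestrict ⟨z, JC S.Y.zJ⟩)))).2 fun m => by
    obtain ⟨x, hx, f⟩ := c5.fact (self_mem_cls _) m
    obtain ⟨k, hk⟩ := E.surj (x⁻¹ * m)
    have kz := E.cz k (hk ▸ f)
    simpa [hk] using mul_mem hx (hK k kz (S.cK k kz (mC.1 k.2)))
  have e' := (topEquiv.symm.trans (MulEquiv.subgroupCongr top.symm)).trans e
  have eq : φ.range = (centralizer (F : Set G)).map (QuotientGroup.mk' F) := by
    rw [MonoidHom.range_comp, range_subtype]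
  have : φ.range.Normal := eq ▸ Normal.map inferInstance _ (QuotientGroup.mk'_surjective F)
  refine H52.Tr.equiv_aut' φ.range ((eq_bot_iff_forall _).2 ?_) e' ?_
  · rintro ⟨a⟩ ha
    have k : ∀ x ∈ centralizer (F : Set G), cj a x * x⁻¹ ∈ F := fun x hx =>
      (QuotientGroup.eq_one_iff _).1 (mul_inv_eq_one.2 (cj_eq.2 (ha _ ⟨⟨x, hx⟩, rfl⟩).symm) :)
    have aJ := S.inner (wc a (ha _ ⟨⟨z, JC S.Y.zJ⟩, rfl⟩).symm) fun x hx => S.FZ (k x (JC hx))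
    have aZ := (S.Y.large a).1 fun x hx => cj_eq.1 ((S.Y.comm a aJ x hx).resolve_right fun e =>
      S.zF (by simpa [e] using k x (JC hx)))
    refine (QuotientGroup.eq_one_iff a).2 ((S.ZF a aZ).resolve_right fun m => n (cj_eq.2 (wc g ?_)))
    rw [show (z : G ⧸ F) = a from QuotientGroup.eq.2 (by rwa [S.Y.inv_Z S.Y.mem])]
    exact ha _ ⟨⟨g, hg⟩, rfl⟩
  · have : Fact (Nat.Prime 2) := ⟨Nat.prime_two⟩
    rw [S0815.result 2 1 le_rfl (q := 2) rfl F4.card_eq 6 (by decide) (by decide),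
      ← φ.range.index_mul_card, Nat.card_congr e'.toEquiv, eq, index_map, QuotientGroup.ker_mk',
      QuotientGroup.range_mk', index_top, mul_one, sup_eq_left.2 (S.FZ.trans (S.Y.ZJ.trans JC)),
      ← relIndex_mul_index (centralizer_le (Set.singleton_subset_iff.2 hs))]
    refine Nat.mul_le_mul_right _ (le_trans (b := 2 * 3) (by decide) ?_)
    rw [mul_one]
    refine Nat.mul_le_mul ?_ ?_
    · have h1 := relIndex_eq_one.not.2 fun le => nu (mC.1 (le (mem_cen.2 hs')) u hu)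
      have h2 : (centralizer (F : Set G)).relIndex (centralizer {s}) ≠ 0 := index_ne_zero_of_finite
      omega
    · let θ : G ⧸ centralizer ({s} : Set G) → G := Quotient.lift (fun g => cj g s) fun a b h => by
        rw [← mul_inv_cancel_left a b, ← cj_cj, cj_eq.2 (mem_cen.1 (QuotientGroup.leftRel_apply.1 h))]
      refine le_trans ?_ (Finite.card_range_le θ)
      rw [Nat.card_coe_set_eq]
      refine le_trans (by
        rw [Set.ncard_sdiff_singleton_of_mem F.one_mem, ← Nat.card_coe_set_eq, SetLike.coe_sort_coe,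
          S.f4.card]) (Set.ncard_le_ncard (s := (F : Set G) \ {1}) fun t ht => ?_)
      obtain ⟨g, -, e⟩ := S.tr s hs s1 t ht.1 ht.2
      exact ⟨g, e⟩

omit N T in
theorem core : Iso 1 z ∨ Spor.IsoFi23 G ∨
    ∃ _ : F.Normal, Nonempty (G ⧸ F ≃* MulAut (PSU 6 F4 2)) := by
  by_cases N : ∀ s ∈ F, s ≠ 1 → Iso (z * s) z
  swap
  · push Not at N
    obtain ⟨s, hs, s1, n⟩ := N
    exact .inr (.inl (S.fi23 hs s1 n))
  by_cases N' : ∀ s ∈ F, s ≠ 1 → Iso s z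
  · refine .inl (S.hn8 fun t ht t1 t2 => ?_)
    rcases S.ZF t ht with e | e
    · exact N' t e t1
    · exact S.Y.zz t ▸ N _ e (S.Y.zt ht t1 t2).2.1
  push Not at N'
  obtain ⟨s, hs, s1, n⟩ := N'
  have := S.normal N fun t ht t1 g => S.ti8 N ht t1 fun i => n (by
    obtain ⟨h, hh, e⟩ := S.tr t ht t1 s hs s1
    simpa [e, cj_eq.2 hh] using i.conj h)
  exact .inr (.inr ⟨this, S.aut hs s1 n⟩)

end S8

end Cfsg.Agent.H96.Par
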