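import Cfsg.Agent.H96.Build2
import Cfsg.Agent.H96.T24D

/-! Checks for the model of the transpositions of Fi24. -/

set_option autoImplicit false
set_option maxRecDepth 100000
set_option exponentiation.threshold 400000
set_option linter.constructorNameAsVariable false
set_option Elab.async false

namespace Cfsg.Agent.H96

open Cfsg.Agent.H58 Cfsg.Agent.H95

namespace F24T

theorem z12 : Nat.beq (Nat.xor (fixM F24M.nets 306936 19 [12]) 1) pr12 = true := by decide +kernel

theorem s11 : TModel.stepOK F24M.nets 306936 [11, 12] 0 pr12 3 pr11 = true := by decide +kernel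
theorem s1 : TModel.stepOK F24M.nets 306936 [1, 11] 3 pr11 8 pr1 = true := by decide +kernel
theorem s2 : TModel.stepOK F24M.nets 306936 [2, 1] 8 pr1 16 pr2 = true := by decide +kernel
theorem s3 : TModel.stepOK F24M.nets 306936 [3, 2] 16 pr2 34 pr3 = true := by decide +kernel
theorem s4 : TModel.stepOK F24M.nets 306936 [4, 3] 34 pr3 75 pr4 = true := by decide +kernel
theorem s5 : TModel.stepOK F24M.nets 306936 [5, 4] 75 pr4 167 pr5 = true := by decide +kernel
theorem s6 : TModel.stepOK F24M.nets 306936 [6, 5] 167 pr5 347 pr6 = true := by decide +kernel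
theorem s7 : TModel.stepOK F24M.nets 306936 [7, 6] 347 pr6 646 pr7 = true := by decide +kernel
theorem s10 : TModel.stepOK F24M.nets 306936 [10, 7] 646 pr7 1226 pr10 = true := by decide +kernel
theorem s8 : TModel.stepOK F24M.nets 306936 [8, 4] 75 pr4 169 pr8 = true := by decide +kernel
theorem s9 : TModel.stepOK F24M.nets 306936 [9, 8] 169 pr8 360 pr9 = true := by decide +kernel

def hw : List (List ℕ) := [[1], [2], [3], [4], [5], [6], [7], [8], [9], [10]]

theorem cov : Nat.beq (Nat.lor (Nat.lor pr12 1) (bfs F24M.nets hw [0, 1, 2, 3, 4, 7, 5, 8, 3, 6, 2, 4, 9, 1, 7, 3, 0, 5, 2, 7, 4, 8, 3, 1, 5, 6, 7, 2, 4, 0, 5, 9, 3, 1, 8, 4, 7, 2, 3, 5, 6, 0, 9, 7, 2, 8, 1, 4, 5, 3, 0, 4, 2, 6, 7, 3, 5, 4, 5, 7, 6, 9] (Nat.pow 2 3)))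
    (Nat.pred (Nat.pow 2 306936)) = true := by decide +kernel

theorem nc1 : appW F24M.nets ([11] ++ [12]) (Nat.pow 2 1) = Nat.pow 2 0 := by decide +kernel

theorem nc2 : appW F24M.nets ([12] ++ [11]) (Nat.pow 2 3) = Nat.pow 2 0 := by decide +kernel

def w10 : List ℕ := [4, 3, 2, 4, 5, 6, 4, 8, 9, 4, 3, 2, 4, 5, 6, 4, 8, 9, 4, 3, 2, 4, 5, 6, 4, 8, 9, 4, 3, 2, 4, 5, 6, 4, 8, 9, 4, 3, 2, 4, 5, 6, 4, 8, 9, 4, 3, 2, 4, 5, 6, 4, 8, 9, 4, 3, 2, 4, 5, 6, 4, 8, 9, 4, 3, 2, 4, 5, 6, 4, 8, 9, 4, 3, 2, 4, 5, 6, 4, 8, 9, 4, 3, 2, 4, 5, 6, 4, 8, 9]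

theorem e0 : eqsAt F24M.nets 306936 19 [(w10, [])] 0 = 0 := by decide +kernel
theorem e1 : eqsAt F24M.nets 306936 19 [(w10, [])] 1 = 0 := by decide +kernel
theorem e2 : eqsAt F24M.nets 306936 19 [(w10, [])] 2 = 0 := by decide +kernel
theorem e3 : eqsAt F24M.nets 306936 19 [(w10, [])] 3 = 0 := by decide +kernel
theorem e4 : eqsAt F24M.nets 306936 19 [(w10, [])] 4 = 0 := by decide +kernel
theorem e5 : eqsAt F24M.nets 306936 19 [(w10, [])] 5 = 0 := by decide +kernel
theorem e6 : eqsAt F24M.nets 306936 19 [(w10, [])] 6 = 0 := by decide +kernel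
theorem e7 : eqsAt F24M.nets 306936 19 [(w10, [])] 7 = 0 := by decide +kernel
theorem e8 : eqsAt F24M.nets 306936 19 [(w10, [])] 8 = 0 := by decide +kernel
theorem e9 : eqsAt F24M.nets 306936 19 [(w10, [])] 9 = 0 := by decide +kernel
theorem e10 : eqsAt F24M.nets 306936 19 [(w10, [])] 10 = 0 := by decide +kernel
theorem e11 : eqsAt F24M.nets 306936 19 [(w10, [])] 11 = 0 := by decide +kernel
theorem e12 : eqsAt F24M.nets 306936 19 [(w10, [])] 12 = 0 := by decide +kernel
theorem e13 : eqsAt F24M.nets 306936 19 [(w10, [])] 13 = 0 := by decide +kernel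
theorem e14 : eqsAt F24M.nets 306936 19 [(w10, [])] 14 = 0 := by decide +kernel
theorem e15 : eqsAt F24M.nets 306936 19 [(w10, [])] 15 = 0 := by decide +kernel
theorem e16 : eqsAt F24M.nets 306936 19 [(w10, [])] 16 = 0 := by decide +kernel
theorem e17 : eqsAt F24M.nets 306936 19 [(w10, [])] 17 = 0 := by decide +kernel
theorem e18 : eqsAt F24M.nets 306936 19 [(w10, [])] 18 = 0 := by decide +kernel

theorem eall : ∀ t < 19, eqsAt F24M.nets 306936 19 [(w10, [])] t = 0 :=
  (blocks_cons (blocks_cons (blocks_cons (blocks_cons (blocks_cons (blocks_cons (blocks_cons (blocks_cons (blocks_cons (blocks_cons (blocks_cons (blocks_cons (blocks_cons (blocks_cons (blocks_cons (blocks_cons (blocks_cons (blocks_cons (blocks_cons (blocks_nil _) e0) e1) e2) e3) e4) e5) e6) e7) e8) e9) e10) e11) e12) e13) e14) e15) e16) e17) e18)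

end F24T

end Cfsg.Agent.H96
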