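import Cfsg.Agent.H96.Cls
import Cfsg.Agent.H96.T22

/-! Closed sets of transpositions of Fi22 commuting with `a` that look locally like the 45
transpositions commuting with `a, c, d`. -/

set_option autoImplicit false
set_option maxRecDepth 100000
set_option exponentiation.threshold 400000

namespace Cfsg.Agent.H96

open Cfsg.Agent.H58 Cfsg.Agent.H95

namespace F22

def src : List Pt := [([], 9), ([2, 3, 4, 8, 5, 4, 3, 2], 1), ([], 6), ([], 7), ([8, 9, 4, 8, 5, 4], 3)]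

def Os : List ℕ := [nat_lit 0x2000000000000000000000000000000000000000600000000000000000000000000000080000e0000000000000000000000000003000380000000000000000000000100c001c000000000000000000083006000000000000000860400000200000108000010000080000400000002000000100000000000100000120001a00f0,
  nat_lit 0x80000000000000000000000000000000000000000000000402000000000000000000000000000000000000020080104000000000000000000000000000000000002004102400000000000000000000000000000200000000204228000000000000000000000000000000100000002250000000000000000000000000000002000005400000000000000000000000000002000400000000000000000000000000020000200000000000000000080000000000000000000080000000000000004000000000002000000000000000000000000000000000100000120001a00f0,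
  nat_lit 0x400000000140000000000000000000000000000000c000000e00000000000000000000000000000380001c000000000000000000000000000e0007000000000300000000000000038003800000002000000000000c01000000100000000010000000400000000000000000000000000000000000000000000000000100000120001a00f0,
  nat_lit 0x40001040000000000000000000000000000000000000008090042000000000000000000000000000000000004010882200000000000000000000000000000000000010488900000000000000000000000000000000000000114a800000000000000000000000000000000000029000000000000000000000000000000000010000000000000000000000000000000000000000000000000000000000000000000000000000000000000000000000000000000000000000000000000000000001000000000200000002000000400000800100000120001a00f0]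

/-- representatives of the three classes of sets of 126 transpositions -/
def Sm : List ℕ := [nat_lit 0x8000000000000000000000000000000000000000212000000000000000080000000000000000000004252800000000000000000c0000000000000000844b6000000000000000000700000000000404b7c0000000000000000003c000000012dff0000000000000000001ec000005fff8000000000000001da0003ff0000000000001a800fc000000000050070000000010080000000000010000000800001800003c00007c0007c01c0,
  nat_lit 0x28000000000000000000000000000000000c000000188000000000000000000000000000030c00003280000000000000000000000180066001b80000000000000000000006180d807e000000000000000000d98703c00000000000001e660e00000000000f4c6000000003a68001000350008003400400601480803540005df003ff03f0,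
  nat_lit 0x100000000000000000000000000000000000000000088000000000000000000000000000000000000000108480000000000000000000000000000000000001084940000000000000000000000000000080108495800000000000000000000000000848495e00000000000000000000000121295f80000000000000000000252dfc00000000000000255ff000000000000aff8000000002ff00000003f0001003c000806001808003c00007c0007c01c0]

def tree : Tr := (.node [] [[3], [4], [8], [5], [9], [2, 3, 4, 8, 5, 4, 3, 2, 1, 2, 3, 4, 5, 8, 4, 3, 2], [6, 5, 4, 8, 7, 6, 5, 4, 3, 4, 5, 6, 7, 8, 4, 5, 6], [6, 5, 2, 3, 4, 8, 7, 6, 5, 4, 3, 2, 1, 2, 3, 4, 5, 6, 7, 8, 4, 3, 2, 5, 6]]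
  (.alt ([], 3) [1, 0, 2, 3, 7, 4, 1, 5, 2, 6, 4, 7, 1, 0]
  (.node [(([], 0), false)] [[3], [8], [5], [9], [4, 8, 5, 4, 3, 4, 5, 8, 4], [2, 3, 4, 8, 5, 4, 3, 2, 1, 2, 3, 4, 5, 8, 4, 3, 2], [6, 5, 4, 8, 7, 6, 5, 4, 3, 4, 5, 6, 7, 8, 4, 5, 6], [6, 5, 2, 3, 4, 8, 7, 6, 5, 4, 3, 2, 1, 2, 3, 4, 5, 6, 7, 8, 4, 3, 2, 5, 6]]
  (.alt ([], 4) [0, 1, 2, 7, 3, 5, 1, 4, 3, 7]
  (.node [(([], 0), true), (([], 1), false)] [[9], [8, 9, 4, 8, 5, 4, 3, 4, 5, 8, 4, 9, 8], [2, 3, 4, 8, 5, 4, 3, 2, 1, 2, 3, 4, 5, 8, 4, 3, 2], [6, 5, 4, 8, 7, 6, 5, 4, 3, 4, 5, 6, 7, 8, 4, 5, 6], [4, 5, 3, 4, 8, 9, 5, 6, 3, 4, 5, 2, 3, 4, 8, 7, 6, 5, 4, 3, 2, 1, 2, 3, 4, 5, 6, 7, 8, 4, 3, 2, 5, 4, 3, 6, 5, 9, 8, 4, 3, 5, 4, 5, 3, 4, 8, 9, 6, 3, 4, 5, 2, 3, 4, 8, 7, 6, 5, 4, 3, 2, 1, 2, 3, 4, 5, 6, 7, 8, 4, 3, 2, 5, 4, 3, 6, 9, 8, 4, 3, 5, 3, 4]]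
  (.alt ([], 8) [0, 1, 4, 2, 3, 4, 4]
  (.node [(([], 0), true), (([], 1), true), (([], 2), false)] [[2, 3, 4, 8, 5, 4, 3, 2, 1, 2, 3, 4, 5, 8, 4, 3, 2], [6, 5, 4, 8, 7, 6, 5, 4, 3, 4, 5, 6, 7, 8, 4, 5, 6], [6, 5, 4, 8, 3, 4, 5, 2, 3, 4, 8, 6, 5, 4, 3, 2, 1, 2, 3, 4, 5, 6, 8, 4, 3, 2, 5, 4, 3, 8, 4, 5, 6]]
  (.alt ([], 9) [0, 1, 2]
  (.node [(([], 0), true), (([], 1), false), (([], 2), false), (([], 3), true), (([1], 2), false)] []
  (.alt ([8, 9, 6, 5, 2, 3, 4, 8, 7, 6, 5, 4, 3, 2], 1) []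
  (.leaf 0 [1, 0, 2, 4, 1, 3, 2, 3, 1, 4, 0, 1])
  (.alt ([4, 5, 3, 4, 8, 9, 6, 5, 2, 3, 4, 8, 7, 6, 5, 4, 3, 2], 1) []
  (.leaf 1 [1, 0, 2, 4, 1, 3, 2, 3, 1, 4, 0, 1])
  (.alt ([8, 9, 4, 5, 6, 3, 4, 5, 2, 3, 4, 8, 7, 6, 5, 4, 3, 2], 1) []
  (.leaf 2 [1, 0, 2, 4, 1, 3, 2, 3, 1, 4, 0, 1])
  (.alt ([8, 9, 4, 8, 6, 3, 4, 5, 2, 3, 4, 8, 7, 6, 5, 4, 3, 2], 1) []
  (.leaf 0 [1, 0, 2, 4, 1, 3, 2, 3, 1, 4, 0, 1])
  (.alt ([8, 9, 4, 8, 5, 6, 4, 5, 2, 3, 4, 8, 7, 6, 5, 4, 3, 2], 1) []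
  (.leaf 2 [1, 0, 2, 4, 1, 3, 2, 3, 1, 4, 0, 1])
  (.alt ([4, 5, 3, 4, 8, 9, 4, 5, 6, 3, 4, 5, 2, 3, 4, 8, 7, 6, 5, 4, 3, 2], 1) []
  (.leaf 3 [1, 0, 2, 4, 1, 3, 2, 3, 1, 4, 0, 1])
  (.alt ([4, 5, 3, 4, 8, 9, 4, 8, 6, 3, 4, 5, 2, 3, 4, 8, 7, 6, 5, 4, 3, 2], 1) []
  (.leaf 3 [1, 0, 2, 4, 1, 3, 2, 3, 1, 4, 0, 1])
  (.alt ([4, 5, 3, 4, 8, 9, 4, 8, 5, 6, 4, 5, 2, 3, 4, 8, 7, 6, 5, 4, 3, 2], 1) []
  (.leaf 1 [1, 0, 2, 4, 1, 3, 2, 3, 1, 4, 0, 1])
  .stop)))))))))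
  .stop))
  (.alt ([], 5) [4, 4]
  (.node [(([], 0), true), (([], 1), true), (([], 2), false)] []
  .stop)
  .stop)))
  .stop))
  .stop))

noncomputable def Em : ℕ := K22.perp ([], 1)
noncomputable def Um : ℕ := Nat.land (K22.perp ([], 7)) Em
noncomputable def Am : ℕ := Nat.land (Nat.land Em (K22.perp ([], 3))) (K22.perp ([], 4))

theorem c_tree : K22.chk src [([], 7), ([], 1)] Um Os tree [] [] 0 = true := by decide +kernel
theorem c_src : K22.allIn src Am = true := by decide +kernel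
theorem c_A : K22.cntIs 12 45 Am = true := by decide +kernel
theorem c_Os : Os.all (K22.cntIs 12 45) = true := by decide +kernel
def gw : List (List ℕ) := [[3], [4], [5], [6], [7], [8], [9], [2, 3, 4, 8, 5, 4, 3, 2, 1, 2, 3, 4, 5, 8, 4, 3, 2]]
theorem c_fix : K22.fixOK gw [([], 1)] = true := by decide +kernel
theorem c_tr : Nat.beq (dif Em (bfs Fi22M.nets gw [3, 2, 4, 7, 1, 6, 5, 3, 0, 1, 6, 2, 7, 3, 0, 4, 1, 5, 7, 6, 2, 3, 7, 2, 3, 6] (K22.sing ([], 7)))) 0 = true := by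
  decide +kernel

def g0 : List Pt := [([], 3), ([], 4), ([], 8), ([], 9), ([8, 9, 6, 5, 2, 3, 4, 8, 7, 6, 5, 4, 3, 2], 1)]
def b0 : List (Pt × List ℕ × List ℕ) := [(([], 6), [0, 5, 2, 3, 1, 2, 4, 5, 1, 3, 2, 5, 2, 1, 3, 4, 5, 2, 3, 2], [1, 6, 0, 3, 4, 2, 3, 5, 6, 2, 4, 3, 6, 0])]
def w0 : ℕ := nat_lit 0x0
theorem i0 : K22.inOK g0 (Os.getD 0 0) = true := by decide +kernel
theorem p0 : K22.badOK (([], 7) :: g0) (dif (K22.perp ([], 7)) (Os.getD 0 0)) b0 = true := by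
  decide +kernel
theorem q0 : K22.covOK ([], 7) ([], 3) Em w0 (K22.orb (([], 7) :: g0) [0, 2, 5, 1, 2, 3, 1, 4, 2, 5, 3] (K22.sing ([6], 5))) (([], 7) :: g0) b0 = true := by
  decide +kernel
theorem r0 : K22.cntIs 12 13 (Nat.land (K22.perp ([], 3)) (Nat.lor (Nat.lor (K22.sing ([], 7)) (Os.getD 0 0)) w0)) = true := by
  decide +kernel
theorem s0 : Nat.beq (dif (K22.img [6, 7] (Sm.getD 1 0)) (K22.orb (([6], 5) :: ([], 7) :: g0) [1, 3, 6, 0, 2, 4, 3, 5, 6, 4, 0, 2, 6, 5] (K22.sing ([6], 5)))) 0 = true := by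
  decide +kernel
theorem t0 : Nat.beq (dif (dif Em (K22.orb (([6], 5) :: ([], 7) :: g0) [0, 1, 3, 6, 0] (dif (K22.perp ([], 7)) (Os.getD 0 0)))) (K22.img [6, 7] (Sm.getD 1 0))) 0 = true := by
  decide +kernel
theorem u0 : K22.fixOK [[6, 7]] [([], 1)] = true := by decide +kernel

def g1 : List Pt := [([], 3), ([], 4), ([], 8), ([], 9), ([4, 5, 3, 4, 8, 9, 6, 5, 2, 3, 4, 8, 7, 6, 5, 4, 3, 2], 1)]
def b1 : List (Pt × List ℕ × List ℕ) := [(([], 6), [0, 5, 2, 3, 1, 2, 4, 5, 1, 3, 2, 5, 2, 1, 3, 4, 5, 2, 3, 2], [1, 6, 0, 3, 4, 2, 3, 5, 6, 2, 4, 3, 6, 0])]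
def w1 : ℕ := nat_lit 0x0
theorem i1 : K22.inOK g1 (Os.getD 1 0) = true := by decide +kernel
theorem p1 : K22.badOK (([], 7) :: g1) (dif (K22.perp ([], 7)) (Os.getD 1 0)) b1 = true := by
  decide +kernel
theorem q1 : K22.covOK ([], 7) ([], 3) Em w1 (K22.orb (([], 7) :: g1) [0, 4, 3, 2, 5, 1, 2, 3, 1, 4, 2, 5, 3] (K22.sing ([5, 4, 8, 6, 5, 4], 3))) (([], 7) :: g1) b1 = true := by
  decide +kernel
theorem r1 : K22.cntIs 12 13 (Nat.land (K22.perp ([], 3)) (Nat.lor (Nat.lor (K22.sing ([], 7)) (Os.getD 1 0)) w1)) = true := by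
  decide +kernel
theorem s1 : Nat.beq (dif (K22.img [2, 3, 4, 8, 5, 4, 3, 2, 1, 2, 3, 4, 5, 8, 4, 3, 2, 9, 8, 4, 3] (Sm.getD 2 0)) (K22.orb (([5, 4, 8, 6, 5, 4], 3) :: ([], 7) :: g1) [1, 5, 0, 4, 3, 6, 2, 3, 4, 5, 2, 3, 6, 4, 0, 3] (K22.sing ([5, 4, 8, 6, 5, 4], 3)))) 0 = true := by
  decide +kernel
theorem t1 : Nat.beq (dif (dif Em (K22.orb (([5, 4, 8, 6, 5, 4], 3) :: ([], 7) :: g1) [0, 1, 5, 4, 0, 3] (dif (K22.perp ([], 7)) (Os.getD 1 0)))) (K22.img [2, 3, 4, 8, 5, 4, 3, 2, 1, 2, 3, 4, 5, 8, 4, 3, 2, 9, 8, 4, 3] (Sm.getD 2 0))) 0 = true := by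
  decide +kernel
theorem u1 : K22.fixOK [[2, 3, 4, 8, 5, 4, 3, 2, 1, 2, 3, 4, 5, 8, 4, 3, 2, 9, 8, 4, 3]] [([], 1)] = true := by decide +kernel

def g2 : List Pt := [([], 3), ([], 4), ([], 8), ([], 9), ([8, 9, 4, 5, 6, 3, 4, 5, 2, 3, 4, 8, 7, 6, 5, 4, 3, 2], 1)]
def b2 : List (Pt × List ℕ × List ℕ) := [(([6], 5), [0, 2, 1, 3, 5, 2, 4, 3, 2, 4, 5, 1, 3, 2, 4, 5, 3], [1, 3, 0, 2, 4, 6, 3, 5, 4, 0]), (([4, 5, 3, 4, 8, 9, 4, 5, 2, 3, 4, 8, 6, 5, 4, 3, 2], 1), [0, 2, 3, 5, 4, 3, 2, 1, 4, 2, 5], [1, 3, 4, 6, 5, 0])]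
def w2 : ℕ := nat_lit 0x8000008000000000000000000000
theorem i2 : K22.inOK g2 (Os.getD 2 0) = true := by decide +kernel
theorem p2 : K22.badOK (([], 7) :: g2) (dif (K22.perp ([], 7)) (Os.getD 2 0)) b2 = true := by
  decide +kernel
theorem q2 : K22.covOK ([], 7) ([], 3) Em w2 0 (([], 7) :: g2) b2 = true := by
  decide +kernel
theorem r2 : K22.cntIs 12 15 (Nat.land (K22.perp ([], 3)) (Nat.lor (Nat.lor (K22.sing ([], 7)) (Os.getD 2 0)) w2)) = true := by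
  decide +kernel

def g3 : List Pt := [([], 3), ([], 4), ([], 8), ([], 9), ([4, 5, 3, 4, 8, 9, 4, 5, 6, 3, 4, 5, 2, 3, 4, 8, 7, 6, 5, 4, 3, 2], 1)]
def b3 : List (Pt × List ℕ × List ℕ) := [(([], 6), [0, 5, 2, 3, 1, 2, 4, 5, 1, 3, 2, 5, 2, 1, 3, 4, 5, 2, 3, 2], [1, 6, 0, 3, 4, 2, 3, 5, 6, 2, 4, 3, 6, 0])]
def w3 : ℕ := nat_lit 0x0
theorem i3 : K22.inOK g3 (Os.getD 3 0) = true := by decide +kernel
theorem p3 : K22.badOK (([], 7) :: g3) (dif (K22.perp ([], 7)) (Os.getD 3 0)) b3 = true := by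
  decide +kernel
theorem q3 : K22.covOK ([], 7) ([], 3) Em w3 (K22.orb (([], 7) :: g3) [0, 4, 5, 3, 2, 1, 3, 5, 2, 4, 5, 1, 3, 4] (K22.sing ([5, 4, 8, 6, 5, 4], 3))) (([], 7) :: g3) b3 = true := by
  decide +kernel
theorem r3 : K22.cntIs 12 13 (Nat.land (K22.perp ([], 3)) (Nat.lor (Nat.lor (K22.sing ([], 7)) (Os.getD 3 0)) w3)) = true := by
  decide +kernel
theorem s3 : Nat.beq (dif (K22.img [5, 4, 8, 9, 2, 3, 4, 8, 5, 4, 3, 2, 1, 2, 3, 4, 5, 8, 4, 3, 2] (Sm.getD 0 0)) (K22.orb (([5, 4, 8, 6, 5, 4], 3) :: ([], 7) :: g3) [1, 5, 6, 4, 3, 0, 6, 2, 4, 3, 0, 1, 5, 2] (K22.sing ([5, 4, 8, 6, 5, 4], 3)))) 0 = true := by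
  decide +kernel
theorem t3 : Nat.beq (dif (dif Em (K22.orb (([5, 4, 8, 6, 5, 4], 3) :: ([], 7) :: g3) [0, 1, 5, 4, 6, 0] (dif (K22.perp ([], 7)) (Os.getD 3 0)))) (K22.img [5, 4, 8, 9, 2, 3, 4, 8, 5, 4, 3, 2, 1, 2, 3, 4, 5, 8, 4, 3, 2] (Sm.getD 0 0))) 0 = true := by
  decide +kernel
theorem u3 : K22.fixOK [[5, 4, 8, 9, 2, 3, 4, 8, 5, 4, 3, 2, 1, 2, 3, 4, 5, 8, 4, 3, 2]] [([], 1)] = true := by decide +kernel

end F22

open F22

/-- the 45 transpositions commuting with `a, c, d` -/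
def T21 : Set Spor.Fi22 := nb (nb D22 a22) (T22.el 3) ∩ nb (nb D22 a22) (T22.el 4)

theorem F22.st_Em : T22.st Em = nb D22 a22 := st_nb22

theorem F22.st_Am : T22.st Am = T21 := by
  rw [Am, T22.st_land, T22.st_land, st_Em, ← T22_dat, T22.st_perp (by decide),
    T22.st_perp (by decide), T22.val_letter, T22.val_letter, T21, nb_nb, nb_nb]
  ext y; simp only [Set.mem_inter_iff]; tauto

theorem ncard_T21 : T21.ncard = 45 := st_Am ▸ T22.ncard_st c_A

theorem cl_nb22 : Cl (nb D22 a22) := T22.cl.nb tt22 _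

theorem tt_nb22 : IsThreeTranspositionSet (nb D22 a22) := TT.subset tt22 (nb_subset _ _)

theorem cl_T21 : Cl T21 := (cl_nb22.nb tt_nb22 _).inter (cl_nb22.nb tt_nb22 _)

theorem trans_nb22 {x : Spor.Fi22} (hx : x ∈ nb D22 a22) :
    ∃ g, Commute g a22 ∧ cj g x = T22.val ([], 7) := by
  obtain ⟨g, hg, e⟩ := T22.exists_cj_of_bfs c_fix (by decide) c_tr (st_Em ▸ hx)
  exact ⟨g, T22_val_a ▸ hg _ List.mem_cons_self, e⟩

theorem F22.stage {S : Set Spor.Fi22} (hE' : S ⊆ nb D22 a22) (hS : Good T21 S)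
    (hx : T22.val ([], 7) ∈ S) {O : ℕ} (hO' : O ∈ Os) (hO : nb S (T22.val ([], 7)) = T22.st O) :
    ∃ g, Commute g a22 ∧ ∃ k < 3, cj g '' S = T22.st (Sm.getD k 0) := by
  have hSD : S ⊆ D22 := hE'.trans (nb_subset _ _)
  have hE : S ⊆ T22.st Em := st_Em ▸ hE'
  have hn : ∀ gs, K22.inOK gs O = true → ([], 3) ∈ gs → (nb S (T22.val ([], 3))).ncard = 45 :=
    fun gs h1 h2 => by
      rw [hS.ncard (T22.gens_mem hSD (by decide) hx hO h1 _ (List.mem_cons_of_mem _ h2)).2, ncard_T21]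
  have fin : ∀ w, K22.okW w = true → K22.fixOK [w] [([], 1)] = true → ∀ k < 3,
      S = T22.st (K22.img w (Sm.getD k 0)) →
      ∃ g, Commute g a22 ∧ ∃ k < 3, cj g '' S = T22.st (Sm.getD k 0) := fun w h1 h2 k hk e =>
    ⟨(wv T22.el w)⁻¹, (T22_val_a ▸ T22.commute_of_fixOK h2 w List.mem_cons_self _
      List.mem_cons_self :).inv_left, k, hk, image_cj_inv (e.trans (T22.st_img h1 _))⟩
  simp only [Os, List.mem_cons, List.not_mem_nil, or_false] at hO'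
  rcases hO' with rfl | rfl | rfl | rfl
  · exact fin _ (by decide) u0 1 (by decide) (T22.eq_of_stage hS.cl hSD (by decide) hx hO i0 (y := ([], 3)) (by decide) hE (hn _ i0 (by decide))
      (by decide) p0 q0 r0 (by decide) s0 t0)
  · exact fin _ (by decide) u1 2 (by decide) (T22.eq_of_stage hS.cl hSD (by decide) hx hO i1 (y := ([], 3)) (by decide) hE (hn _ i1 (by decide))
      (by decide) p1 q1 r1 (by decide) s1 t1)
  · exact (T22.false_of_stage hS.cl hSD (by decide) hx hO i2 (y := ([], 3)) (by decide) hE (hn _ i2 (by decide))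
      p2 q2 r2 (by decide)).elim
  · exact fin _ (by decide) u3 0 (by decide) (T22.eq_of_stage hS.cl hSD (by decide) hx hO i3 (y := ([], 3)) (by decide) hE (hn _ i3 (by decide))
      (by decide) p3 q3 r3 (by decide) s3 t3)

theorem classify22 {S : Set Spor.Fi22} (hE : S ⊆ nb D22 a22) (hS : Good T21 S) :
    ∃ g, Commute g a22 ∧ ∃ k < 3, cj g '' S = T22.st (Sm.getD k 0) := by
  have := Fi22P.finite
  have hcj : ∀ g, Commute g a22 → ∀ S : Set Spor.Fi22, S ⊆ nb D22 a22 → cj g '' S ⊆ nb D22 a22 := by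
    rintro g hg S h _ ⟨x, hx, rfl⟩; exact cj_mem_nb conj22 hg (h hx)
  obtain ⟨x, hx⟩ := hS.ne
  obtain ⟨g1, hg1, e1⟩ := trans_nb22 (hE hx)
  have h1 := hcj g1 hg1 S hE
  have hx1 : T22.val ([], 7) ∈ cj g1 '' S := ⟨x, hx, e1⟩
  obtain ⟨g2, hg2, O, hO, e2⟩ := T22.exists_norm (A := T21) (st_Am ▸ T22.st_subset _) cl_T21
    (st_Am ▸ T22.allIn_sound c_src)
    (fun O hO => by rw [ncard_T21]; exact T22.ncard_st (List.all_eq_true.1 c_Os O hO))
    (fun y hy => by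
      rw [Um, T22.st_land, st_Em, ← T22_dat, T22.st_perp (by decide), ← T22_val_a]
      exact ⟨hy _ List.mem_cons_self, hy _ (List.mem_cons_of_mem _ List.mem_cons_self)⟩)
    rfl c_tree (hS.cj g1) (h1.trans (nb_subset _ _)) hx1 (fun y hy p hp => by
      rw [List.mem_singleton.1 hp, T22_val_a]; exact h1 hy)
  have hg2' : Commute g2 a22 := T22_val_a ▸ hg2 _ (List.mem_cons_of_mem _ List.mem_cons_self)
  obtain ⟨g3, hg3, k, hk, e3⟩ := F22.stage (hcj g2 hg2' _ h1) ((hS.cj g1).cj g2)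
    ⟨_, hx1, cj_of_commute (hg2 _ List.mem_cons_self)⟩ hO e2
  exact ⟨g3 * (g2 * g1), hg3.mul_left (hg2'.mul_left hg1), k, hk, by
    rw [← image_cj_cj, ← image_cj_cj, e3]⟩

end Cfsg.Agent.H96
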