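import Cfsg.Agent.H96.Loc2
import Cfsg.Agent.H96.Cl22
import Cfsg.Agent.H96.Cert.T22A
import Cfsg.Agent.H96.Cert.T22B
import Cfsg.Agent.H96.Cert.T22C

/-! A group that looks locally like Fi22 satisfies the relations of Fi22. -/

set_option autoImplicit false
set_option maxRecDepth 100000
set_option exponentiation.threshold 400000
set_option linter.constructorNameAsVariable false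

namespace Cfsg.Agent.H96

open Cfsg.Agent.H58 Cfsg.Agent.H95

namespace F22

def edges : List (ℕ × ℕ) := [(1, 2), (2, 3), (2, 10), (2, 11), (3, 4), (4, 5), (4, 8), (4, 10), (5, 6), (6, 7), (8, 9), (9, 10), (9, 11)]

def ivB : ℕ := 823350366879766814784

def xr : List (List ℕ) := [[10, 2, 1, 3, 11, 2, 11, 3, 1, 2],
  dW ([0, 1, 7, 6], 5) ++ dW ([8, 6, 7, 5], 1),
  dW ([2, 5, 6, 1, 5, 3, 2, 1], 0) ++ dW ([8, 6, 1, 5, 4, 3, 2, 1], 0),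
  dW ([], 8) ++ dW ([6, 5, 1, 2, 0, 1, 5, 6, 3, 2, 1, 5, 4, 3, 2, 1], 0)]

def relB : List (List ℕ) := coxR 11 edges ++ xr

def RA : List ℕ := [4, 3, 2, 4, 5, 6, 4, 8, 9, 4, 3, 2, 4, 5, 6, 4, 8, 9, 4, 3, 2, 4, 5, 6, 4, 8, 9, 4, 3, 2, 4, 5, 6, 4, 8, 9, 4, 3, 2, 4, 5, 6, 4, 8, 9, 4, 3, 2, 4, 5, 6, 4, 8, 9, 4, 3, 2, 4, 5, 6, 4, 8, 9, 4, 3, 2, 4, 5, 6, 4, 8, 9, 4, 3, 2, 4, 5, 6, 4, 8, 9, 4, 3, 2, 4, 5, 6, 4, 8, 9]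
def wsA : List (List ℕ) := [[4, 3, 2, 4, 5, 6, 4, 8, 9, 4, 3, 2, 4, 5, 6, 4, 8, 9, 4, 3, 2, 4, 5, 6, 4, 8, 9, 4, 3, 2, 4, 5, 6, 4, 8, 9, 4, 3, 2, 4, 5, 6, 4, 8, 9, 4, 3, 2, 4, 5, 6, 4, 8, 9, 4, 3, 2, 4, 5, 6, 4, 8, 9, 4, 3, 2, 4, 5, 6, 4, 8, 9, 4, 3, 2, 4, 5, 6, 4, 8, 9, 4, 3, 2, 4, 5, 6, 4, 8, 9], [9, 8, 4, 6, 5, 4, 2, 3, 4, 9, 8, 4, 6, 5, 4, 2, 3, 4, 9, 8, 4, 6, 5, 4, 2, 3, 4, 9, 8, 4, 6, 5, 4, 2, 3, 4, 9, 8, 4, 6, 5, 4, 2, 3, 4, 9, 8, 4, 6, 5, 4, 2, 3, 4, 9, 8, 4, 6, 5, 4, 2, 3, 4, 9, 8, 4, 6, 5, 4, 2, 3, 4, 9, 8, 4, 6, 5, 4, 2, 3, 4, 9, 8, 4, 6, 5, 4, 2, 3, 4], [2, 1, 4, 3, 2, 4, 5, 6, 4, 8, 9, 4, 3, 2, 4, 5, 6, 4, 8, 9, 4, 3, 2, 4, 5, 6, 4, 8, 9, 4, 3, 2, 4, 5, 6, 4, 8, 9, 4, 3, 2, 4, 5, 6, 4, 8, 9, 4, 3, 2, 4, 5, 6, 4, 8, 9, 4, 3,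 2, 4, 5, 6, 4, 8, 9, 4, 3, 2, 4, 5, 6, 4, 8, 9, 4, 3, 2, 4, 5, 6, 4, 8, 9, 4, 3, 2, 4, 5, 6, 4, 8, 9, 1, 2], [2, 1, 9, 8, 4, 6, 5, 4, 2, 3, 4, 9, 8, 4, 6, 5, 4, 2, 3, 4, 9, 8, 4, 6, 5, 4, 2, 3, 4, 9, 8, 4, 6, 5, 4, 2, 3, 4, 9, 8, 4, 6, 5, 4, 2, 3, 4, 9, 8, 4, 6, 5, 4, 2, 3, 4, 9, 8, 4, 6, 5, 4, 2, 3, 4, 9, 8, 4, 6, 5, 4, 2, 3, 4, 9, 8, 4, 6, 5, 4, 2, 3, 4, 9, 8, 4, 6, 5, 4, 2, 3, 4, 1, 2], [2, 1, 3, 2, 4, 3, 2, 4, 5, 6, 4, 8, 9, 4, 3, 2, 4, 5, 6, 4, 8, 9, 4, 3, 2, 4, 5, 6, 4, 8, 9, 4, 3, 2, 4, 5, 6, 4, 8, 9, 4, 3, 2, 4, 5, 6, 4, 8, 9, 4, 3, 2, 4, 5, 6, 4, 8, 9, 4, 3, 2, 4, 5, 6, 4, 8, 9, 4, 3, 2, 4, 5, 6, 4, 8, 9, 4, 3, 2, 4, 5, 6, 4, 8, 9, 4, 3, 2, 4, 5, 6, 4, 8, 9, 2, 3, 1, 2], [2, 1, 3, 2, 9, 8, 4, 6, 5, 4, 2, 3, 4, 9, 8, 4, 6, 5, 4,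 2, 3, 4, 9, 8, 4, 6, 5, 4, 2, 3, 4, 9, 8, 4, 6, 5, 4, 2, 3, 4, 9, 8, 4, 6, 5, 4, 2, 3, 4, 9, 8, 4, 6, 5, 4, 2, 3, 4, 9, 8, 4, 6, 5, 4, 2, 3, 4, 9, 8, 4, 6, 5, 4, 2, 3, 4, 9, 8, 4, 6, 5, 4, 2, 3, 4, 9, 8, 4, 6, 5, 4, 2, 3, 4, 2, 3, 1, 2], [2, 1, 3, 2, 4, 3, 4, 3, 2, 4, 5, 6, 4, 8, 9, 4, 3, 2, 4, 5, 6, 4, 8, 9, 4, 3, 2, 4, 5, 6, 4, 8, 9, 4, 3, 2, 4, 5, 6, 4, 8, 9, 4, 3, 2, 4, 5, 6, 4, 8, 9, 4, 3, 2, 4, 5, 6, 4, 8, 9, 4, 3, 2, 4, 5, 6, 4, 8, 9, 4, 3, 2, 4, 5, 6, 4, 8, 9, 4, 3, 2, 4, 5, 6, 4, 8, 9, 4, 3, 2, 4, 5, 6, 4, 8, 9, 3, 4, 2, 3, 1, 2], [2, 1, 3, 2, 4, 3, 9, 8, 4, 6, 5, 4, 2, 3, 4, 9, 8, 4, 6, 5, 4, 2, 3, 4, 9, 8, 4, 6, 5, 4, 2, 3, 4, 9, 8, 4, 6, 5, 4, 2, 3, 4, 9, 8, 4, 6, 5, 4, 2, 3, 4, 9, 8, 4, 6, 5, 4, 2, 3, 4, 9, 8, 4, 6, 5, 4,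 2, 3, 4, 9, 8, 4, 6, 5, 4, 2, 3, 4, 9, 8, 4, 6, 5, 4, 2, 3, 4, 9, 8, 4, 6, 5, 4, 2, 3, 4, 3, 4, 2, 3, 1, 2], [2, 1, 3, 2, 4, 3, 5, 4, 4, 3, 2, 4, 5, 6, 4, 8, 9, 4, 3, 2, 4, 5, 6, 4, 8, 9, 4, 3, 2, 4, 5, 6, 4, 8, 9, 4, 3, 2, 4, 5, 6, 4, 8, 9, 4, 3, 2, 4, 5, 6, 4, 8, 9, 4, 3, 2, 4, 5, 6, 4, 8, 9, 4, 3, 2, 4, 5, 6, 4, 8, 9, 4, 3, 2, 4, 5, 6, 4, 8, 9, 4, 3, 2, 4, 5, 6, 4, 8, 9, 4, 3, 2, 4, 5, 6, 4, 8, 9, 4, 5, 3, 4, 2, 3, 1, 2], [2, 1, 3, 2, 4, 3, 5, 4, 9, 8, 4, 6, 5, 4, 2, 3, 4, 9, 8, 4, 6, 5, 4, 2, 3, 4, 9, 8, 4, 6, 5, 4, 2, 3, 4, 9, 8, 4, 6, 5, 4, 2, 3, 4, 9, 8, 4, 6, 5, 4, 2, 3, 4, 9, 8, 4, 6, 5, 4, 2, 3, 4, 9, 8, 4, 6, 5, 4, 2, 3, 4, 9, 8, 4, 6, 5, 4, 2, 3, 4, 9, 8, 4, 6, 5, 4, 2, 3, 4, 9, 8, 4, 6, 5, 4, 2, 3, 4, 4, 5, 3, 4, 2, 3, 1,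 2], [2, 1, 3, 2, 4, 3, 5, 4, 6, 5, 4, 3, 2, 4, 5, 6, 4, 8, 9, 4, 3, 2, 4, 5, 6, 4, 8, 9, 4, 3, 2, 4, 5, 6, 4, 8, 9, 4, 3, 2, 4, 5, 6, 4, 8, 9, 4, 3, 2, 4, 5, 6, 4, 8, 9, 4, 3, 2, 4, 5, 6, 4, 8, 9, 4, 3, 2, 4, 5, 6, 4, 8, 9, 4, 3, 2, 4, 5, 6, 4, 8, 9, 4, 3, 2, 4, 5, 6, 4, 8, 9, 4, 3, 2, 4, 5, 6, 4, 8, 9, 5, 6, 4, 5, 3, 4, 2, 3, 1, 2], [2, 1, 3, 2, 4, 3, 5, 4, 6, 5, 9, 8, 4, 6, 5, 4, 2, 3, 4, 9, 8, 4, 6, 5, 4, 2, 3, 4, 9, 8, 4, 6, 5, 4, 2, 3, 4, 9, 8, 4, 6, 5, 4, 2, 3, 4, 9, 8, 4, 6, 5, 4, 2, 3, 4, 9, 8, 4, 6, 5, 4, 2, 3, 4, 9, 8, 4, 6, 5, 4, 2, 3, 4, 9, 8, 4, 6, 5, 4, 2, 3, 4, 9, 8, 4, 6, 5, 4, 2, 3, 4, 9, 8, 4, 6, 5, 4, 2, 3, 4, 5, 6, 4, 5, 3, 4, 2, 3, 1, 2], [2, 1, 3, 2, 4, 3, 5, 4, 6, 5, 7, 6, 4, 3, 2, 4, 5, 6, 4, 8, 9, 4, 3, 2, 4, 5,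 6, 4, 8, 9, 4, 3, 2, 4, 5, 6, 4, 8, 9, 4, 3, 2, 4, 5, 6, 4, 8, 9, 4, 3, 2, 4, 5, 6, 4, 8, 9, 4, 3, 2, 4, 5, 6, 4, 8, 9, 4, 3, 2, 4, 5, 6, 4, 8, 9, 4, 3, 2, 4, 5, 6, 4, 8, 9, 4, 3, 2, 4, 5, 6, 4, 8, 9, 4, 3, 2, 4, 5, 6, 4, 8, 9, 6, 7, 5, 6, 4, 5, 3, 4, 2, 3, 1, 2], [2, 1, 3, 2, 4, 3, 5, 4, 6, 5, 7, 6, 9, 8, 4, 6, 5, 4, 2, 3, 4, 9, 8, 4, 6, 5, 4, 2, 3, 4, 9, 8, 4, 6, 5, 4, 2, 3, 4, 9, 8, 4, 6, 5, 4, 2, 3, 4, 9, 8, 4, 6, 5, 4, 2, 3, 4, 9, 8, 4, 6, 5, 4, 2, 3, 4, 9, 8, 4, 6, 5, 4, 2, 3, 4, 9, 8, 4, 6, 5, 4, 2, 3, 4, 9, 8, 4, 6, 5, 4, 2, 3, 4, 9, 8, 4, 6, 5, 4, 2, 3, 4, 6, 7, 5, 6, 4, 5, 3, 4, 2, 3, 1, 2], [2, 1, 3, 2, 4, 3, 8, 4, 4, 3, 2, 4, 5, 6, 4, 8, 9, 4, 3, 2, 4, 5, 6, 4, 8, 9, 4, 3, 2, 4, 5, 6, 4, 8, 9, 4, 3, 2, 4, 5, 6, 4, 8, 9, 4,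 3, 2, 4, 5, 6, 4, 8, 9, 4, 3, 2, 4, 5, 6, 4, 8, 9, 4, 3, 2, 4, 5, 6, 4, 8, 9, 4, 3, 2, 4, 5, 6, 4, 8, 9, 4, 3, 2, 4, 5, 6, 4, 8, 9, 4, 3, 2, 4, 5, 6, 4, 8, 9, 4, 8, 3, 4, 2, 3, 1, 2], [2, 1, 3, 2, 4, 3, 8, 4, 9, 8, 4, 6, 5, 4, 2, 3, 4, 9, 8, 4, 6, 5, 4, 2, 3, 4, 9, 8, 4, 6, 5, 4, 2, 3, 4, 9, 8, 4, 6, 5, 4, 2, 3, 4, 9, 8, 4, 6, 5, 4, 2, 3, 4, 9, 8, 4, 6, 5, 4, 2, 3, 4, 9, 8, 4, 6, 5, 4, 2, 3, 4, 9, 8, 4, 6, 5, 4, 2, 3, 4, 9, 8, 4, 6, 5, 4, 2, 3, 4, 9, 8, 4, 6, 5, 4, 2, 3, 4, 4, 8, 3, 4, 2, 3, 1, 2], [2, 1, 3, 2, 4, 3, 8, 4, 9, 8, 4, 3, 2, 4, 5, 6, 4, 8, 9, 4, 3, 2, 4, 5, 6, 4, 8, 9, 4, 3, 2, 4, 5, 6, 4, 8, 9, 4, 3, 2, 4, 5, 6, 4, 8, 9, 4, 3, 2, 4, 5, 6, 4, 8, 9, 4, 3, 2, 4, 5, 6, 4, 8, 9, 4, 3, 2, 4, 5, 6, 4, 8, 9, 4, 3, 2, 4, 5, 6, 4,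 8, 9, 4, 3, 2, 4, 5, 6, 4, 8, 9, 4, 3, 2, 4, 5, 6, 4, 8, 9, 8, 9, 4, 8, 3, 4, 2, 3, 1, 2], [2, 1, 3, 2, 4, 3, 8, 4, 9, 8, 9, 8, 4, 6, 5, 4, 2, 3, 4, 9, 8, 4, 6, 5, 4, 2, 3, 4, 9, 8, 4, 6, 5, 4, 2, 3, 4, 9, 8, 4, 6, 5, 4, 2, 3, 4, 9, 8, 4, 6, 5, 4, 2, 3, 4, 9, 8, 4, 6, 5, 4, 2, 3, 4, 9, 8, 4, 6, 5, 4, 2, 3, 4, 9, 8, 4, 6, 5, 4, 2, 3, 4, 9, 8, 4, 6, 5, 4, 2, 3, 4, 9, 8, 4, 6, 5, 4, 2, 3, 4, 8, 9, 4, 8, 3, 4, 2, 3, 1, 2], [0], [0], [0], [0], [0], [0], [0], [0], [0], [0], [0], [0], [0], [0], [0], [0], [0], [0], [0], [0], [0], [0], [0], [0], [0], [0], [0], [0], [0], [0], [0], [0], [0], [0]]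
theorem okA : extOK relB ivB 12 wsA T22A.rels T22A.iv [(1, 0), (3, 0), (7, 0), (13, 0), (21, 0), (31, 0), (43, 0), (57, 0), (73, 0), (91, 0), (5, 0), (9, 0), (15, 0), (23, 0), (33, 0), (45, 0), (59, 0), (75, 0), (93, 0), (11, 0), (17, 0), (25, 0), (35, 0), (47, 0), (61, 0), (77, 0), (95, 0), (19, 0), (27, 0), (37, 0), (49, 0), (63, 0), (79, 0), (97, 0), (29, 0), (39, 0), (51, 0), (65, 0), (81, 0), (99, 0), (41, 0), (53, 0), (67, 0), (83, 0), (101, 0), (55, 0), (69, 0), (85, 0), (103, 0), (71, 0), (87, 0), (105, 0), (89, 0), (107, 0), (109, 0), (111, 0), (113, 0), (115, 0), (0, 0), (0, 0), (0, 0), (0, 0), (0, 0), (0, 0), (0, 0), (0, 0), (0, 0)]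
    [(0, 0), (0, 0), (0, 0), (0, 0), (0, 0), (0, 0), (0, 0), (0, 0), (0, 0), (0, 0), (0, 0), (0, 0), (0, 0), (0, 0), (0, 0), (0, 0), (0, 0), (0, 0), (0, 0), (0, 0), (0, 0), (0, 0), (0, 0), (0, 0), (0, 0), (0, 0), (0, 0), (0, 0), (0, 0), (0, 0), (0, 0), (0, 0), (0, 0), (0, 0), (0, 0), (0, 0), (0, 0), (0, 0), (0, 0), (0, 0), (0, 0), (0, 0), (0, 0), (0, 0), (0, 0), (0, 0), (0, 0), (0, 0), (0, 0), (0, 0), (0, 0), (0, 0), (0, 0), (0, 0), (0, 0), (0, 0), (0, 0), (0, 0), (0, 0), (0, 0), (0, 0), (0, 0), (0, 0), (0, 0)] = true := by decide +kernel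

theorem cenA {G : Type*} [Group G] {el : ℕ → G} (R : RuleOK el relB ivB) :
    ∀ x ∈ ([1, 2, 3, 4, 5, 6, 7, 8, 9] : List ℕ), el x ∈ Subgroup.centralizer {wv el RA} :=
  have Q := R.extend okA
  have hf := elX_mem ivB 12 wsA (mem_cent_of_rule R 1 [1, 3, 4, 5, 6, 7, 8, 9, 10, 11]
    (by decide +kernel)) [1, 3, 4, 5, 6, 7, 8, 9, 10, 11] (by decide +kernel)
  (forall_cons (commute_of_goal R (l := []) (by decide +kernel) rfl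
      (T22A.goal12 Q _ hf) ((elX_eq_wv _ _ _ _ _).trans (congrArg _ (by decide +kernel))))
    (forall_cons (commute_of_goal R (l := [1]) (by decide +kernel) rfl
      (T22A.goal14 Q _ hf) ((elX_eq_wv _ _ _ _ _).trans (congrArg _ (by decide +kernel))))
    (forall_cons (commute_of_goal R (l := [2, 1]) (by decide +kernel) rfl
      (T22A.goal16 Q _ hf) ((elX_eq_wv _ _ _ _ _).trans (congrArg _ (by decide +kernel))))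
    (forall_cons (commute_of_goal R (l := [3, 2, 1]) (by decide +kernel) rfl
      (T22A.goal18 Q _ hf) ((elX_eq_wv _ _ _ _ _).trans (congrArg _ (by decide +kernel))))
    (forall_cons (commute_of_goal R (l := [4, 3, 2, 1]) (by decide +kernel) rfl
      (T22A.goal20 Q _ hf) ((elX_eq_wv _ _ _ _ _).trans (congrArg _ (by decide +kernel))))
    (forall_cons (commute_of_goal R (l := [5, 4, 3, 2, 1]) (by decide +kernel) rfl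
      (T22A.goal22 Q _ hf) ((elX_eq_wv _ _ _ _ _).trans (congrArg _ (by decide +kernel))))
    (forall_cons (commute_of_goal R (l := [6, 5, 4, 3, 2, 1]) (by decide +kernel) rfl
      (T22A.goal24 Q _ hf) ((elX_eq_wv _ _ _ _ _).trans (congrArg _ (by decide +kernel))))
    (forall_cons (commute_of_goal R (l := [4, 3, 2, 1]) (by decide +kernel) rfl
      (T22A.goal26 Q _ hf) ((elX_eq_wv _ _ _ _ _).trans (congrArg _ (by decide +kernel))))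
    (forall_cons (commute_of_goal R (l := [8, 4, 3, 2, 1]) (by decide +kernel) rfl
      (T22A.goal28 Q _ hf) ((elX_eq_wv _ _ _ _ _).trans (congrArg _ (by decide +kernel))))
    (forall_nil _))))))))))

def RB : List ℕ := [1, 2, 3, 4, 5, 6, 8, 1, 2, 3, 4, 5, 6, 8, 1, 2, 3, 4, 5, 6, 8, 1, 2, 3, 4, 5, 6, 8, 1, 2, 3, 4, 5, 6, 8, 1, 2, 3, 4, 5, 6, 8, 1, 2, 3, 4, 5, 6, 8, 1, 2, 3, 4, 5, 6, 8, 1, 2, 3, 4, 5, 6, 8]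
def wsB : List (List ℕ) := [[1, 2, 3, 4, 5, 6, 8, 1, 2, 3, 4, 5, 6, 8, 1, 2, 3, 4, 5, 6, 8, 1, 2, 3, 4, 5, 6, 8, 1, 2, 3, 4, 5, 6, 8, 1, 2, 3, 4, 5, 6, 8, 1, 2, 3, 4, 5, 6, 8, 1, 2, 3, 4, 5, 6, 8, 1, 2, 3, 4, 5, 6, 8], [8, 6, 5, 4, 3, 2, 1, 8, 6, 5, 4, 3, 2, 1, 8, 6, 5, 4, 3, 2, 1, 8, 6, 5, 4, 3, 2, 1, 8, 6, 5, 4, 3, 2, 1, 8, 6, 5, 4, 3, 2, 1, 8, 6, 5, 4, 3, 2, 1, 8, 6, 5, 4, 3, 2, 1, 8, 6, 5, 4, 3, 2, 1], [2, 1, 1, 2, 3, 4, 5, 6, 8, 1, 2, 3, 4, 5, 6, 8, 1, 2, 3, 4, 5, 6, 8, 1, 2, 3, 4, 5, 6, 8, 1, 2, 3, 4, 5, 6, 8, 1, 2, 3, 4, 5, 6, 8, 1, 2, 3, 4, 5, 6, 8, 1, 2, 3, 4, 5, 6, 8, 1, 2, 3, 4, 5, 6, 8, 1, 2], [2, 1, 8, 6, 5, 4, 3, 2, 1, 8, 6, 5, 4, 3, 2, 1, 8, 6, 5, 4, 3, 2, 1, 8, 6, 5, 4, 3, 2, 1, 8, 6, 5, 4, 3, 2, 1, 8, 6, 5, 4, 3, 2, 1,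 8, 6, 5, 4, 3, 2, 1, 8, 6, 5, 4, 3, 2, 1, 8, 6, 5, 4, 3, 2, 1, 1, 2], [2, 1, 3, 2, 1, 2, 3, 4, 5, 6, 8, 1, 2, 3, 4, 5, 6, 8, 1, 2, 3, 4, 5, 6, 8, 1, 2, 3, 4, 5, 6, 8, 1, 2, 3, 4, 5, 6, 8, 1, 2, 3, 4, 5, 6, 8, 1, 2, 3, 4, 5, 6, 8, 1, 2, 3, 4, 5, 6, 8, 1, 2, 3, 4, 5, 6, 8, 2, 3, 1, 2], [2, 1, 3, 2, 8, 6, 5, 4, 3, 2, 1, 8, 6, 5, 4, 3, 2, 1, 8, 6, 5, 4, 3, 2, 1, 8, 6, 5, 4, 3, 2, 1, 8, 6, 5, 4, 3, 2, 1, 8, 6, 5, 4, 3, 2, 1, 8, 6, 5, 4, 3, 2, 1, 8, 6, 5, 4, 3, 2, 1, 8, 6, 5, 4, 3, 2, 1, 2, 3, 1, 2], [2, 1, 3, 2, 4, 3, 1, 2, 3, 4, 5, 6, 8, 1, 2, 3, 4, 5, 6, 8, 1, 2, 3, 4, 5, 6, 8, 1, 2, 3, 4, 5, 6, 8, 1, 2, 3, 4, 5, 6, 8, 1, 2, 3, 4, 5, 6, 8, 1, 2, 3, 4, 5, 6, 8, 1, 2, 3, 4, 5, 6, 8, 1, 2, 3, 4, 5, 6, 8, 3, 4, 2, 3, 1, 2], [2, 1, 3, 2, 4, 3,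 8, 6, 5, 4, 3, 2, 1, 8, 6, 5, 4, 3, 2, 1, 8, 6, 5, 4, 3, 2, 1, 8, 6, 5, 4, 3, 2, 1, 8, 6, 5, 4, 3, 2, 1, 8, 6, 5, 4, 3, 2, 1, 8, 6, 5, 4, 3, 2, 1, 8, 6, 5, 4, 3, 2, 1, 8, 6, 5, 4, 3, 2, 1, 3, 4, 2, 3, 1, 2], [2, 1, 3, 2, 4, 3, 5, 4, 1, 2, 3, 4, 5, 6, 8, 1, 2, 3, 4, 5, 6, 8, 1, 2, 3, 4, 5, 6, 8, 1, 2, 3, 4, 5, 6, 8, 1, 2, 3, 4, 5, 6, 8, 1, 2, 3, 4, 5, 6, 8, 1, 2, 3, 4, 5, 6, 8, 1, 2, 3, 4, 5, 6, 8, 1, 2, 3, 4, 5, 6, 8, 4, 5, 3, 4, 2, 3, 1, 2], [2, 1, 3, 2, 4, 3, 5, 4, 8, 6, 5, 4, 3, 2, 1, 8, 6, 5, 4, 3, 2, 1, 8, 6, 5, 4, 3, 2, 1, 8, 6, 5, 4, 3, 2, 1, 8, 6, 5, 4, 3, 2, 1, 8, 6, 5, 4, 3, 2, 1, 8, 6, 5, 4, 3, 2, 1, 8, 6, 5, 4, 3, 2, 1, 8, 6, 5, 4, 3, 2, 1, 4, 5, 3, 4, 2, 3, 1, 2], [2, 1, 3, 2, 4, 3, 5, 4, 6, 5, 1, 2, 3, 4, 5, 6, 8, 1, 2, 3,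 4, 5, 6, 8, 1, 2, 3, 4, 5, 6, 8, 1, 2, 3, 4, 5, 6, 8, 1, 2, 3, 4, 5, 6, 8, 1, 2, 3, 4, 5, 6, 8, 1, 2, 3, 4, 5, 6, 8, 1, 2, 3, 4, 5, 6, 8, 1, 2, 3, 4, 5, 6, 8, 5, 6, 4, 5, 3, 4, 2, 3, 1, 2], [2, 1, 3, 2, 4, 3, 5, 4, 6, 5, 8, 6, 5, 4, 3, 2, 1, 8, 6, 5, 4, 3, 2, 1, 8, 6, 5, 4, 3, 2, 1, 8, 6, 5, 4, 3, 2, 1, 8, 6, 5, 4, 3, 2, 1, 8, 6, 5, 4, 3, 2, 1, 8, 6, 5, 4, 3, 2, 1, 8, 6, 5, 4, 3, 2, 1, 8, 6, 5, 4, 3, 2, 1, 5, 6, 4, 5, 3, 4, 2, 3, 1, 2], [2, 1, 3, 2, 4, 3, 5, 4, 6, 5, 7, 6, 1, 2, 3, 4, 5, 6, 8, 1, 2, 3, 4, 5, 6, 8, 1, 2, 3, 4, 5, 6, 8, 1, 2, 3, 4, 5, 6, 8, 1, 2, 3, 4, 5, 6, 8, 1, 2, 3, 4, 5, 6, 8, 1, 2, 3, 4, 5, 6, 8, 1, 2, 3, 4, 5, 6, 8, 1, 2, 3, 4, 5, 6, 8, 6, 7, 5, 6, 4, 5, 3, 4, 2, 3, 1, 2], [2, 1, 3, 2, 4, 3, 5, 4, 6, 5, 7, 6, 8, 6,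 5, 4, 3, 2, 1, 8, 6, 5, 4, 3, 2, 1, 8, 6, 5, 4, 3, 2, 1, 8, 6, 5, 4, 3, 2, 1, 8, 6, 5, 4, 3, 2, 1, 8, 6, 5, 4, 3, 2, 1, 8, 6, 5, 4, 3, 2, 1, 8, 6, 5, 4, 3, 2, 1, 8, 6, 5, 4, 3, 2, 1, 6, 7, 5, 6, 4, 5, 3, 4, 2, 3, 1, 2], [2, 1, 3, 2, 4, 3, 8, 4, 1, 2, 3, 4, 5, 6, 8, 1, 2, 3, 4, 5, 6, 8, 1, 2, 3, 4, 5, 6, 8, 1, 2, 3, 4, 5, 6, 8, 1, 2, 3, 4, 5, 6, 8, 1, 2, 3, 4, 5, 6, 8, 1, 2, 3, 4, 5, 6, 8, 1, 2, 3, 4, 5, 6, 8, 1, 2, 3, 4, 5, 6, 8, 4, 8, 3, 4, 2, 3, 1, 2], [2, 1, 3, 2, 4, 3, 8, 4, 8, 6, 5, 4, 3, 2, 1, 8, 6, 5, 4, 3, 2, 1, 8, 6, 5, 4, 3, 2, 1, 8, 6, 5, 4, 3, 2, 1, 8, 6, 5, 4, 3, 2, 1, 8, 6, 5, 4, 3, 2, 1, 8, 6, 5, 4, 3, 2, 1, 8, 6, 5, 4, 3, 2, 1, 8, 6, 5, 4, 3, 2, 1, 4, 8, 3, 4, 2, 3, 1, 2], [2, 1, 3, 2, 4, 3, 8, 4, 9, 8, 1, 2, 3, 4, 5, 6,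 8, 1, 2, 3, 4, 5, 6, 8, 1, 2, 3, 4, 5, 6, 8, 1, 2, 3, 4, 5, 6, 8, 1, 2, 3, 4, 5, 6, 8, 1, 2, 3, 4, 5, 6, 8, 1, 2, 3, 4, 5, 6, 8, 1, 2, 3, 4, 5, 6, 8, 1, 2, 3, 4, 5, 6, 8, 8, 9, 4, 8, 3, 4, 2, 3, 1, 2], [2, 1, 3, 2, 4, 3, 8, 4, 9, 8, 8, 6, 5, 4, 3, 2, 1, 8, 6, 5, 4, 3, 2, 1, 8, 6, 5, 4, 3, 2, 1, 8, 6, 5, 4, 3, 2, 1, 8, 6, 5, 4, 3, 2, 1, 8, 6, 5, 4, 3, 2, 1, 8, 6, 5, 4, 3, 2, 1, 8, 6, 5, 4, 3, 2, 1, 8, 6, 5, 4, 3, 2, 1, 8, 9, 4, 8, 3, 4, 2, 3, 1, 2], [0], [0], [0], [0], [0], [0], [0], [0], [0], [0], [0], [0], [0], [0], [0], [0], [0], [0], [0], [0], [0], [0], [0], [0], [0], [0], [0], [0], [0], [0], [0], [0], [0], [0]]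
theorem okB : extOK relB ivB 12 wsB T22B.rels T22B.iv [(1, 0), (3, 0), (7, 0), (13, 0), (21, 0), (31, 0), (43, 0), (57, 0), (73, 0), (91, 0), (5, 0), (9, 0), (15, 0), (23, 0), (33, 0), (45, 0), (59, 0), (75, 0), (93, 0), (11, 0), (17, 0), (25, 0), (35, 0), (47, 0), (61, 0), (77, 0), (95, 0), (19, 0), (27, 0), (37, 0), (49, 0), (63, 0), (79, 0), (97, 0), (29, 0), (39, 0), (51, 0), (65, 0), (81, 0), (99, 0), (41, 0), (53, 0), (67, 0), (83, 0), (101, 0), (55, 0), (69, 0), (85, 0), (103, 0), (71, 0), (87, 0), (105, 0), (89, 0), (107, 0), (109, 0), (111, 0), (113, 0), (115, 0), (0, 0), (0, 0), (0, 0), (0, 0), (0, 0), (0, 0), (0, 0), (0, 0), (0, 0)]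
    [(0, 0), (0, 0), (0, 0), (0, 0), (0, 0), (0, 0), (0, 0), (0, 0), (0, 0), (0, 0), (0, 0), (0, 0), (0, 0), (0, 0), (0, 0), (0, 0), (0, 0), (0, 0), (0, 0), (0, 0), (0, 0), (0, 0), (0, 0), (0, 0), (0, 0), (0, 0), (0, 0), (0, 0), (0, 0), (0, 0), (0, 0), (0, 0), (0, 0), (0, 0), (0, 0), (0, 0), (0, 0), (0, 0), (0, 0), (0, 0), (0, 0), (0, 0), (0, 0), (0, 0), (0, 0), (0, 0), (0, 0), (0, 0), (0, 0), (0, 0), (0, 0), (0, 0), (0, 0), (0, 0), (0, 0), (0, 0), (0, 0), (0, 0), (0, 0), (0, 0), (0, 0), (0, 0), (0, 0), (0, 0)] = true := by decide +kernel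

theorem cenB {G : Type*} [Group G] {el : ℕ → G} (R : RuleOK el relB ivB) :
    ∀ x ∈ ([1, 2, 3, 4, 5, 6, 7, 8, 9] : List ℕ), el x ∈ Subgroup.centralizer {wv el RB} :=
  have Q := R.extend okB
  have hf := elX_mem ivB 12 wsB (mem_cent_of_rule R 1 [1, 3, 4, 5, 6, 7, 8, 9, 10, 11]
    (by decide +kernel)) [1, 3, 4, 5, 6, 7, 8, 9, 10, 11] (by decide +kernel)
  (forall_cons (commute_of_goal R (l := []) (by decide +kernel) rfl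
      (T22B.goal12 Q _ hf) ((elX_eq_wv _ _ _ _ _).trans (congrArg _ (by decide +kernel))))
    (forall_cons (commute_of_goal R (l := [1]) (by decide +kernel) rfl
      (T22B.goal14 Q _ hf) ((elX_eq_wv _ _ _ _ _).trans (congrArg _ (by decide +kernel))))
    (forall_cons (commute_of_goal R (l := [2, 1]) (by decide +kernel) rfl
      (T22B.goal16 Q _ hf) ((elX_eq_wv _ _ _ _ _).trans (congrArg _ (by decide +kernel))))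
    (forall_cons (commute_of_goal R (l := [3, 2, 1]) (by decide +kernel) rfl
      (T22B.goal18 Q _ hf) ((elX_eq_wv _ _ _ _ _).trans (congrArg _ (by decide +kernel))))
    (forall_cons (commute_of_goal R (l := [4, 3, 2, 1]) (by decide +kernel) rfl
      (T22B.goal20 Q _ hf) ((elX_eq_wv _ _ _ _ _).trans (congrArg _ (by decide +kernel))))
    (forall_cons (commute_of_goal R (l := [5, 4, 3, 2, 1]) (by decide +kernel) rfl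
      (T22B.goal22 Q _ hf) ((elX_eq_wv _ _ _ _ _).trans (congrArg _ (by decide +kernel))))
    (forall_cons (commute_of_goal R (l := [6, 5, 4, 3, 2, 1]) (by decide +kernel) rfl
      (T22B.goal24 Q _ hf) ((elX_eq_wv _ _ _ _ _).trans (congrArg _ (by decide +kernel))))
    (forall_cons (commute_of_goal R (l := [4, 3, 2, 1]) (by decide +kernel) rfl
      (T22B.goal26 Q _ hf) ((elX_eq_wv _ _ _ _ _).trans (congrArg _ (by decide +kernel))))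
    (forall_cons (commute_of_goal R (l := [8, 4, 3, 2, 1]) (by decide +kernel) rfl
      (T22B.goal28 Q _ hf) ((elX_eq_wv _ _ _ _ _).trans (congrArg _ (by decide +kernel))))
    (forall_nil _))))))))))

def RC : List ℕ := [2, 3, 4, 5, 6, 7, 8, 2, 3, 4, 5, 6, 7, 8, 2, 3, 4, 5, 6, 7, 8, 2, 3, 4, 5, 6, 7, 8, 2, 3, 4, 5, 6, 7, 8, 2, 3, 4, 5, 6, 7, 8, 2, 3, 4, 5, 6, 7, 8, 2, 3, 4, 5, 6, 7, 8, 2, 3, 4, 5, 6, 7, 8]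
def wsC : List (List ℕ) := [[2, 3, 4, 5, 6, 7, 8, 2, 3, 4, 5, 6, 7, 8, 2, 3, 4, 5, 6, 7, 8, 2, 3, 4, 5, 6, 7, 8, 2, 3, 4, 5, 6, 7, 8, 2, 3, 4, 5, 6, 7, 8, 2, 3, 4, 5, 6, 7, 8, 2, 3, 4, 5, 6, 7, 8, 2, 3, 4, 5, 6, 7, 8], [8, 7, 6, 5, 4, 3, 2, 8, 7, 6, 5, 4, 3, 2, 8, 7, 6, 5, 4, 3, 2, 8, 7, 6, 5, 4, 3, 2, 8, 7, 6, 5, 4, 3, 2, 8, 7, 6, 5, 4, 3, 2, 8, 7, 6, 5, 4, 3, 2, 8, 7, 6, 5, 4, 3, 2, 8, 7, 6, 5, 4, 3, 2], [2, 1, 2, 3, 4, 5, 6, 7, 8, 2, 3, 4, 5, 6, 7, 8, 2, 3, 4, 5, 6, 7, 8, 2, 3, 4, 5, 6, 7, 8, 2, 3, 4, 5, 6, 7, 8, 2, 3, 4, 5, 6, 7, 8, 2, 3, 4, 5, 6, 7, 8, 2, 3, 4, 5, 6, 7, 8, 2, 3, 4, 5, 6, 7, 8, 1, 2], [2, 1, 8, 7, 6, 5, 4, 3, 2, 8, 7, 6, 5, 4, 3, 2, 8, 7, 6, 5, 4, 3, 2, 8, 7, 6, 5, 4, 3, 2, 8, 7, 6, 5, 4, 3, 2, 8, 7, 6, 5, 4, 3, 2,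 8, 7, 6, 5, 4, 3, 2, 8, 7, 6, 5, 4, 3, 2, 8, 7, 6, 5, 4, 3, 2, 1, 2], [2, 1, 3, 2, 2, 3, 4, 5, 6, 7, 8, 2, 3, 4, 5, 6, 7, 8, 2, 3, 4, 5, 6, 7, 8, 2, 3, 4, 5, 6, 7, 8, 2, 3, 4, 5, 6, 7, 8, 2, 3, 4, 5, 6, 7, 8, 2, 3, 4, 5, 6, 7, 8, 2, 3, 4, 5, 6, 7, 8, 2, 3, 4, 5, 6, 7, 8, 2, 3, 1, 2], [2, 1, 3, 2, 8, 7, 6, 5, 4, 3, 2, 8, 7, 6, 5, 4, 3, 2, 8, 7, 6, 5, 4, 3, 2, 8, 7, 6, 5, 4, 3, 2, 8, 7, 6, 5, 4, 3, 2, 8, 7, 6, 5, 4, 3, 2, 8, 7, 6, 5, 4, 3, 2, 8, 7, 6, 5, 4, 3, 2, 8, 7, 6, 5, 4, 3, 2, 2, 3, 1, 2], [2, 1, 3, 2, 4, 3, 2, 3, 4, 5, 6, 7, 8, 2, 3, 4, 5, 6, 7, 8, 2, 3, 4, 5, 6, 7, 8, 2, 3, 4, 5, 6, 7, 8, 2, 3, 4, 5, 6, 7, 8, 2, 3, 4, 5, 6, 7, 8, 2, 3, 4, 5, 6, 7, 8, 2, 3, 4, 5, 6, 7, 8, 2, 3, 4, 5, 6, 7, 8, 3, 4, 2, 3, 1, 2], [2, 1, 3, 2, 4, 3,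 8, 7, 6, 5, 4, 3, 2, 8, 7, 6, 5, 4, 3, 2, 8, 7, 6, 5, 4, 3, 2, 8, 7, 6, 5, 4, 3, 2, 8, 7, 6, 5, 4, 3, 2, 8, 7, 6, 5, 4, 3, 2, 8, 7, 6, 5, 4, 3, 2, 8, 7, 6, 5, 4, 3, 2, 8, 7, 6, 5, 4, 3, 2, 3, 4, 2, 3, 1, 2], [2, 1, 3, 2, 4, 3, 5, 4, 2, 3, 4, 5, 6, 7, 8, 2, 3, 4, 5, 6, 7, 8, 2, 3, 4, 5, 6, 7, 8, 2, 3, 4, 5, 6, 7, 8, 2, 3, 4, 5, 6, 7, 8, 2, 3, 4, 5, 6, 7, 8, 2, 3, 4, 5, 6, 7, 8, 2, 3, 4, 5, 6, 7, 8, 2, 3, 4, 5, 6, 7, 8, 4, 5, 3, 4, 2, 3, 1, 2], [2, 1, 3, 2, 4, 3, 5, 4, 8, 7, 6, 5, 4, 3, 2, 8, 7, 6, 5, 4, 3, 2, 8, 7, 6, 5, 4, 3, 2, 8, 7, 6, 5, 4, 3, 2, 8, 7, 6, 5, 4, 3, 2, 8, 7, 6, 5, 4, 3, 2, 8, 7, 6, 5, 4, 3, 2, 8, 7, 6, 5, 4, 3, 2, 8, 7, 6, 5, 4, 3, 2, 4, 5, 3, 4, 2, 3, 1, 2], [2, 1, 3, 2, 4, 3, 5, 4, 6, 5, 2, 3, 4, 5, 6, 7, 8, 2, 3, 4,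 5, 6, 7, 8, 2, 3, 4, 5, 6, 7, 8, 2, 3, 4, 5, 6, 7, 8, 2, 3, 4, 5, 6, 7, 8, 2, 3, 4, 5, 6, 7, 8, 2, 3, 4, 5, 6, 7, 8, 2, 3, 4, 5, 6, 7, 8, 2, 3, 4, 5, 6, 7, 8, 5, 6, 4, 5, 3, 4, 2, 3, 1, 2], [2, 1, 3, 2, 4, 3, 5, 4, 6, 5, 8, 7, 6, 5, 4, 3, 2, 8, 7, 6, 5, 4, 3, 2, 8, 7, 6, 5, 4, 3, 2, 8, 7, 6, 5, 4, 3, 2, 8, 7, 6, 5, 4, 3, 2, 8, 7, 6, 5, 4, 3, 2, 8, 7, 6, 5, 4, 3, 2, 8, 7, 6, 5, 4, 3, 2, 8, 7, 6, 5, 4, 3, 2, 5, 6, 4, 5, 3, 4, 2, 3, 1, 2], [2, 1, 3, 2, 4, 3, 5, 4, 6, 5, 7, 6, 2, 3, 4, 5, 6, 7, 8, 2, 3, 4, 5, 6, 7, 8, 2, 3, 4, 5, 6, 7, 8, 2, 3, 4, 5, 6, 7, 8, 2, 3, 4, 5, 6, 7, 8, 2, 3, 4, 5, 6, 7, 8, 2, 3, 4, 5, 6, 7, 8, 2, 3, 4, 5, 6, 7, 8, 2, 3, 4, 5, 6, 7, 8, 6, 7, 5, 6, 4, 5, 3, 4, 2, 3, 1, 2], [2, 1, 3, 2, 4, 3, 5, 4, 6, 5, 7, 6, 8, 7,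 6, 5, 4, 3, 2, 8, 7, 6, 5, 4, 3, 2, 8, 7, 6, 5, 4, 3, 2, 8, 7, 6, 5, 4, 3, 2, 8, 7, 6, 5, 4, 3, 2, 8, 7, 6, 5, 4, 3, 2, 8, 7, 6, 5, 4, 3, 2, 8, 7, 6, 5, 4, 3, 2, 8, 7, 6, 5, 4, 3, 2, 6, 7, 5, 6, 4, 5, 3, 4, 2, 3, 1, 2], [2, 1, 3, 2, 4, 3, 8, 4, 2, 3, 4, 5, 6, 7, 8, 2, 3, 4, 5, 6, 7, 8, 2, 3, 4, 5, 6, 7, 8, 2, 3, 4, 5, 6, 7, 8, 2, 3, 4, 5, 6, 7, 8, 2, 3, 4, 5, 6, 7, 8, 2, 3, 4, 5, 6, 7, 8, 2, 3, 4, 5, 6, 7, 8, 2, 3, 4, 5, 6, 7, 8, 4, 8, 3, 4, 2, 3, 1, 2], [2, 1, 3, 2, 4, 3, 8, 4, 8, 7, 6, 5, 4, 3, 2, 8, 7, 6, 5, 4, 3, 2, 8, 7, 6, 5, 4, 3, 2, 8, 7, 6, 5, 4, 3, 2, 8, 7, 6, 5, 4, 3, 2, 8, 7, 6, 5, 4, 3, 2, 8, 7, 6, 5, 4, 3, 2, 8, 7, 6, 5, 4, 3, 2, 8, 7, 6, 5, 4, 3, 2, 4, 8, 3, 4, 2, 3, 1, 2], [2, 1, 3, 2, 4, 3, 8, 4, 9, 8, 2, 3, 4, 5, 6, 7,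 8, 2, 3, 4, 5, 6, 7, 8, 2, 3, 4, 5, 6, 7, 8, 2, 3, 4, 5, 6, 7, 8, 2, 3, 4, 5, 6, 7, 8, 2, 3, 4, 5, 6, 7, 8, 2, 3, 4, 5, 6, 7, 8, 2, 3, 4, 5, 6, 7, 8, 2, 3, 4, 5, 6, 7, 8, 8, 9, 4, 8, 3, 4, 2, 3, 1, 2], [2, 1, 3, 2, 4, 3, 8, 4, 9, 8, 8, 7, 6, 5, 4, 3, 2, 8, 7, 6, 5, 4, 3, 2, 8, 7, 6, 5, 4, 3, 2, 8, 7, 6, 5, 4, 3, 2, 8, 7, 6, 5, 4, 3, 2, 8, 7, 6, 5, 4, 3, 2, 8, 7, 6, 5, 4, 3, 2, 8, 7, 6, 5, 4, 3, 2, 8, 7, 6, 5, 4, 3, 2, 8, 9, 4, 8, 3, 4, 2, 3, 1, 2], [0], [0], [0], [0], [0], [0], [0], [0], [0], [0], [0], [0], [0], [0], [0], [0], [0], [0], [0], [0], [0], [0], [0], [0], [0], [0], [0], [0], [0], [0], [0], [0], [0], [0]]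
theorem okC : extOK relB ivB 12 wsC T22C.rels T22C.iv [(1, 0), (3, 0), (7, 0), (13, 0), (21, 0), (31, 0), (43, 0), (57, 0), (73, 0), (91, 0), (5, 0), (9, 0), (15, 0), (23, 0), (33, 0), (45, 0), (59, 0), (75, 0), (93, 0), (11, 0), (17, 0), (25, 0), (35, 0), (47, 0), (61, 0), (77, 0), (95, 0), (19, 0), (27, 0), (37, 0), (49, 0), (63, 0), (79, 0), (97, 0), (29, 0), (39, 0), (51, 0), (65, 0), (81, 0), (99, 0), (41, 0), (53, 0), (67, 0), (83, 0), (101, 0), (55, 0), (69, 0), (85, 0), (103, 0), (71, 0), (87, 0), (105, 0), (89, 0), (107, 0), (109, 0), (111, 0), (113, 0), (115, 0), (0, 0), (0, 0), (0, 0), (0, 0), (0, 0), (0, 0), (0, 0), (0, 0), (0, 0)]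
    [(0, 0), (0, 0), (0, 0), (0, 0), (0, 0), (0, 0), (0, 0), (0, 0), (0, 0), (0, 0), (0, 0), (0, 0), (0, 0), (0, 0), (0, 0), (0, 0), (0, 0), (0, 0), (0, 0), (0, 0), (0, 0), (0, 0), (0, 0), (0, 0), (0, 0), (0, 0), (0, 0), (0, 0), (0, 0), (0, 0), (0, 0), (0, 0), (0, 0), (0, 0), (0, 0), (0, 0), (0, 0), (0, 0), (0, 0), (0, 0), (0, 0), (0, 0), (0, 0), (0, 0), (0, 0), (0, 0), (0, 0), (0, 0), (0, 0), (0, 0), (0, 0), (0, 0), (0, 0), (0, 0), (0, 0), (0, 0), (0, 0), (0, 0), (0, 0), (0, 0), (0, 0), (0, 0), (0, 0), (0, 0)] = true := by decide +kernel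

theorem cenC {G : Type*} [Group G] {el : ℕ → G} (R : RuleOK el relB ivB) :
    ∀ x ∈ ([1, 2, 3, 4, 5, 6, 7, 8, 9] : List ℕ), el x ∈ Subgroup.centralizer {wv el RC} :=
  have Q := R.extend okC
  have hf := elX_mem ivB 12 wsC (mem_cent_of_rule R 1 [1, 3, 4, 5, 6, 7, 8, 9, 10, 11]
    (by decide +kernel)) [1, 3, 4, 5, 6, 7, 8, 9, 10, 11] (by decide +kernel)
  (forall_cons (commute_of_goal R (l := []) (by decide +kernel) rfl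
      (T22C.goal12 Q _ hf) ((elX_eq_wv _ _ _ _ _).trans (congrArg _ (by decide +kernel))))
    (forall_cons (commute_of_goal R (l := [1]) (by decide +kernel) rfl
      (T22C.goal14 Q _ hf) ((elX_eq_wv _ _ _ _ _).trans (congrArg _ (by decide +kernel))))
    (forall_cons (commute_of_goal R (l := [2, 1]) (by decide +kernel) rfl
      (T22C.goal16 Q _ hf) ((elX_eq_wv _ _ _ _ _).trans (congrArg _ (by decide +kernel))))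
    (forall_cons (commute_of_goal R (l := [3, 2, 1]) (by decide +kernel) rfl
      (T22C.goal18 Q _ hf) ((elX_eq_wv _ _ _ _ _).trans (congrArg _ (by decide +kernel))))
    (forall_cons (commute_of_goal R (l := [4, 3, 2, 1]) (by decide +kernel) rfl
      (T22C.goal20 Q _ hf) ((elX_eq_wv _ _ _ _ _).trans (congrArg _ (by decide +kernel))))
    (forall_cons (commute_of_goal R (l := [5, 4, 3, 2, 1]) (by decide +kernel) rfl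
      (T22C.goal22 Q _ hf) ((elX_eq_wv _ _ _ _ _).trans (congrArg _ (by decide +kernel))))
    (forall_cons (commute_of_goal R (l := [6, 5, 4, 3, 2, 1]) (by decide +kernel) rfl
      (T22C.goal24 Q _ hf) ((elX_eq_wv _ _ _ _ _).trans (congrArg _ (by decide +kernel))))
    (forall_cons (commute_of_goal R (l := [4, 3, 2, 1]) (by decide +kernel) rfl
      (T22C.goal26 Q _ hf) ((elX_eq_wv _ _ _ _ _).trans (congrArg _ (by decide +kernel))))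
    (forall_cons (commute_of_goal R (l := [8, 4, 3, 2, 1]) (by decide +kernel) rfl
      (T22C.goal28 Q _ hf) ((elX_eq_wv _ _ _ _ _).trans (congrArg _ (by decide +kernel))))
    (forall_nil _))))))))))

def sg : List ℕ := [0, 1, 2, 3, 4, 5, 6, 7, 8, 9]

theorem okM : relabelOK (relB ++ [RA, RB, RC]) ivB sg Fi22M.rels Fi22M.iv [(1, 0), (3, 0), (7, 0), (13, 0), (21, 0), (31, 0), (43, 0), (57, 0), (5, 0), (9, 0), (15, 0), (23, 0), (33, 0), (45, 0), (59, 0), (11, 0), (17, 0), (25, 0), (35, 0), (47, 0), (61, 0), (19, 0), (27, 0), (37, 0), (49, 0), (63, 0), (29, 0), (39, 0), (51, 0), (65, 0), (41, 0), (53, 0), (67, 0), (55, 0), (69, 0), (71, 0), (119, 0), (121, 0), (123, 0)] = true := by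
  decide +kernel

theorem alg {G : Type*} [Group G] {el : ℕ → G} (R : RuleOK el relB ivB) (hZ : Subgroup.center G = ⊥)
    (htop : ∀ K : Subgroup G, (∀ x, 1 ≤ x → x ≤ 11 → el x ∈ K) → K = ⊤) :
    ∃ ψ : Spor.Fi22 →* G, ψ.range = ⊤ ∧ ψ a22 = el 1 := by
  have h1 : ∀ K : Subgroup G, (∀ x ∈ ([1, 2, 3, 4, 5, 6, 7, 8, 9] : List ℕ), el x ∈ K) → K = ⊤ := by
    intro K hK
    have k11 : el 11 ∈ K := R.mem_of_rule 117 0 (w := [9, 8, 4, 5, 3, 4, 8, 9, 6, 5, 4, 8, 7, 6, 5, 4, 3, 4, 5, 6, 7, 8, 4, 5, 6, 9, 8, 4, 3, 5, 4, 8, 9]) (by decide +kernel)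
      fun y hy => hK y (by revert y; decide)
    have hK' : ∀ x ∈ ([11, 1, 2, 3, 4, 5, 6, 7, 8, 9] : List ℕ), el x ∈ K := forall_cons k11 hK
    have k10 : el 10 ∈ K := R.mem_of_rule 111 0 (w := [2, 1, 3, 11, 2, 11, 3, 1, 2]) (by decide +kernel)
      fun y hy => hK' y (by revert y; decide)
    refine htop K fun x hx hx' => forall_cons (P := fun x => el x ∈ K) k10 hK' x ?_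
    interval_cases x <;> decide
  have R' := (R.append [RA, RB, RC] (forall_cons (eq_one_of_cent hZ (h1 _ (cenA R)))
    (forall_cons (eq_one_of_cent hZ (h1 _ (cenB R))) (forall_cons (eq_one_of_cent hZ (h1 _ (cenC R)))
      (forall_nil' _)))) (by decide +kernel)).relabel okM
  have h2 := coxHom_el Spor.Fi22.edges Spor.Fi22.extra R' (fun g => (Fi22P.hc g).2) Fi22P.homM
    fun x hx => by rw [List.getD_eq_default sg _ hx]; exact R.h0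
  refine ⟨coxHom Spor.Fi22.edges Spor.Fi22.extra R' (fun g => (Fi22P.hc g).2) Fi22P.homM,
    h1 _ fun x hx => ⟨_, (h2 x).trans ?_⟩, el_a ▸ h2 1⟩
  congr 1
  revert x; decide

noncomputable def lamOK (l ws : List Pt) (S : ℕ) (sched : List ℕ) : Bool :=
  Nat.beq l.length 9 && K22.allIn l Em && K22.allIn [l.getD 0 ([], 0), l.getD 8 ([], 0)] (dif Em S) &&
  Nat.beq (dif (K22.sing (l.getD 0 ([], 0))) (K22.perp (l.getD 8 ([], 0)))) 0 &&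
  K22.allIn ws (Nat.land (Nat.land Em S)
    (Nat.land (K22.perp (l.getD 0 ([], 0))) (K22.perp (l.getD 8 ([], 0))))) &&
  Nat.beq (dif (dif (K22.perps Em (l.getD 0 ([], 0) :: l.getD 8 ([], 0) :: ws)) S)
    (K22.sing (l.getD 7 ([], 0)))) 0 &&
  Nat.beq (dif (K22.sing (dpt l ([0, 1, 7, 6], 5))) (K22.sing (dpt l ([8, 6, 7, 5], 1)))) 0 &&
  Nat.beq (dif (K22.sing (dpt l ([2, 5, 6, 1, 5, 3, 2, 1], 0))) (K22.sing (dpt l ([8, 6, 1, 5, 4, 3, 2, 1], 0)))) 0 &&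
  Nat.beq (dif (K22.sing (dpt l ([], 8))) (K22.sing (dpt l ([6, 5, 1, 2, 0, 1, 5, 6, 3, 2, 1, 5, 4, 3, 2, 1], 0)))) 0 &&
  Nat.beq (dif Em (K22.orb l sched (K22.sing (l.getD 0 ([], 0))))) 0

def l0 : List Pt := [([], 3), ([], 4), ([], 5), ([], 6), ([], 7), ([], 8), ([], 9), ([4, 8, 5, 6, 4, 5, 2, 3, 4, 8, 7, 6, 5, 4, 3, 2], 1), ([2, 3, 4, 8, 5, 6, 4, 5, 3, 4, 8, 7, 6, 5, 4, 3], 2)]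
theorem l0a : K22.coxOK l0 Em (Sm.getD 0 0) edges = true := by decide +kernel
theorem l0b : lamOK l0 [([], 5), ([], 6)] (Sm.getD 0 0) [1, 0, 2, 5, 7, 6, 3, 1, 8, 5, 4, 7, 1, 0, 2, 6, 3, 1, 5, 1] = true := by decide +kernel

def l1 : List Pt := [([2, 3, 4, 8, 5, 6, 4, 5, 3, 4, 8, 7, 6, 5, 4, 3], 2), ([], 9), ([], 8), ([], 4), ([], 3), ([2, 3, 4, 8, 5, 4, 3, 2], 1), ([], 6), ([6, 5, 4, 8, 7, 6, 5, 4], 3), ([], 7)]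
theorem l1a : K22.coxOK l1 Em (Sm.getD 1 0) edges = true := by decide +kernel
theorem l1b : lamOK l1 [([], 3), ([], 4)] (Sm.getD 1 0) [1, 0, 2, 5, 7, 6, 3, 1, 8, 5, 4, 7, 1, 0, 2, 6, 3, 1, 5, 1] = true := by decide +kernel

def l2 : List Pt := [([], 3), ([], 4), ([], 5), ([], 6), ([], 7), ([], 8), ([], 9), ([4, 5, 6, 3, 4, 5, 2, 3, 4, 8, 7, 6, 5, 4, 3, 2], 1), ([2, 3, 4, 8, 5, 6, 4, 5, 3, 4, 8, 7, 6, 5, 4, 3], 2)]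
theorem l2a : K22.coxOK l2 Em (Sm.getD 2 0) edges = true := by decide +kernel
theorem l2b : lamOK l2 [([], 5), ([], 6)] (Sm.getD 2 0) [1, 0, 2, 5, 7, 6, 3, 1, 8, 5, 4, 7, 1, 0, 2, 6, 3, 1, 5, 1] = true := by decide +kernel

theorem core_of {G : Type*} [Group G] {D : Set G} {a b : G} {k : Spor.Fi22 → G} {S : ℕ}
    (L : Loc D a b (T22.st Em) (T22.st S) k) {l ws : List Pt} {sched : List ℕ}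
    (h1 : K22.coxOK l Em S edges = true) (h2 : lamOK l ws S sched = true) :
    ∃ ψ : Spor.Fi22 →* G, ψ.range = ⊤ ∧ ψ a22 = a := by
  simp only [lamOK, Bool.and_eq_true] at h2
  obtain ⟨⟨⟨⟨⟨⟨⟨⟨⟨k0, k1⟩, k2⟩, k3⟩, k4⟩, k5⟩, k6⟩, k7⟩, k8⟩, k9⟩ := h2
  have hl : l.length = 9 := Nat.eq_of_beq_eq_true k0
  have R0 := T22.ruleOK_tel L (iv := ivB) h1 (by rw [hl]; decide +kernel)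
  rw [hl] at R0
  have e := T22.leaf_eq L k2 k3 k4 (T22.getD_ok k1 (by omega)).1 k5
  rw [← T22.tel_add a b k (by omega), ← T22.tel_add a b k (by omega),
    ← T22.tel_add a b k (by omega)] at e
  have R := R0.append xr (forall_cons (by
      have i1 := R0.hinv 1 (by decide)
      have i2 := R0.hinv 2 (by decide)
      have i3 := R0.hinv 3 (by decide)
      have i10 := R0.hinv 10 (by decide)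
      have i11 := R0.hinv 11 (by decide)
      rw [show ivf ivB 1 = 1 by decide] at i1
      rw [show ivf ivB 2 = 2 by decide] at i2
      rw [show ivf ivB 3 = 3 by decide] at i3
      rw [show ivf ivB 10 = 10 by decide] at i10
      rw [show ivf ivB 11 = 11 by decide] at i11
      have e' : T22.tel a b k l 10 = cj (T22.tel a b k l 2) (cj (T22.tel a b k l 1 *
        T22.tel a b k l 3 * T22.tel a b k l 11) (T22.tel a b k l 2)) := e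
      simp only [cj_def, mul_inv_rev, ← i1, ← i2, ← i3, ← i11, mul_assoc] at e'
      simp only [List.map, List.prod_cons, List.prod_nil, mul_one]
      rw [← e']
      exact mul_eq_one_iff_eq_inv.2 i10)
    (forall_cons (T22.rel_dW L k1 (by rw [hl]; decide) (by rw [hl]; decide) k6)
    (forall_cons (T22.rel_dW L k1 (by rw [hl]; decide) (by rw [hl]; decide) k7)
    (forall_cons (T22.rel_dW L k1 (by rw [hl]; decide) (by rw [hl]; decide) k8) (forall_nil' _)))))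
    (by decide +kernel)
  exact alg R L.cen fun K hK => T22.tel_eq_top L k1 (by omega) k9 (by rw [hl]; exact hK)

end F22

open F22

theorem core22 {G : Type*} [Group G] {D : Set G} (hD : IsThreeTranspositionClass D) {a b : G}
    {k : Spor.Fi22 → G} {n : ℕ} (hn : n < 3) (L : Loc D a b (nb D22 a22) (T22.st (Sm.getD n 0)) k) :
    ∃ e : G ≃* Spor.Fi22, e '' D = D22 := by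
  rw [← st_Em] at L
  have h : ∃ ψ : Spor.Fi22 →* G, ψ.range = ⊤ ∧ ψ a22 = a := by
    interval_cases n
    exacts [core_of L l0a l0b, core_of L l1a l1b, core_of L l2a l2b]
  obtain ⟨ψ, h1, h2⟩ := h
  have := Fi22P.simple
  exact iso_of_hom hD ψ (inj_of_simple ψ (t := a22) (h2 ▸ TT.ne_one hD.1 L.ha)) h1 (h2 ▸ L.ha)

end Cfsg.Agent.H96
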