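import Cfsg.Agent.H96.Cl24
import Cfsg.Agent.H96.Cert.T24
import Cfsg.Agent.H96.Cert.T24g
import Cfsg.Agent.H96.Cert.TE8

/-! A group that looks locally like Fi24 satisfies the relations of Fi24. -/

set_option autoImplicit false
set_option maxRecDepth 100000
set_option exponentiation.threshold 400000
set_option linter.constructorNameAsVariable false

namespace Cfsg.Agent.H96

open Cfsg.Agent.H58 Cfsg.Agent.H95 LModel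

section
variable {G G' : Type*} [Group G] [Group G']

theorem IsChart.map_prod {E : Set G} {E' : Set G'} {f : G → G'} (h : IsChart E E' f)
    (hE : IsThreeTranspositionSet E) (hE' : IsThreeTranspositionSet E') (hc : Cl E) {l : List G}
    (hl : ∀ p ∈ l, p ∈ E) {q : G} (hq : q ∈ E) :
    cj l.prod q ∈ E ∧ f (cj l.prod q) = cj (l.map f).prod (f q) := by
  induction l with
  | nil => simpa [cj_one] using hq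
  | cons p l ih =>
    have h1 := ih fun x hx => hl x (List.mem_cons_of_mem _ hx)
    have h2 := hl p List.mem_cons_self
    rw [List.prod_cons, List.map_cons, List.prod_cons, cj_mul, cj_mul, h.map_cj hE hE' h2 h1.1, h1.2]
    exact ⟨hc.cj hE _ h2 _ h1.1, rfl⟩

theorem IsChart.commute_prod {E : Set G} {E' : Set G'} {f : G → G'} (h : IsChart E E' f)
    (hE : IsThreeTranspositionSet E) (hE' : IsThreeTranspositionSet E') (hc : Cl E) {l : List G}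
    (hl : ∀ p ∈ l, p ∈ E) {q : G} (hq : q ∈ E) :
    Commute (l.map f).prod (f q) ↔ Commute l.prod q := by
  have h1 := h.map_prod hE hE' hc hl hq
  rw [← cj_eq_self_iff, ← cj_eq_self_iff, ← h1.2, h.inj h1.1 hq]

/-- a product of members commuting with `j` that centralises the neighbours of `a` -/
theorem Loc.eq_one_or {D : Set G} (hD : IsThreeTranspositionClass D) {a b : G} {E S : Set G'}
    {k : G' → G} (L : Loc D a b E S k) {j : G} (hj : j ∈ nb D a) (hjb : Commute b j)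
    (hE : ∀ t ∈ E, ∀ z, Commute z t → (∀ x ∈ nb E t, Commute z x) → z = 1 ∨ z = t)
    {l : List G} (hl : ∀ x ∈ l, x ∈ nb D j) (h1 : Commute l.prod a)
    (h2 : ∀ p ∈ E, Commute l.prod (k p)) : l.prod = 1 ∨ l.prod * a = 1 := by
  obtain ⟨f0, hf0, -⟩ := L.ch.exists_symm L.cl
  obtain ⟨f, hf⟩ := charts_of_chart L.grp hD L.ha hf0 j hj.1
  have hT := TT.subset L.grp.1 (nb_subset D j)
  have hC := (cl_of_group L.grp).nb L.grp.1 j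
  have ha := mem_nb_symm L.ha hj
  have hb : b ∈ nb D j := ⟨L.hb, fun e => L.hab (e ▸ hj.2.2), hjb.symm⟩
  rcases hE _ (hf.mem ha) (l.map f).prod ((hf.commute_prod hT L.tt hC hl ha).2 h1) (fun x hx => by
    obtain ⟨y, hy, rfl⟩ := (hf.nb hT L.tt hC ha).surj hx
    obtain ⟨p, hp, rfl⟩ := L.ch.surj ⟨hy.1.1, hy.2⟩
    exact (hf.commute_prod hT L.tt hC hl hy.1).2 (h2 p hp)) with h | h
  · exact Or.inl (L.eq_one h2 h1 ((hf.commute_prod hT L.tt hC hl hb).1 (h ▸ Commute.one_left _)))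
  · refine Or.inr (L.eq_one (fun p hp => (h2 p hp).mul_left (L.ch.mem hp).2.2)
      (h1.mul_left (Commute.refl a)) ?_)
    have h3 := (hf.commute_prod hT L.tt hC (l := l ++ [a]) (List.forall_mem_append.2
      ⟨hl, fun x hx => List.mem_singleton.1 hx ▸ ha⟩) hb).1 (by
        rw [List.map_append, List.prod_append, h, List.map_singleton, List.prod_singleton,
          TT.mul_self L.tt (hf.mem ha)]
        exact Commute.one_left _)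
    rwa [List.prod_append, List.prod_singleton] at h3

end

namespace F24

def code : Spor.Fi24.Gen → ℕ
  | .l => 1 | .k => 2 | .a => 3 | .b => 4 | .c => 5 | .d => 6 | .e => 7 | .f => 8 | .g => 9
  | .h => 10 | .i => 11 | .j => 12

def L : List (FreeGroup Spor.Fi24.Gen) := [1, Spor.Fi24.l, Spor.Fi24.k, Spor.Fi24.a, Spor.Fi24.b,
  Spor.Fi24.c, Spor.Fi24.d, Spor.Fi24.e, Spor.Fi24.f, Spor.Fi24.g, Spor.Fi24.h, Spor.Fi24.i, Spor.Fi24.j]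

def edges : List (ℕ × ℕ) := [(1, 2), (2, 3), (3, 4), (4, 5), (5, 6), (6, 7), (6, 10), (7, 8), (8, 9), (9, 12), (10, 11)]
def ivB : ℕ := 57491748161315509379136
def sE : List ℕ × ℕ := ([0, 1, 2, 3, 7, 8, 4, 3, 7, 5, 6, 4, 5, 2, 3, 4, 1, 2, 3, 7, 8, 5, 3, 4, 1, 2, 3, 7, 9, 6, 5, 4, 3, 2, 1], 0)
def relB : List (List ℕ) :=
  coxR 12 edges ++ [sh F23.w1, sh F23.w2 ++ [1], [2] ++ dW sE ++ ([2] ++ dW sE)]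
def w0 : List ℕ := [6, 5, 4, 3, 2, 1, 6, 7, 8, 9, 12, 6, 10, 11]
def Z : List ℕ := [6, 5, 4, 3, 2, 1, 6, 7, 8, 9, 12, 6, 10, 11, 6, 5, 4, 3, 2, 1, 6, 7, 8, 9, 12, 6, 10, 11, 6, 5, 4, 3, 2, 1, 6, 7, 8, 9, 12, 6, 10, 11, 6, 5, 4, 3, 2, 1, 6, 7, 8, 9, 12, 6, 10, 11, 6, 5, 4, 3, 2, 1, 6, 7, 8, 9, 12, 6, 10, 11, 6, 5, 4, 3, 2, 1, 6, 7, 8, 9, 12, 6, 10, 11, 6, 5, 4, 3, 2, 1, 6, 7, 8, 9, 12, 6, 10, 11, 6, 5, 4, 3, 2, 1, 6, 7, 8, 9, 12, 6, 10, 11, 6, 5, 4, 3, 2, 1, 6, 7, 8, 9, 12, 6, 10, 11, 6, 5, 4, 3, 2, 1, 6, 7, 8, 9, 12, 6, 10, 11, 6, 5, 4, 3, 2, 1, 6, 7, 8, 9, 12, 6, 10, 11, 6, 5, 4, 3, 2, 1, 6, 7, 8, 9, 12, 6, 10, 11, 6, 5, 4, 3, 2, 1, 6, 7, 8, 9, 12, 6, 10, 11, 6, 5, 4, 3, 2, 1, 6, 7, 8, 9, 12, 6, 10, 11, 6, 5, 4, 3, 2, 1, 6, 7, 8, 9, 12, 6, 10, 11, 6, 5, 4, 3, 2, 1, 6, 7, 8, 9, 12, 6, 10, 11, 6,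 5, 4, 3, 2, 1, 6, 7, 8, 9, 12, 6, 10, 11]
def wsT : List (List ℕ) := [[6, 5, 4, 3, 2, 1, 6, 7, 8, 9, 12, 6, 10, 11, 6, 5, 4, 3, 2, 1, 6, 7, 8, 9, 12, 6, 10, 11, 6, 5, 4, 3, 2, 1, 6, 7, 8, 9, 12, 6, 10, 11, 6, 5, 4, 3, 2, 1, 6, 7, 8, 9, 12, 6, 10, 11, 6, 5, 4, 3, 2, 1, 6, 7, 8, 9, 12, 6, 10, 11, 6, 5, 4, 3, 2, 1, 6, 7, 8, 9, 12, 6, 10, 11, 6, 5, 4, 3, 2, 1, 6, 7, 8, 9, 12, 6, 10, 11, 6, 5, 4, 3, 2, 1, 6, 7, 8, 9, 12, 6, 10, 11, 6, 5, 4, 3, 2, 1, 6, 7, 8, 9, 12, 6, 10, 11, 6, 5, 4, 3, 2, 1, 6, 7, 8, 9, 12, 6, 10, 11, 6, 5, 4, 3, 2, 1, 6, 7, 8, 9, 12, 6, 10, 11, 6, 5, 4, 3, 2, 1, 6, 7, 8, 9, 12, 6, 10, 11, 6, 5, 4, 3, 2, 1, 6, 7, 8, 9, 12, 6, 10, 11, 6, 5, 4, 3, 2, 1, 6, 7, 8, 9, 12, 6, 10, 11, 6, 5, 4, 3, 2, 1, 6, 7, 8, 9, 12, 6, 10, 11, 6, 5, 4, 3, 2, 1, 6, 7, 8, 9, 12, 6, 10, 11, 6, 5, 4, 3, 2,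 1, 6, 7, 8, 9, 12, 6, 10, 11], [11, 10, 6, 12, 9, 8, 7, 6, 1, 2, 3, 4, 5, 6, 11, 10, 6, 12, 9, 8, 7, 6, 1, 2, 3, 4, 5, 6, 11, 10, 6, 12, 9, 8, 7, 6, 1, 2, 3, 4, 5, 6, 11, 10, 6, 12, 9, 8, 7, 6, 1, 2, 3, 4, 5, 6, 11, 10, 6, 12, 9, 8, 7, 6, 1, 2, 3, 4, 5, 6, 11, 10, 6, 12, 9, 8, 7, 6, 1, 2, 3, 4, 5, 6, 11, 10, 6, 12, 9, 8, 7, 6, 1, 2, 3, 4, 5, 6, 11, 10, 6, 12, 9, 8, 7, 6, 1, 2, 3, 4, 5, 6, 11, 10, 6, 12, 9, 8, 7, 6, 1, 2, 3, 4, 5, 6, 11, 10, 6, 12, 9, 8, 7, 6, 1, 2, 3, 4, 5, 6, 11, 10, 6, 12, 9, 8, 7, 6, 1, 2, 3, 4, 5, 6, 11, 10, 6, 12, 9, 8, 7, 6, 1, 2, 3, 4, 5, 6, 11, 10, 6, 12, 9, 8, 7, 6, 1, 2, 3, 4, 5, 6, 11, 10, 6, 12, 9, 8, 7, 6, 1, 2, 3, 4, 5, 6, 11, 10, 6, 12, 9, 8, 7, 6, 1, 2, 3, 4, 5, 6, 11, 10, 6, 12, 9, 8, 7, 6, 1, 2, 3, 4, 5, 6, 11, 10, 6, 12, 9, 8, 7, 6, 1, 2, 3, 4, 5, 6], [2, 1, 6,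 5, 4, 3, 2, 1, 6, 7, 8, 9, 12, 6, 10, 11, 6, 5, 4, 3, 2, 1, 6, 7, 8, 9, 12, 6, 10, 11, 6, 5, 4, 3, 2, 1, 6, 7, 8, 9, 12, 6, 10, 11, 6, 5, 4, 3, 2, 1, 6, 7, 8, 9, 12, 6, 10, 11, 6, 5, 4, 3, 2, 1, 6, 7, 8, 9, 12, 6, 10, 11, 6, 5, 4, 3, 2, 1, 6, 7, 8, 9, 12, 6, 10, 11, 6, 5, 4, 3, 2, 1, 6, 7, 8, 9, 12, 6, 10, 11, 6, 5, 4, 3, 2, 1, 6, 7, 8, 9, 12, 6, 10, 11, 6, 5, 4, 3, 2, 1, 6, 7, 8, 9, 12, 6, 10, 11, 6, 5, 4, 3, 2, 1, 6, 7, 8, 9, 12, 6, 10, 11, 6, 5, 4, 3, 2, 1, 6, 7, 8, 9, 12, 6, 10, 11, 6, 5, 4, 3, 2, 1, 6, 7, 8, 9, 12, 6, 10, 11, 6, 5, 4, 3, 2, 1, 6, 7, 8, 9, 12, 6, 10, 11, 6, 5, 4, 3, 2, 1, 6, 7, 8, 9, 12, 6, 10, 11, 6, 5, 4, 3, 2, 1, 6, 7, 8, 9, 12, 6, 10, 11, 6, 5, 4, 3, 2, 1, 6, 7, 8, 9, 12, 6, 10, 11, 6, 5, 4, 3, 2, 1, 6, 7, 8, 9, 12, 6, 10, 11, 1, 2], [2, 1, 11, 10, 6, 12, 9, 8, 7, 6, 1,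 2, 3, 4, 5, 6, 11, 10, 6, 12, 9, 8, 7, 6, 1, 2, 3, 4, 5, 6, 11, 10, 6, 12, 9, 8, 7, 6, 1, 2, 3, 4, 5, 6, 11, 10, 6, 12, 9, 8, 7, 6, 1, 2, 3, 4, 5, 6, 11, 10, 6, 12, 9, 8, 7, 6, 1, 2, 3, 4, 5, 6, 11, 10, 6, 12, 9, 8, 7, 6, 1, 2, 3, 4, 5, 6, 11, 10, 6, 12, 9, 8, 7, 6, 1, 2, 3, 4, 5, 6, 11, 10, 6, 12, 9, 8, 7, 6, 1, 2, 3, 4, 5, 6, 11, 10, 6, 12, 9, 8, 7, 6, 1, 2, 3, 4, 5, 6, 11, 10, 6, 12, 9, 8, 7, 6, 1, 2, 3, 4, 5, 6, 11, 10, 6, 12, 9, 8, 7, 6, 1, 2, 3, 4, 5, 6, 11, 10, 6, 12, 9, 8, 7, 6, 1, 2, 3, 4, 5, 6, 11, 10, 6, 12, 9, 8, 7, 6, 1, 2, 3, 4, 5, 6, 11, 10, 6, 12, 9, 8, 7, 6, 1, 2, 3, 4, 5, 6, 11, 10, 6, 12, 9, 8, 7, 6, 1, 2, 3, 4, 5, 6, 11, 10, 6, 12, 9, 8, 7, 6, 1, 2, 3, 4, 5, 6, 11, 10, 6, 12, 9, 8, 7, 6, 1, 2, 3, 4, 5, 6, 1, 2], [2, 1, 3, 2, 6, 5, 4, 3, 2, 1, 6, 7, 8, 9, 12, 6, 10, 11, 6, 5,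 4, 3, 2, 1, 6, 7, 8, 9, 12, 6, 10, 11, 6, 5, 4, 3, 2, 1, 6, 7, 8, 9, 12, 6, 10, 11, 6, 5, 4, 3, 2, 1, 6, 7, 8, 9, 12, 6, 10, 11, 6, 5, 4, 3, 2, 1, 6, 7, 8, 9, 12, 6, 10, 11, 6, 5, 4, 3, 2, 1, 6, 7, 8, 9, 12, 6, 10, 11, 6, 5, 4, 3, 2, 1, 6, 7, 8, 9, 12, 6, 10, 11, 6, 5, 4, 3, 2, 1, 6, 7, 8, 9, 12, 6, 10, 11, 6, 5, 4, 3, 2, 1, 6, 7, 8, 9, 12, 6, 10, 11, 6, 5, 4, 3, 2, 1, 6, 7, 8, 9, 12, 6, 10, 11, 6, 5, 4, 3, 2, 1, 6, 7, 8, 9, 12, 6, 10, 11, 6, 5, 4, 3, 2, 1, 6, 7, 8, 9, 12, 6, 10, 11, 6, 5, 4, 3, 2, 1, 6, 7, 8, 9, 12, 6, 10, 11, 6, 5, 4, 3, 2, 1, 6, 7, 8, 9, 12, 6, 10, 11, 6, 5, 4, 3, 2, 1, 6, 7, 8, 9, 12, 6, 10, 11, 6, 5, 4, 3, 2, 1, 6, 7, 8, 9, 12, 6, 10, 11, 6, 5, 4, 3, 2, 1, 6, 7, 8, 9, 12, 6, 10, 11, 2, 3, 1, 2], [2, 1, 3, 2, 11, 10, 6, 12, 9, 8, 7, 6, 1, 2, 3, 4, 5, 6, 11, 10, 6, 12, 9, 8,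 7, 6, 1, 2, 3, 4, 5, 6, 11, 10, 6, 12, 9, 8, 7, 6, 1, 2, 3, 4, 5, 6, 11, 10, 6, 12, 9, 8, 7, 6, 1, 2, 3, 4, 5, 6, 11, 10, 6, 12, 9, 8, 7, 6, 1, 2, 3, 4, 5, 6, 11, 10, 6, 12, 9, 8, 7, 6, 1, 2, 3, 4, 5, 6, 11, 10, 6, 12, 9, 8, 7, 6, 1, 2, 3, 4, 5, 6, 11, 10, 6, 12, 9, 8, 7, 6, 1, 2, 3, 4, 5, 6, 11, 10, 6, 12, 9, 8, 7, 6, 1, 2, 3, 4, 5, 6, 11, 10, 6, 12, 9, 8, 7, 6, 1, 2, 3, 4, 5, 6, 11, 10, 6, 12, 9, 8, 7, 6, 1, 2, 3, 4, 5, 6, 11, 10, 6, 12, 9, 8, 7, 6, 1, 2, 3, 4, 5, 6, 11, 10, 6, 12, 9, 8, 7, 6, 1, 2, 3, 4, 5, 6, 11, 10, 6, 12, 9, 8, 7, 6, 1, 2, 3, 4, 5, 6, 11, 10, 6, 12, 9, 8, 7, 6, 1, 2, 3, 4, 5, 6, 11, 10, 6, 12, 9, 8, 7, 6, 1, 2, 3, 4, 5, 6, 11, 10, 6, 12, 9, 8, 7, 6, 1, 2, 3, 4, 5, 6, 2, 3, 1, 2], [2, 1, 3, 2, 4, 3, 6, 5, 4, 3, 2, 1, 6, 7, 8, 9, 12, 6, 10, 11, 6, 5, 4, 3, 2, 1, 6, 7, 8, 9,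 12, 6, 10, 11, 6, 5, 4, 3, 2, 1, 6, 7, 8, 9, 12, 6, 10, 11, 6, 5, 4, 3, 2, 1, 6, 7, 8, 9, 12, 6, 10, 11, 6, 5, 4, 3, 2, 1, 6, 7, 8, 9, 12, 6, 10, 11, 6, 5, 4, 3, 2, 1, 6, 7, 8, 9, 12, 6, 10, 11, 6, 5, 4, 3, 2, 1, 6, 7, 8, 9, 12, 6, 10, 11, 6, 5, 4, 3, 2, 1, 6, 7, 8, 9, 12, 6, 10, 11, 6, 5, 4, 3, 2, 1, 6, 7, 8, 9, 12, 6, 10, 11, 6, 5, 4, 3, 2, 1, 6, 7, 8, 9, 12, 6, 10, 11, 6, 5, 4, 3, 2, 1, 6, 7, 8, 9, 12, 6, 10, 11, 6, 5, 4, 3, 2, 1, 6, 7, 8, 9, 12, 6, 10, 11, 6, 5, 4, 3, 2, 1, 6, 7, 8, 9, 12, 6, 10, 11, 6, 5, 4, 3, 2, 1, 6, 7, 8, 9, 12, 6, 10, 11, 6, 5, 4, 3, 2, 1, 6, 7, 8, 9, 12, 6, 10, 11, 6, 5, 4, 3, 2, 1, 6, 7, 8, 9, 12, 6, 10, 11, 6, 5, 4, 3, 2, 1, 6, 7, 8, 9, 12, 6, 10, 11, 3, 4, 2, 3, 1, 2], [2, 1, 3, 2, 4, 3, 11, 10, 6, 12, 9, 8, 7, 6, 1, 2, 3, 4, 5, 6, 11, 10, 6, 12, 9, 8, 7, 6, 1, 2,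 3, 4, 5, 6, 11, 10, 6, 12, 9, 8, 7, 6, 1, 2, 3, 4, 5, 6, 11, 10, 6, 12, 9, 8, 7, 6, 1, 2, 3, 4, 5, 6, 11, 10, 6, 12, 9, 8, 7, 6, 1, 2, 3, 4, 5, 6, 11, 10, 6, 12, 9, 8, 7, 6, 1, 2, 3, 4, 5, 6, 11, 10, 6, 12, 9, 8, 7, 6, 1, 2, 3, 4, 5, 6, 11, 10, 6, 12, 9, 8, 7, 6, 1, 2, 3, 4, 5, 6, 11, 10, 6, 12, 9, 8, 7, 6, 1, 2, 3, 4, 5, 6, 11, 10, 6, 12, 9, 8, 7, 6, 1, 2, 3, 4, 5, 6, 11, 10, 6, 12, 9, 8, 7, 6, 1, 2, 3, 4, 5, 6, 11, 10, 6, 12, 9, 8, 7, 6, 1, 2, 3, 4, 5, 6, 11, 10, 6, 12, 9, 8, 7, 6, 1, 2, 3, 4, 5, 6, 11, 10, 6, 12, 9, 8, 7, 6, 1, 2, 3, 4, 5, 6, 11, 10, 6, 12, 9, 8, 7, 6, 1, 2, 3, 4, 5, 6, 11, 10, 6, 12, 9, 8, 7, 6, 1, 2, 3, 4, 5, 6, 11, 10, 6, 12, 9, 8, 7, 6, 1, 2, 3, 4, 5, 6, 3, 4, 2, 3, 1, 2], [2, 1, 3, 2, 4, 3, 5, 4, 6, 5, 4, 3, 2, 1, 6, 7, 8, 9, 12, 6, 10, 11, 6, 5, 4, 3, 2, 1, 6, 7, 8, 9,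 12, 6, 10, 11, 6, 5, 4, 3, 2, 1, 6, 7, 8, 9, 12, 6, 10, 11, 6, 5, 4, 3, 2, 1, 6, 7, 8, 9, 12, 6, 10, 11, 6, 5, 4, 3, 2, 1, 6, 7, 8, 9, 12, 6, 10, 11, 6, 5, 4, 3, 2, 1, 6, 7, 8, 9, 12, 6, 10, 11, 6, 5, 4, 3, 2, 1, 6, 7, 8, 9, 12, 6, 10, 11, 6, 5, 4, 3, 2, 1, 6, 7, 8, 9, 12, 6, 10, 11, 6, 5, 4, 3, 2, 1, 6, 7, 8, 9, 12, 6, 10, 11, 6, 5, 4, 3, 2, 1, 6, 7, 8, 9, 12, 6, 10, 11, 6, 5, 4, 3, 2, 1, 6, 7, 8, 9, 12, 6, 10, 11, 6, 5, 4, 3, 2, 1, 6, 7, 8, 9, 12, 6, 10, 11, 6, 5, 4, 3, 2, 1, 6, 7, 8, 9, 12, 6, 10, 11, 6, 5, 4, 3, 2, 1, 6, 7, 8, 9, 12, 6, 10, 11, 6, 5, 4, 3, 2, 1, 6, 7, 8, 9, 12, 6, 10, 11, 6, 5, 4, 3, 2, 1, 6, 7, 8, 9, 12, 6, 10, 11, 6, 5, 4, 3, 2, 1, 6, 7, 8, 9, 12, 6, 10, 11, 4, 5, 3, 4, 2, 3, 1, 2], [2, 1, 3, 2, 4, 3, 5, 4, 11, 10, 6, 12, 9, 8, 7, 6, 1, 2, 3, 4, 5, 6, 11, 10, 6, 12, 9, 8,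 7, 6, 1, 2, 3, 4, 5, 6, 11, 10, 6, 12, 9, 8, 7, 6, 1, 2, 3, 4, 5, 6, 11, 10, 6, 12, 9, 8, 7, 6, 1, 2, 3, 4, 5, 6, 11, 10, 6, 12, 9, 8, 7, 6, 1, 2, 3, 4, 5, 6, 11, 10, 6, 12, 9, 8, 7, 6, 1, 2, 3, 4, 5, 6, 11, 10, 6, 12, 9, 8, 7, 6, 1, 2, 3, 4, 5, 6, 11, 10, 6, 12, 9, 8, 7, 6, 1, 2, 3, 4, 5, 6, 11, 10, 6, 12, 9, 8, 7, 6, 1, 2, 3, 4, 5, 6, 11, 10, 6, 12, 9, 8, 7, 6, 1, 2, 3, 4, 5, 6, 11, 10, 6, 12, 9, 8, 7, 6, 1, 2, 3, 4, 5, 6, 11, 10, 6, 12, 9, 8, 7, 6, 1, 2, 3, 4, 5, 6, 11, 10, 6, 12, 9, 8, 7, 6, 1, 2, 3, 4, 5, 6, 11, 10, 6, 12, 9, 8, 7, 6, 1, 2, 3, 4, 5, 6, 11, 10, 6, 12, 9, 8, 7, 6, 1, 2, 3, 4, 5, 6, 11, 10, 6, 12, 9, 8, 7, 6, 1, 2, 3, 4, 5, 6, 11, 10, 6, 12, 9, 8, 7, 6, 1, 2, 3, 4, 5, 6, 4, 5, 3, 4, 2, 3, 1, 2], [6, 5, 4, 3, 2, 1, 6, 7, 8, 9, 12, 6, 10, 11], [11, 10, 6, 12, 9, 8, 7, 6, 1, 2, 3,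 4, 5, 6], [0], [0], [0], [0], [0], [0], [0], [0], [0], [0], [0], [0], [0], [0], [0], [0], [0], [0], [0], [0], [0], [0], [0], [0], [0], [0], [0], [0], [0], [0], [0], [0], [0], [0], [0], [0], [0], [0], [0]]
def wsG : List (List ℕ) := [[6, 5, 4, 3, 2, 1, 6, 7, 8, 9, 12, 6, 10, 11], [11, 10, 6, 12, 9, 8, 7, 6, 1, 2, 3, 4, 5, 6], [0], [0], [0], [0], [0], [0], [0], [0], [0], [0], [0], [0], [0], [0], [0], [0], [0], [0], [0], [0], [0], [0], [0], [0], [0], [0], [0], [0], [0], [0], [0], [0], [0], [0], [0], [0], [0], [0], [0], [0], [0], [0], [0], [0], [0], [0], [0], [0], [0]]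
theorem okT : extOK relB ivB 13 wsT T24.rels T24.iv [(1, 0), (3, 0), (7, 0), (13, 0), (21, 0), (31, 0), (43, 0), (57, 0), (73, 0), (91, 0), (111, 0), (5, 0), (9, 0), (15, 0), (23, 0), (33, 0), (45, 0), (59, 0), (75, 0), (93, 0), (113, 0), (11, 0), (17, 0), (25, 0), (35, 0), (47, 0), (61, 0), (77, 0), (95, 0), (115, 0), (19, 0), (27, 0), (37, 0), (49, 0), (63, 0), (79, 0), (97, 0), (117, 0), (29, 0), (39, 0), (51, 0), (65, 0), (81, 0), (99, 0), (119, 0), (41, 0), (53, 0), (67, 0), (83, 0), (101, 0), (121, 0), (55, 0), (69, 0), (85, 0), (103, 0), (123, 0), (71, 0), (87, 0), (105, 0), (125, 0), (89, 0), (107, 0), (127, 0), (109, 0), (129, 0), (131, 0), (133, 0), (135, 0), (137, 0), (0, 0), (0, 0), (0, 0), (0, 0), (0, 0), (0, 0)]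
    [(0, 0), (0, 0), (0, 0), (0, 0), (0, 0), (0, 0), (0, 0), (0, 0), (0, 0), (0, 0), (0, 0), (0, 0), (0, 0), (0, 0), (0, 0), (0, 0), (0, 0), (0, 0), (0, 0), (0, 0), (0, 0), (0, 0), (0, 0), (0, 0), (0, 0), (0, 0), (0, 0), (0, 0), (0, 0), (0, 0), (0, 0), (0, 0), (0, 0), (0, 0), (0, 0), (0, 0), (0, 0), (0, 0), (0, 0), (0, 0), (0, 0), (0, 0), (0, 0), (0, 0), (0, 0), (0, 0), (0, 0), (0, 0), (0, 0), (0, 0), (0, 0), (0, 0), (0, 0), (0, 0), (0, 0), (0, 0), (0, 0), (0, 0), (0, 0), (0, 0), (0, 0), (0, 0), (0, 0), (0, 0)] = true := by decide +kernel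
theorem okG : extOK relB ivB 13 wsG T24g.rels T24g.iv [(1, 0), (3, 0), (7, 0), (13, 0), (21, 0), (31, 0), (43, 0), (57, 0), (73, 0), (91, 0), (111, 0), (5, 0), (9, 0), (15, 0), (23, 0), (33, 0), (45, 0), (59, 0), (75, 0), (93, 0), (113, 0), (11, 0), (17, 0), (25, 0), (35, 0), (47, 0), (61, 0), (77, 0), (95, 0), (115, 0), (19, 0), (27, 0), (37, 0), (49, 0), (63, 0), (79, 0), (97, 0), (117, 0), (29, 0), (39, 0), (51, 0), (65, 0), (81, 0), (99, 0), (119, 0), (41, 0), (53, 0), (67, 0), (83, 0), (101, 0), (121, 0), (55, 0), (69, 0), (85, 0), (103, 0), (123, 0), (71, 0), (87, 0), (105, 0), (125, 0), (89, 0), (107, 0), (127, 0), (109, 0), (129, 0), (131, 0), (133, 0), (135, 0), (137, 0), (0, 0)]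
    [(0, 0), (0, 0), (0, 0), (0, 0), (0, 0), (0, 0), (0, 0), (0, 0), (0, 0), (0, 0), (0, 0), (0, 0), (0, 0), (0, 0), (0, 0), (0, 0), (0, 0), (0, 0), (0, 0), (0, 0), (0, 0), (0, 0), (0, 0), (0, 0), (0, 0), (0, 0), (0, 0), (0, 0), (0, 0), (0, 0), (0, 0), (0, 0), (0, 0), (0, 0), (0, 0), (0, 0), (0, 0), (0, 0), (0, 0), (0, 0), (0, 0), (0, 0), (0, 0), (0, 0), (0, 0), (0, 0), (0, 0), (0, 0), (0, 0), (0, 0), (0, 0), (0, 0), (0, 0), (0, 0), (0, 0), (0, 0), (0, 0), (0, 0), (0, 0), (0, 0), (0, 0), (0, 0), (0, 0), (0, 0)] = true := by decide +kernel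
theorem homM : homOK L (coxAll Spor.Fi24.edges ++ Spor.Fi24.extra) code ivB (relB ++ [Z])
    [(0, 1), (1, 0), (3, 0), (7, 0), (13, 0), (21, 0), (31, 0), (73, 0), (43, 0), (57, 0), (111, 0), (91, 0), (1, 1), (0, 2), (5, 0), (9, 0), (15, 0), (23, 0), (33, 0), (75, 0), (45, 0), (59, 0), (113, 0), (93, 0), (3, 1), (5, 1), (0, 3), (11, 0), (17, 0), (25, 0), (35, 0), (77, 0), (47, 0), (61, 0), (115, 0), (95, 0), (7, 1), (9, 1), (11, 1), (0, 4), (19, 0), (27, 0), (37, 0), (79, 0), (49, 0), (63, 0), (117, 0), (97, 0), (13, 1), (15, 1), (17, 1), (19, 1), (0, 5), (29, 0), (39, 0), (81, 0), (51, 0), (65, 0), (119, 0), (99, 0), (21, 1), (23, 1), (25, 1), (27, 1), (29, 1), (0, 6), (41, 0), (83, 0), (53, 0), (67, 0), (121, 0), (101, 0), (31, 1), (33, 1), (35, 1), (37, 1), (39, 1), (41, 1), (0, 7), (85, 0), (55,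 0), (69, 0), (123, 0), (103, 0), (73, 1), (75, 1), (77, 1), (79, 1), (81, 1), (83, 1), (85, 1), (0, 10), (87, 1), (89, 1), (129, 0), (109, 0), (43, 1), (45, 1), (47, 1), (49, 1), (51, 1), (53, 1), (55, 1), (87, 0), (0, 8), (71, 0), (125, 0), (105, 0), (57, 1), (59, 1), (61, 1), (63, 1), (65, 1), (67, 1), (69, 1), (89, 0), (71, 1), (0, 9), (127, 0), (107, 0), (111, 1), (113, 1), (115, 1), (117, 1), (119, 1), (121, 1), (123, 1), (129, 1), (125, 1), (127, 1), (0, 12), (131, 1), (91, 1), (93, 1), (95, 1), (97, 1), (99, 1), (101, 1), (103, 1), (109, 1), (105, 1), (107, 1), (131, 0), (0, 11), (136, 0), (139, 0)] 13 = true := by decide +kernel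

theorem wv_cent {G : Type*} [Group G] {el : ℕ → G} (_ : RuleOK el relB ivB) :
    elX el ivB 13 wsG 13 ∈ Subgroup.centralizer {wv el Z} := by
  rw [elX_eq_wv, show Z = (List.replicate 17 w0).flatten by decide +kernel,
    show subst 13 wsG [13] = w0 by decide +kernel, wv_flatten, List.map_replicate, List.prod_replicate]
  exact Subgroup.mem_centralizer_singleton_iff.2 (Commute.self_pow _ _)

theorem cen {G : Type*} [Group G] {el : ℕ → G} (R : RuleOK el relB ivB) :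
    ∀ x ∈ ([1, 2, 3, 4, 5, 13] : List ℕ), elX el ivB 13 wsG x ∈ Subgroup.centralizer {wv el Z} :=
  have Q := R.extend okT
  have hf := elX_mem ivB 13 wsT (mem_cent_of_rule R 1 [1, 3, 4, 5, 6, 7, 8, 9, 10, 11, 12]
    (by decide +kernel)) [1, 3, 4, 5, 6, 7, 8, 9, 10, 11, 12] (by decide +kernel)
  (forall_cons (commute_of_goal R (l := []) (by decide +kernel) rfl
      (T24.goal13 Q _ hf) ((elX_eq_wv _ _ _ _ _).trans (congrArg _ (by decide +kernel))))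
    (forall_cons (commute_of_goal R (l := [1]) (by decide +kernel) rfl
      (T24.goal15 Q _ hf) ((elX_eq_wv _ _ _ _ _).trans (congrArg _ (by decide +kernel))))
    (forall_cons (commute_of_goal R (l := [2, 1]) (by decide +kernel) rfl
      (T24.goal17 Q _ hf) ((elX_eq_wv _ _ _ _ _).trans (congrArg _ (by decide +kernel))))
    (forall_cons (commute_of_goal R (l := [3, 2, 1]) (by decide +kernel) rfl
      (T24.goal19 Q _ hf) ((elX_eq_wv _ _ _ _ _).trans (congrArg _ (by decide +kernel))))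
    (forall_cons (commute_of_goal R (l := [4, 3, 2, 1]) (by decide +kernel) rfl
      (T24.goal21 Q _ hf) ((elX_eq_wv _ _ _ _ _).trans (congrArg _ (by decide +kernel))))
    (forall_cons (wv_cent R) (forall_nil _)))))))

theorem alg {G : Type*} [Group G] {el : ℕ → G} (R : RuleOK el relB ivB) (hZ : Subgroup.center G = ⊥)
    (h0 : ∀ x, 13 ≤ x → el x = 1)
    (htop : ∀ K : Subgroup G, (∀ x, 1 ≤ x → x ≤ 12 → el x ∈ K) → K = ⊤) :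
    ∃ ψ : Spor.Fi24 →* G, ψ.range = ⊤ ∧ ∀ g, ψ (PresentedGroup.of g) = el (code g) := by
  have Q := R.extend okG
  have h := cen R
  have h1 : wv el Z = 1 := eq_one_of_cent hZ (htop _ fun x hx hx' => by
    interval_cases x
    exacts [h 1 (by decide), h 2 (by decide), h 3 (by decide), h 4 (by decide), h 5 (by decide),
      T24g.goal6 Q _ h, T24g.goal7 Q _ h, T24g.goal8 Q _ h, T24g.goal9 Q _ h, T24g.goal10 Q _ h,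
      T24g.goal11 Q _ h, T24g.goal12 Q _ h])
  have R' := R.append [Z] (forall_cons h1 (forall_nil' _)) (by decide +kernel)
  have hc : ∀ g, code g < 64 := fun g => by cases g <;> decide
  have h2 := coxHom_el Spor.Fi24.edges Spor.Fi24.extra R' hc homM h0
  refine ⟨coxHom Spor.Fi24.edges Spor.Fi24.extra R' hc homM, htop _ fun x _ _ => ⟨_, h2 x⟩,
    fun g => (Eq.trans ?_ (h2 (code g)))⟩
  cases g <;> rfl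

def tup : List Pt := [([], 1), ([], 2), ([], 3), ([], 4), ([], 5), ([], 6), ([], 7), ([], 8), ([], 9), ([], 10)]
theorem t1 : K23.coxOK tup K23.full F23.C3 edges = true := by decide +kernel
theorem t2 : K23.allIn tup K23.full = true := by decide +kernel
theorem t3 : K23.allIn (([1, 2, 3, 4, 5, 7, 8] : List ℕ).map fun i => tup.getD i ([], 0)) F23.C3 = true := by
  decide +kernel
theorem t4 : Nat.beq (dif K23.full (K23.orb tup [1, 0, 2, 3, 1, 4, 7, 5, 8, 3, 2, 6, 9, 4, 7, 3, 5, 1, 4, 2, 7, 8, 3, 1, 5, 6, 0, 7, 2, 4, 5, 8, 3, 4, 9, 1, 6, 3, 2, 7, 0, 1, 3, 0, 2, 4, 7, 1, 3, 0, 5, 4, 2, 6, 1, 9] (K23.sing (tup.getD 0 ([], 0))))) 0 = true := by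
  decide +kernel
theorem t5 : Nat.beq (dif (K23.sing (dpt tup sE)) F23.C3) 0 = true := by decide +kernel
theorem t6 : K23.allIn (([0, 1, 2, 3, 4, 5, 7] : List ℕ).map fun i => tup.getD i ([], 0))
    (K23.perp ([], 10)) = true := by decide +kernel
theorem t7 : Nat.beq (Nat.land (K23.sing ([], 1)) F23.C3) 0 = true := by decide +kernel

theorem core_of {G : Type*} [Group G] {D : Set G} (hD : IsThreeTranspositionClass D) {a b : G}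
    {k : Spor.Fi23 → G} (L : Loc D a b (T23.st K23.full) (T23.st F23.C3) k) :
    ∃ ψ : Spor.Fi24 →* G, ψ.range = ⊤ ∧ ∀ g, ψ (PresentedGroup.of g) = T23.tel a b k tup (code g) := by
  have hF : T23.st K23.full = D23 := T23.st_full
  have R0 : RuleOK _ (coxR 12 edges) ivB := T23.ruleOK_tel L t1 (by decide +kernel)
  have r1 := T23.rel_triv L t2 (w := F23.w1) (by decide) (by decide +kernel) t3
    (Fi23P.R.hrel _ (by decide +kernel))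
  have hw : ∀ i ∈ F23.w2, i < tup.length := by decide +kernel
  have hw' : ∀ i ∈ F23.w2, i ∈ ([0, 1, 2, 3, 4, 5, 7] : List ℕ) := by decide +kernel
  have c2 := T23.comm_triv L t2 (w := F23.w2) (by decide +kernel) (Fi23P.R.hrel _ (by decide +kernel))
  have hj : T23.val ([], 10) ∈ T23.st K23.full := (T23.allIn_sound t2 _ (by decide)).2
  have r2 : wv (T23.tel a b k tup) (sh F23.w2 ++ [1]) = 1 := by
    have h := c2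
    rw [T23.wv_sh hw] at h
    have h1 := L.eq_one_or hD (L.ch.mem hj)
      ((L.hS _ hj).2 (by
        rw [T23.st_eq_of F23.U3, T23.st_lor]
        exact Or.inl (T23.allIn_sound F23.U5 _ (by decide)).2))
      (by rw [hF]; exact fun t ht => cent_cent23' ht) (fun x hx => by
        obtain ⟨y, hy, rfl⟩ := List.mem_map.1 hx
        obtain ⟨i, hi, rfl⟩ := List.mem_map.1 hy
        have h2 := (T23.allIn_sound t6 _ (List.mem_map.2 ⟨i, hw' i hi, rfl⟩)).2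
        rw [← T23_dat, T23.st_perp (by decide)] at h2
        have h3 := (L.ch.nb L.tt L.ttn L.cl hj).mem ⟨hF.ge h2.1, h2.2⟩
        exact ⟨h3.1.1, h3.2⟩)
      h.1 h.2
    rw [← T23.wv_sh (a := a) (b := b) hw] at h1
    rw [wv_app, wv_one]
    refine h1.resolve_left fun h2 => L.hab ?_
    have R1 : RuleOK _ TE8.rels TE8.iv :=
      (R0.append [sh F23.w2] (forall_cons h2 (forall_nil' _)) (by decide +kernel)).sub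
        (wit := [(5, 0), (9, 0), (15, 0), (23, 0), (33, 0), (45, 0), (75, 0), (11, 0), (17, 0), (25, 0), (35, 0), (47, 0), (77, 0), (19, 0), (27, 0), (37, 0), (49, 0), (79, 0), (29, 0), (39, 0), (51, 0), (81, 0), (41, 0), (53, 0), (83, 0), (55, 0), (85, 0), (87, 0), (133, 0)]) (by decide +kernel)
    exact (Subgroup.mem_centralizer_singleton_iff.1 (TE8.goal2 R1 _
      (mem_cent_of_rule R0 1 _ (by decide +kernel)))).symm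
  have r3 : wv (T23.tel a b k tup) ([2] ++ dW sE ++ ([2] ++ dW sE)) = 1 := by
    obtain ⟨k1, k2, k3⟩ := T23.wv_dW L t2 (e := sE) (by decide +kernel)
    rw [wv_app, wv_app, k3, wv_one, ← sq]
    exact (commute_iff_sq (TT.mul_self L.grp.1 L.hb) (TT.mul_self L.grp.1 (L.ch.mem k2).1)).1
      ((L.hS _ k2).2 (T23.mem_st_of k1 t5))
  exact alg (R0.append _ (forall_cons r1 (forall_cons r2 (forall_cons r3 (forall_nil' _))))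
    (by decide +kernel)) L.cen (fun x hx => T23.tel_big a b k hx)
    fun K hK => T23.tel_eq_top L t2 (by decide) t4 hK

end F24

/-- the generator `l` of the presented group Fi24 -/
def l24 : Spor.Fi24 := PresentedGroup.of Spor.Fi24.Gen.l

/-- the generator `k` of the presented group Fi24 -/
def k24 : Spor.Fi24 := PresentedGroup.of Spor.Fi24.Gen.k

theorem core24_hom {G : Type*} [Group G] {D : Set G} (hD : IsThreeTranspositionClass D) {a b : G}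
    {k : Spor.Fi23 → G} (L : Loc D a b D23 (T23.st F23.C3) k) :
    ∃ ψ : Spor.Fi24 →* G, ψ.range = ⊤ ∧ ψ a24 ∈ D ∧ ψ l24 = a ∧ ψ k24 = b := by
  have hF : T23.st K23.full = D23 := T23.st_full
  obtain ⟨ψ, h1, h2⟩ := F24.core_of hD (k := k) (by rw [hF]; exact L)
  refine ⟨ψ, h1, ?_, h2 _, h2 _⟩
  rw [show ψ a24 = T23.tel a b k F24.tup (0 + 3) from h2 _, T23.tel_add a b k (by decide)]
  exact (L.ch.mem (T23.val_mem (by decide))).1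

end Cfsg.Agent.H96
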