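import Cfsg.Agent.H96.Loc3
import Cfsg.Agent.H96.Cl23
import Cfsg.Agent.H10.SUSimple

/-! Width, centre of the centraliser of a transposition of Fi22. -/

set_option autoImplicit false
set_option maxRecDepth 100000
set_option exponentiation.threshold 400000

namespace Cfsg.Agent.H96

open Cfsg.Agent.H58 Cfsg.Agent.H95

theorem perfect_of_odd {G : Type*} [Group G] {A : Set G} (h1 : ∀ x ∈ A, x * x = 1)
    (h2 : ∀ x ∈ A, ∀ y ∈ A, ∃ g ∈ Subgroup.closure A, cj g x = y) {l : List G} (h3 : ∀ x ∈ l, x ∈ A)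
    (h4 : Odd l.length) (h5 : l.prod = 1) : Group.IsPerfect (Subgroup.closure A) := by
  classical
  let φ : G → Abelianization (Subgroup.closure A) := fun x =>
    if h : x ∈ Subgroup.closure A then Abelianization.of (⟨x, h⟩ : Subgroup.closure A) else 1
  have e1 : ∀ x (h : x ∈ Subgroup.closure A), φ x = Abelianization.of (⟨x, h⟩ : Subgroup.closure A) :=
    fun x h => dif_pos h
  have e2 : ∀ x ∈ Subgroup.closure A, ∀ y ∈ Subgroup.closure A, φ (x * y) = φ x * φ y := by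
    intro x hx y hy
    rw [e1 x hx, e1 y hy, e1 _ (mul_mem hx hy), ← map_mul]; rfl
  have e0 : φ 1 = 1 := by rw [e1 1 (one_mem _)]; exact map_one _
  have e3 : ∀ x ∈ A, ∀ y ∈ A, φ x = φ y := by
    intro x hx y hy
    obtain ⟨g, hg, rfl⟩ := h2 x hx y hy
    have hx' := Subgroup.subset_closure hx
    rw [cj_def, e2 _ (mul_mem hg hx') _ (inv_mem hg), e2 _ hg _ hx', mul_right_comm,
      ← e2 _ hg _ (inv_mem hg), mul_inv_cancel, e0, one_mul]
  have e4 : ∀ x ∈ A, φ x = 1 := by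
    intro x hx
    have k1 : ∀ l : List G, (∀ y ∈ l, y ∈ A) →
        l.prod ∈ Subgroup.closure A ∧ φ l.prod = φ x ^ l.length := by
      intro l
      induction l with
      | nil => intro _; exact ⟨one_mem _, by simpa using e0⟩
      | cons y l ih =>
        intro h
        have k2 := ih fun z hz => h z (List.mem_cons_of_mem _ hz)
        have k3 := h y List.mem_cons_self
        rw [List.prod_cons, e2 _ (Subgroup.subset_closure k3) _ k2.1, k2.2, e3 y k3 x hx,
          List.length_cons, pow_succ']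
        exact ⟨mul_mem (Subgroup.subset_closure k3) k2.1, rfl⟩
    have k2 := (k1 l h3).2
    have k3 : φ x ^ 2 = 1 := by
      rw [sq, ← e2 _ (Subgroup.subset_closure hx) _ (Subgroup.subset_closure hx), h1 x hx, e0]
    obtain ⟨n, hn⟩ := h4
    rw [h5, e0, hn, pow_succ, pow_mul, k3, one_pow, one_mul] at k2
    exact k2.symm
  refine ⟨eq_top_iff.2 fun x _ => ?_⟩
  obtain ⟨x, hx⟩ := x
  induction hx using Subgroup.closure_induction with
  | mem y hy =>
    have := e4 y hy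
    rw [e1 y (Subgroup.subset_closure hy)] at this
    exact (QuotientGroup.eq_one_iff _).1 this
  | one => exact one_mem _
  | mul y z hy hz ih1 ih2 => exact mul_mem (ih1 trivial) (ih2 trivial)
  | inv y hy ih => exact inv_mem (ih trivial)

theorem LModel.perfect_of {G : Type*} [Group G] {D : Set G} (T : LModel G D) {R : ℕ}
    (h2 : ∀ x ∈ T.st R, ∀ y ∈ T.st R, Conn (T.st R) x y) {l : List Pt} (h3 : T.dat.allIn l R = true)
    (h4 : Odd l.length) (h5 : wv T.el (LModel.prodW l) = 1) :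
    Group.IsPerfect (Subgroup.closure (T.st R)) := by
  refine perfect_of_odd (l := l.map T.val) (fun x hx => TT.mul_self T.tt (T.st_subset _ hx))
    (fun x hx y hy => (h2 x hx y hy).exists_conj T.tt (T.st_subset _) hx) (fun x hx => ?_)
    (by simpa using h4) ?_
  · obtain ⟨p, hp, rfl⟩ := List.mem_map.1 hx
    exact (T.allIn_sound h3 p hp).2
  · rw [← h5, LModel.prodW, wv_flatten, List.map_map]
    congr 1
    exact List.map_congr_left fun p hp => (T.wv_rfW (T.allIn_sound h3 p hp).1).symm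

namespace F22

/-- a base of `D22` containing `a` -/
def base : List Pt := [([], 1), ([], 8), ([], 6), ([9, 8], 4), ([3, 4, 8, 9, 5, 4, 8, 6, 5, 4], 3), ([4, 8, 7, 6, 5, 4], 3), ([9, 8, 7, 6, 5, 4], 3), ([3, 4, 8, 9, 2, 3, 4, 8, 7, 6, 5, 4, 3, 2], 1), ([5, 4, 8, 9, 6, 5, 4, 8, 7, 6, 5, 4], 3), ([7, 6, 5, 4, 8, 9, 2, 3, 4, 8, 5, 4, 3, 2], 1), ([3, 4, 8, 9, 8, 4, 5, 2, 3, 4, 8, 6, 5, 4, 3, 2], 1), ([3, 4, 8, 9, 3, 4, 5, 2, 3, 4, 8, 6, 5, 4, 3, 2], 1), ([3, 4, 8, 9, 5, 6, 4, 5, 2, 3, 4, 8, 7, 6, 5, 4, 3, 2], 1), ([7, 6, 5, 4, 8, 9, 8, 6, 4, 5, 2, 3, 4, 8, 7, 6, 5, 4, 3, 2], 1), ([7, 6, 5, 4, 8, 9, 6, 3, 4, 5, 2, 3, 4, 8, 7, 6, 5, 4, 3, 2], 1), ([3, 4, 8, 9, 8, 5, 6, 3, 4, 5, 2, 3, 4, 8, 7, 6, 5, 4, 3, 2], 1), ([4, 8, 5, 6, 4, 5, 3, 4, 8, 9, 2, 3, 4, 8, 7, 6, 5, 4, 3, 2], 1), ([9, 8, 5, 6, 4, 5, 3, 4, 8, 9, 4, 8, 5, 6, 4, 5, 2, 3, 4, 8, 7, 6, 5, 4, 3, 2], 1), ([4, 8, 5, 6, 4, 5, 3, 4, 8, 9, 4, 8, 5, 6, 4, 5, 2, 3, 4, 8, 7, 6, 5, 4, 3, 2],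 1), ([4, 8, 5, 6, 4, 5, 3, 4, 8, 9, 4, 5, 6, 3, 4, 5, 2, 3, 4, 8, 7, 6, 5, 4, 3, 2], 1), ([9, 8, 5, 6, 4, 5, 3, 4, 8, 9, 4, 5, 6, 3, 4, 5, 2, 3, 4, 8, 7, 6, 5, 4, 3, 2], 1), ([7, 6, 5, 4, 8, 9, 5, 6, 4, 5, 2, 3, 4, 8, 7, 6, 5, 4, 3, 2], 1)]
def baseM : ℕ := nat_lit 0x1800000000000000000000000018000000000000000000000000000000000000000000000000000000000000000000000000000000000000000000000000000000000000000000000000000000000000000000000000000000000000000000000000000000000000000000000000000000000000000000000000000000000000000000000000000000000000008000000000001080000000400100000000000000000000000000000000000000000000000000000000000000000000020000000000000000000000000000000000000000000000000000000000000080200000000000000000000000000000000000000020800000000040000000000000000000000100000000000000000000008000480000000000180001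
theorem bs0 : base.all K22.okP = true := by decide +kernel
theorem bs1 : Nat.beq (K22.cperps K22.full base) baseM = true := by decide +kernel
theorem bs2 : Nat.beq (K22.sings base) baseM = true := by decide +kernel
theorem bs3 : K22.cntIs 12 22 baseM = true := by decide +kernel
def odd7 : List Pt := [([], 8), ([], 6), ([9, 8], 4), ([3, 4, 8, 9, 5, 4, 8, 6, 5, 4], 3), ([4, 8, 7, 6, 5, 4], 3), ([9, 8, 7, 6, 5, 4], 3), ([5, 4, 8, 9, 6, 5, 4, 8, 7, 6, 5, 4], 3)]
theorem od1 : K22.allIn odd7 Em = true := by decide +kernel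
theorem od2 : ∀ t < 12, eqsAt Fi22M.nets 3510 12 [(LModel.prodW odd7, [])] t = 0 := by decide +kernel
def cw : List Pt := [([], 4), ([], 8), ([], 5), ([], 9), ([], 6), ([], 7)]
theorem cc1 : K22.allIn cw (Nat.land (K22.perp ([], 1)) (K22.perp ([], 2))) = true := by decide +kernel
theorem cc2 : Nat.beq (dif (K22.perps K22.full cw) (Nat.lor (Nat.lor (K22.perp ([], 1)) (K22.sing ([], 1)))
    (Nat.lor (K22.sing ([], 2)) (K22.sing (cjP ([], 1) ([], 2)))))) 0 = true := by decide +kernel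
theorem cc3 : K22.allIn [([], 3), ([], 4), ([], 5), ([], 6), ([], 7), ([], 8), ([], 9)] Em = true := by
  decide +kernel

end F22

open F22

theorem isBase22 : IsBase D22 (T22.st baseM) := T22.isBase_of bs0 bs1 bs2

theorem ncard_base22 : (T22.st baseM).ncard = 22 := T22.ncard_st bs3

theorem width22 : commutingWidth D22 = 22 :=
  have := Fi22P.finite
  (width_eq tt22 conj22 isBase22).trans ncard_base22

theorem letter_mem_nb22 : ∀ x ∈ ([3, 4, 5, 6, 7, 8, 9] : List ℕ), T22.el x ∈ nb D22 a22 := by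
  intro x hx
  rw [← st_Em, ← T22.val_letter]
  exact (T22.allIn_sound cc3 _ (by revert x; decide)).2

theorem eq_top22 (K : Subgroup Spor.Fi22) (h1 : nb D22 a22 ⊆ K) (h2 : a22 ∈ K) (h3 : T22.el 2 ∈ K) :
    K = ⊤ :=
  Fi22P.eq_top K (forall_cons (F22.el_a ▸ h2) (forall_cons h3 fun x hx => h1 (letter_mem_nb22 x hx)))

theorem cent_cent22 (z : Spor.Fi22) (h1 : Commute z a22) (h2 : ∀ x ∈ nb D22 a22, Commute z x) :
    z = 1 ∨ z = a22 := by
  rw [← T22_val_a] at h1 h2 ⊢
  refine T22.cent_cent (b := ([], 2)) (by decide) (by decide) ?_ cc1 cc2 ?_ h1 h2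
  · rw [T22_val_a, T22.val_letter]; exact not_commute_ab22
  · rw [T22_val_a, T22.val_letter]; exact eq_top22

theorem perfect_nb22 : Group.IsPerfect (Subgroup.closure (nb D22 a22)) := by
  rw [← st_Em]
  exact T22.perfect_of (by rw [st_Em]; exact nice22.ecn) od1 (by decide)
    (Fi22P.M.wv_eq Fi22P.inj (b := 12) (by decide) od2 _ List.mem_cons_self)

theorem mem_closure_nb22 : a22 ∈ Subgroup.closure (nb D22 a22) := by
  rw [closure_nb22, Subgroup.mem_centralizer_singleton_iff]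

theorem quasisimple_nb22 : IsQuasisimple (Subgroup.closure (nb D22 a22)) := by
  obtain ⟨e⟩ := u6_22 H29.F4 (by decide)
  have : Fact (Fintype.card H29.F4 = 2 ^ 2) := ⟨by decide⟩
  have := H10.psu_isSimpleGroup (n := 6) (F := H29.F4) (q := 2) (by decide) (by decide)
  exact ⟨perfect_nb22, e.isSimpleGroup⟩

end Cfsg.Agent.H96
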