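import Cfsg.Agent.H52.Tb24
import Cfsg.Agent.H96.T24

/-! Certificates for the multiplier of Fi24'. -/

set_option autoImplicit false
set_option maxRecDepth 100000
set_option exponentiation.threshold 400000

namespace Cfsg.Agent.H96.Mu

open Cfsg.Agent.H58 Cfsg.Agent.H52.Fi

/-- a transposition commuting with `l` and `k` outside the class of the letters -/
def b2 : Pt := ([1, 2, 3, 4, 5, 6, 7, 10, 8, 9, 4, 8, 5, 6, 3, 4, 5, 2, 3, 4, 8, 9, 6, 4, 5, 2, 3, 4, 8, 7, 6, 5, 4, 3, 2], 1)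

def ws : List (List ℕ) := [[2], [3], [4], [5], [6], [7], [8], [9], [10], 2 :: rfW b2]

def gw : List ℕ := [12, 4, 5, 6, 7, 10, 4, 8, 9, 4, 3, 2, 1]

theorem cov : Nat.beq (dif (Nat.land (K24.perp ([], 12)) (K24.perp ([], 11))) (bfs F24M.nets ws
    [1, 0, 2, 3, 6, 1, 4, 7, 2, 5, 8, 3, 6, 1, 4, 2, 3, 1, 6, 0, 7, 5, 4, 2, 5, 1, 8, 0, 3, 2, 1, 6, 2, 3, 4, 5, 8, 9, 9]
    (K24.sing ([], 2)))) 0 = true := by decide +kernel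

theorem g1 : tfix K24 Tb24.tb [2 :: rfW b2] [([], 12), ([], 11)] = true := by decide +kernel

theorem g2 : teq K24 Tb24.tb [2 :: rfW b2] [0, 0, 0] [] = true := by decide +kernel

/-- the steps of the reduction of `(k γ) ^ 17` -/
noncomputable def chk (t : List (Pt × List Pt)) : List Pt → Bool :=
  List.rec (motive := fun _ => List Pt → Bool) (fun r => r.isEmpty) (fun c _ ih r =>
    c.2.all K24.okP && tfix K24 Tb24.tb ([11] :: [12] :: ((r.map fun p => rfW (gw ++ p.1, p.2)) ++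
      c.2.map rfW)) [c.1] && tfix K24 Tb24.tb [(c.2.map rfW).flatten.reverse ++
        11 :: (r.map fun p => rfW (gw ++ p.1, p.2)).flatten] [([], 12)] && ih c.2) t

def steps : List (Pt × List Pt) := [(([], 6), [([], 11)]),
  (([], 7), [([12, 11, 4, 8, 5, 4, 3, 2], 1), ([], 11)]),
  (([], 10), [([12, 11, 9, 5, 4, 8, 6, 5, 4, 3, 2], 1), ([11, 2], 1)]),
  (([], 6), [([12, 11, 4, 8, 5, 6, 4, 5, 3, 4, 8, 7, 6, 5, 4, 3, 2], 1), ([11], 1)]),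
  (([], 7), [([1, 11, 5, 6, 7, 10, 4, 8, 9, 5, 6, 3, 4, 5, 2, 3, 4, 8, 7, 6, 5, 4, 3, 2], 1)]),
  (([], 10), [([11, 8, 4, 5, 6, 7, 10, 8, 4, 5, 3, 4, 8, 9, 5, 6, 4, 5, 2, 3, 4, 8, 7, 6, 5, 4, 3, 2], 1), ([11], 1)]),
  (([7, 6], 5), [([12, 11, 3, 4, 5, 6, 7, 10, 5, 3, 4, 8, 5, 6, 3, 4, 5, 2, 3, 4, 8, 9, 6, 4, 5, 2, 3, 4, 8, 7, 6, 5, 4, 3, 2], 1)]),
  (([], 3), [([2, 1, 11, 12, 3, 2, 1, 11, 4, 5, 6, 7, 10, 9, 5, 4, 8, 6, 3, 4, 5, 2, 3, 4, 8, 9, 5, 6, 4, 5, 2, 3, 4, 8, 7, 6, 5, 4, 3, 2], 1)]),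
  (([], 2), [([12, 4, 3, 2, 1, 11, 6, 7, 10, 7, 6, 5, 4, 8, 7, 6, 3, 4, 5, 2, 3, 4, 8, 9, 6, 3, 4, 5, 2, 3, 4, 8, 7, 6, 5, 4, 3, 2], 1)]),
  (([], 3), [([1, 11, 7, 10, 9, 5, 4, 8, 6, 3, 4, 5, 1, 2, 3, 4, 8, 9, 5, 6, 4, 5, 2, 3, 4, 8, 7, 6, 5, 4, 3, 2], 1)]),
  (([], 3), [([12, 11, 10, 7, 6, 5, 1, 2, 3, 4, 8, 9, 3, 4, 5, 2, 3, 4, 8, 7, 6, 5, 4, 3, 2], 1), ([], 11)]),
  (([], 2), [([1, 11, 8, 9, 2, 3, 4, 8, 7, 6, 5, 4, 3, 2], 1)]),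
  (([], 6), [([12, 11, 10, 9, 4, 8, 7, 6, 5, 4, 3, 2], 1), ([], 11)]),
  (([], 7), [([12, 11, 3, 2], 1), ([11, 2], 1)]),
  (([], 6), [([12, 11, 2], 1), ([11], 1)]),
  (([], 6), [([12, 11], 1)]),
  (([], 6), [])]

theorem ck : chk steps [] = true := by decide +kernel

end Cfsg.Agent.H96.Mu
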