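import Cfsg.Agent.H96.OutK
import Cfsg.Agent.H96.C2D

/-! Data for the outer involutions of Fi22. -/

set_option autoImplicit false
set_option maxRecDepth 100000
set_option exponentiation.threshold 400000
set_option Elab.async false

namespace Cfsg.Agent.H96.O22

open Cfsg.Agent.H14 Cfsg.Agent.H56 Cfsg.Agent.H52.Fi Cfsg.Agent.H96.C2B

def mVT : ℕ := nat_lit 0x5b6a4a1629a4a198793872f1e0d458bd48d242cd30f337f281373f
def mR : BT := (.node (nat_lit 34) (.node (nat_lit 19) (.node (nat_lit 13) (.node (nat_lit 10) (.node (nat_lit 7) (.leaf (nat_lit 31)) (.leaf (nat_lit 22))) (.node (nat_lit 11) (.leaf (nat_lit 32)) (.leaf (nat_lit 21)))) (.node (nat_lit 16) (.node (nat_lit 14) (.leaf (nat_lit 18)) (.leaf (nat_lit 23))) (.node (nat_lit 17) (.leaf (nat_lit 11)) (.node (nat_lit 18) (.leaf (nat_lit 17)) (.leaf (nat_lit 12)))))) (.node (nat_lit 25) (.node (nat_lit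 22) (.node (nat_lit 20) (.leaf (nat_lit 2)) (.leaf (nat_lit 14))) (.node (nat_lit 24) (.leaf (nat_lit 35)) (.leaf (nat_lit 16)))) (.node (nat_lit 31) (.node (nat_lit 28) (.leaf (nat_lit 26)) (.leaf (nat_lit 1))) (.node (nat_lit 32) (.leaf (nat_lit 5)) (.node (nat_lit 33) (.leaf (nat_lit 3)) (.leaf (nat_lit 25))))))) (.node (nat_lit 49) (.node (nat_lit 40) (.node (nat_lit 36) (.node (nat_lit 35) (.leaf (nat_lit 30)) (.leaf (nat_lit 13))) (.node (nat_lit 38) (.leaf (nat_lit 28)) (.leaf (nat_lit 29)))) (.node (nat_lit 44) (.node (nat_lit 41) (.leaf (nat_lit 27)) (.leaf (nat_lit 33))) (.node (nat_lit 47) (.leaf (nat_lit 10)) (.node (nat_lit 48) (.leaf (nat_lit 15)) (.leaf (nat_lit 8)))))) (.node (nat_lit 54) (.node (nat_lit 51) (.node (nat_lit 50) (.leaf (nat_lit 20)) (.leaf (nat_lit 4))) (.node (nat_lit 52) (.leaf (nat_lit 6)) (.leaf (nat_lit 9))))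 (.node (nat_lit 57) (.node (nat_lit 56) (.leaf (nat_lit 34)) (.leaf (nat_lit 19))) (.node (nat_lit 60) (.leaf (nat_lit 24)) (.node (nat_lit 63) (.leaf (nat_lit 7)) (.leaf (nat_lit 0))))))))
def mgs : List (ℕ × ℕ) := [(nat_lit 0xc10204081, nat_lit 0x8a38607de75c6d865a5d65514125133c934420a38b04200c0c61c5), (nat_lit 0x83f9ebb6e, nat_lit 0x8e18a07de61c6da65d4503944cc5d62151d22c624f34a144002043), (nat_lit 0xcd06d7081, nat_lit 0x8e27dd85781c6da4987965543994493d334c1ca4012c51840c0202), (nat_lit 0xf1020479d, nat_lit 0x8e282175e7d655a6585dc6cc4d21103ce35418a24214b1d10c8001), (nat_lit 0xc90684081, nat_lit 0x8e285e7e05dc6d465174f35a2d260858754c4ca0503861440c2240), (nat_lit 0xd10204095, nat_lit 0x8e286071e59f6d36503dd54b68a2185ce3465122511cc1420c4040)]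
def mgens : List ℕ := [nat_lit 0x8a38607de75c6d865a5d65514125133c934420a38b04200c0c61c5, nat_lit 0x8e18a07de61c6da65d4503944cc5d62151d22c624f34a144002043, nat_lit 0x8e27dd85781c6da4987965543994493d334c1ca4012c51840c0202, nat_lit 0x8e282175e7d655a6585dc6cc4d21103ce35418a24214b1d10c8001, nat_lit 0x8e285e7e05dc6d465174f35a2d260858754c4ca0503861440c2240, nat_lit 0x8e286071e59f6d36503dd54b68a2185ce3465122511cc1420c4040]
def mcertL0 : Lev := ⟨nat_lit 0, nat_lit 0xfffffffff, (.node (nat_lit 18) (.node (nat_lit 9) (.node (nat_lit 4) (.node (nat_lit 2) (.node (nat_lit 1) (.leaf (nat_lit 0x8e28607de75c6da6585d65544d24503ce34c2ca2481c61440c2040)) (.leaf (nat_lit 0x8e282175e7d655a6585dc6cc4d21103ce35418a24214b1d10c8001))) (.node (nat_lit 3) (.leaf (nat_lit 0x8e27dd85781c6da4987965543994493d334c1ca4012c51840c0202)) (.leaf (nat_lit 0x8e18a07de61c6da65d4503944cc5d62151d22c624f34a144002043))))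 (.node (nat_lit 6) (.node (nat_lit 5) (.leaf (nat_lit 0x8e27dd7175a16ce4893e054768a0587933455194112cc1800c4202)) (.leaf (nat_lit 0x8a38607de75c6d865a5d65514125133c934420a38b04200c0c61c5))) (.node (nat_lit 7) (.leaf (nat_lit 0x8a37dd85781c6d849a79655125950e3d034404a4c720008c0c52c6)) (.node (nat_lit 8) (.leaf (nat_lit 0x8a382175e7d655865a5dc6c44123133c935108a3860080540cb147)) (.leaf (nat_lit 0x8e275f81785655a49879c6cc3991093d335414a4001872d10c1088)))))) (.node (nat_lit 13) (.node (nat_lit 11) (.node (nat_lit 10) (.leaf (nat_lit 0x8e281e7615d654c6447cf35a1926027056d44ca01038b1d10c8241)) (.leaf (nat_lit 0x89f8dd85769c6d84a050e4112447961d52190404cf34a08c1852c3))) (.node (nat_lit 12) (.leaf (nat_lit 0x8a375f81785655849a79c6c425930e3d035100a4c50812140c718b)) (.leaf (nat_lit 0x8a37dd7175a16c948e3e054160a1da7903404594d42040850cc2c6)))) (.node (nat_lit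 15) (.node (nat_lit 14) (.leaf (nat_lit 0x8a08e175e69655865f3132444115dc19b01208838f34a0541cb143)) (.leaf (nat_lit 0x8a381e7615d654464c7cf3580926867006d140a1532480540cb387))) (.node (nat_lit 16) (.leaf (nat_lit 0x8dd89f81761655a4a11094cc39479c01b19914740f34a2d1201083)) (.node (nat_lit 17) (.leaf (nat_lit 0x8e275781f79654c48484f35a1596007066d438a0894c72d10c1408)) (.leaf (nat_lit 0x8e275f59772054e4893e16c568a0187933473194041942c10d1088))))))) (.node (nat_lit 27) (.node (nat_lit 22) (.node (nat_lit 20) (.node (nat_lit 19) (.leaf (nat_lit 0x89f8dd7173a16c94961da4016003e051520a4444de35908518c2c3)) (.leaf (nat_lit 0x8a375781f79654448c84f3580196857026d124a18e4012140c74cb))) (.node (nat_lit 21) (.leaf (nat_lit 0x8a375f59772054948e3e16c060a15a7903411194cc0912070d418b)) (.leaf (nat_lit 0x8a08de7613165446576860180917cf4cd25240815c6ca0541cb383)))) (.node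 (nat_lit 24) (.node (nat_lit 23) (.leaf (nat_lit 0x8dd89781f11654c49e60019a15484f24d4d938709c6ca2d1201403)) (.leaf (nat_lit 0x8dd89f59726054e49c0184c56873e111b18a31441e3592c1211083))) (.node (nat_lit 25) (.leaf (nat_lit 0x8e275759f3e054548071e34e30a2448466c76990984d42c10d1408)) (.node (nat_lit 26) (.leaf (nat_lit 0x89f70e8c77616c90165da4015523d351820a34480b44264518378c)) (.leaf (nat_lit 0x8a375759f3e054048571e34910a38c8426c161919a4112070d44cb)))))) (.node (nat_lit 31) (.node (nat_lit 29) (.node (nat_lit 28) (.leaf (nat_lit 0x8a07a332174600465769655209150f4cd25828814b0506df1dc0ce)) (.leaf (nat_lit 0x8dd5e211f80018c49e61655915444f24d4da2870812ce6e121c0d0))) (.node (nat_lit 30) (.leaf (nat_lit 0x8dd89759f02054548f24418e30771e60d4ca6940a16d92c1211403)) (.leaf (nat_lit 0x8dd5898807e054e1dc5d84c56d23d011a18a35484230b641203791)))) (.node (nat_lit 33)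 (.node (nat_lit 32) (.leaf (nat_lit 0x8dd5e201f58418548f26054a30705e60d4ce6540912da6dc2210d0)) (.leaf (nat_lit 0x8dd5808895e05451cf7c418e35270260c4ca6d479068b641203851))) (.node (nat_lit 34) (.leaf (nat_lit 0x8dd0165c98841851cf7e054a35204260c4ce2d478365b69c210461)) (.node (nat_lit 35) (.leaf (nat_lit 0x8c07565c93c41851e204230a34e7e00d56522db7984d469c850448)) (.leaf (nat_lit 0x237565c93c41a21c504231f80e28d0de65c61b54b4502128544da))))))))⟩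
def mcertC0 : LevCert := ⟨mcertL0,
    [(nat_lit 5, nat_lit 0), (nat_lit 3, nat_lit 1), (nat_lit 2, nat_lit 2), (nat_lit 1, nat_lit 3), (nat_lit 6, nat_lit 2), (nat_lit 7, nat_lit 3), (nat_lit 8, nat_lit 3), (nat_lit 4, nat_lit 5), (nat_lit 9, nat_lit 4), (nat_lit 10, nat_lit 1), (nat_lit 11, nat_lit 3), (nat_lit 12, nat_lit 5), (nat_lit 13, nat_lit 1), (nat_lit 14, nat_lit 4), (nat_lit 15, nat_lit 1), (nat_lit 16, nat_lit 4), (nat_lit 17, nat_lit 5), (nat_lit 18, nat_lit 5), (nat_lit 19, nat_lit 4), (nat_lit 20, nat_lit 5), (nat_lit 21, nat_lit 4), (nat_lit 22, nat_lit 4), (nat_lit 23, nat_lit 5), (nat_lit 24, nat_lit 5), (nat_lit 25, nat_lit 2), (nat_lit 26, nat_lit 5), (nat_lit 27, nat_lit 3), (nat_lit 28, nat_lit 3), (nat_lit 29, nat_lit 5), (nat_lit 30, nat_lit 2), (nat_lit 31, nat_lit 5), (nat_lit 32, nat_lit 2), (nat_lit 33, nat_lit 2),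 (nat_lit 34, nat_lit 1), (nat_lit 35, nat_lit 0)],
    [[nat_lit 2, nat_lit 10, nat_lit 4, nat_lit 8, nat_lit 4, nat_lit 4, nat_lit 4, nat_lit 4, nat_lit 0, nat_lit 4, nat_lit 4, nat_lit 2, nat_lit 0, nat_lit 0], [nat_lit 6, nat_lit 8, nat_lit 10, nat_lit 12, nat_lit 10, nat_lit 12, nat_lit 2, nat_lit 4, nat_lit 8, nat_lit 10, nat_lit 6, nat_lit 10, nat_lit 8, nat_lit 8, nat_lit 2], [nat_lit 8, nat_lit 10, nat_lit 12, nat_lit 4, nat_lit 14, nat_lit 6, nat_lit 8, nat_lit 12, nat_lit 10, nat_lit 14, nat_lit 14, nat_lit 4, nat_lit 8, nat_lit 14, nat_lit 8, nat_lit 10, nat_lit 6, nat_lit 10, nat_lit 12]],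
    [nat_lit 0x85c8c88902df6cf19e4cd5d604281154775924351838c10a485680, nat_lit 0x7626a07cc8ce4214585d65544d265b15c09e0c12481c63c42cd280, nat_lit 0x76068c62211b7124598cd3e10547c858755e4c32ce406097285240]⟩
def mcertL1 : Lev := ⟨nat_lit 1, nat_lit 0xa24fcae3e, (.node (nat_lit 18) (.node (nat_lit 9) (.node (nat_lit 3) (.node (nat_lit 2) (.leaf (nat_lit 0x8e28607de75c6da6585d65544d24503ce34c2ca2481c61440c2040)) (.leaf (nat_lit 0x6a274c7e050e4174598432a31446084c725e58d09b7062d23c1540))) (.node (nat_lit 4) (.leaf (nat_lit 0x8e085e62211039265174215a2947c858754c4cb0dc6c635704f240)) (.node (nat_lit 5) (.leaf (nat_lit 0x68e74889b0df40518c4c25d628d8195478d124b51871e10148f840)) (.leaf (nat_lit 0x75f69839926241579b2a34c284f2205dc0c651258c1d104b344140))))) (.node (nat_lit 11) (.node (nat_lit 10) (.leaf (nat_lit 0x2990901884df6d68a02d734f52378775155c68304e60c121485240))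 (.leaf (nat_lit 0x7626a07cc8ce4214585d65544d265b15c09e0c12481c63c42cd280))) (.node (nat_lit 13) (.leaf (nat_lit 0x2c83d979c29b7c280685d56369689834e5d005224744c1530c4500)) (.node (nat_lit 15) (.leaf (nat_lit 0x51e5cc46249b7046198494e355d7d02ce0603c558720629a083340)) (.leaf (nat_lit 0x8dc85088859f6d31a03c968b54a79804e5193457511cc4821035c0)))))) (.node (nat_lit 23) (.node (nat_lit 20) (.node (nat_lit 19) (.leaf (nat_lit 0x74e69b88859f4131a014984354131829c51108f8d91de48d10b5c0)) (.leaf (nat_lit 0x85c8c88902df6cf19e4cd5d604281154775924351838c10a485680))) (.node (nat_lit 21) (.leaf (nat_lit 0x5115d96df59e71381035254110a1cc84e3c68dd2622181420da2c0)) (.node (nat_lit 22) (.leaf (nat_lit 0x8628de7e051c6d765168b05d3c46084c724c5823503860d214a540)) (.leaf (nat_lit 0x5db5077903d170b1a254184934331f4c84985828d93a068574a100))))) (.node (nat_lit 29) (.node (nat_lit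 26) (.leaf (nat_lit 0x8df8587112626d531005d4cd6852205ce2c651259e1d92830843c0)) (.leaf (nat_lit 0x85f8d17183626c13085543c95c341e6875867442e03990852924c0))) (.node (nat_lit 33) (.leaf (nat_lit 0x3db2c721805e7cd31c69785d5046625512a02438c63904d2585080)) (.node (nat_lit 35) (.leaf (nat_lit 0x3510466df5888934205056970ca1cc84e3d98c975c7984821152c0)) (.leaf (nat_lit 0x5b3472203d188b65c69785d50431f4de1585828c639055224a0c0)))))))⟩
def mcertC1 : LevCert := ⟨mcertL1,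
    [(nat_lit 19, nat_lit 0), (nat_lit 10, nat_lit 1), (nat_lit 23, nat_lit 0), (nat_lit 11, nat_lit 2), (nat_lit 4, nat_lit 0), (nat_lit 3, nat_lit 2), (nat_lit 21, nat_lit 0), (nat_lit 29, nat_lit 0), (nat_lit 9, nat_lit 2), (nat_lit 5, nat_lit 0), (nat_lit 15, nat_lit 0), (nat_lit 13, nat_lit 2), (nat_lit 35, nat_lit 1), (nat_lit 2, nat_lit 0), (nat_lit 26, nat_lit 0), (nat_lit 22, nat_lit 0), (nat_lit 33, nat_lit 0), (nat_lit 18, nat_lit 0), (nat_lit 20, nat_lit 0)],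
    [[nat_lit 0, nat_lit 4, nat_lit 0, nat_lit 2, nat_lit 0, nat_lit 2, nat_lit 0, nat_lit 2, nat_lit 2], [nat_lit 2, nat_lit 6, nat_lit 6, nat_lit 6, nat_lit 4, nat_lit 4]],
    [nat_lit 0x4ce59c46211b3126190d550524f19069e3477635e021f08b2a1040, nat_lit 0x4d059c81985b7e37a229574224f18e5d83485126911cc14b0c4040]⟩
def mcertL2 : Lev := ⟨nat_lit 2, nat_lit 0x220700834, (.node (nat_lit 20) (.node (nat_lit 5) (.node (nat_lit 4) (.leaf (nat_lit 0x8e28607de75c6da6585d65544d24503ce34c2ca2481c61440c2040)) (.leaf (nat_lit 0x6a275f30e5204574190e11058ca2184de34758949b19c2c23d5040))) (.node (nat_lit 11) (.leaf (nat_lit 0x4ce59c46211b3126190d550524f19069e3477635e021f08b2a1040)) (.leaf (nat_lit 0x24e55b71e59f81365049d8446973182a235108f8c61c81540cb040)))) (.node (nat_lit 22) (.node (nat_lit 21) (.leaf (nat_lit 0x4d059c81985b7e37a229574224f18e5d83485126911cc14b0c4040))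 (.leaf (nat_lit 0x25855b1902df20f89e0dd08569730e8d934785329c460114496040))) (.node (nat_lit 29) (.leaf (nat_lit 0x69975f3185081d77a24821442a380e3d03512c90db7065a14d5040)) (.node (nat_lit 33) (.leaf (nat_lit 0x8de8602220911ca6503c414b4937185ce34651a0df6cc55625d040)) (.leaf (nat_lit 0x29008881984746389e4c51160cf18e5d835c51a49f6cc54b25d040))))))⟩
def mcertC2 : LevCert := ⟨mcertL2,
    [(nat_lit 5, nat_lit 0), (nat_lit 20, nat_lit 1), (nat_lit 21, nat_lit 0), (nat_lit 11, nat_lit 1), (nat_lit 22, nat_lit 0), (nat_lit 4, nat_lit 0), (nat_lit 33, nat_lit 0), (nat_lit 29, nat_lit 0)],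
    [[nat_lit 2, nat_lit 2, nat_lit 2, nat_lit 2, nat_lit 2, nat_lit 2, nat_lit 0, nat_lit 2], [nat_lit 2, nat_lit 4, nat_lit 2, nat_lit 4, nat_lit 4, nat_lit 2, nat_lit 2, nat_lit 4, nat_lit 4]],
    [nat_lit 0x8d88607d075131a3a224451549371e0d935b14a5c81872d63c2040, nat_lit 0x3d82c61d915b3033a249550425371e69035174a5c881f8568c2040]⟩
def mcertL3 : Lev := ⟨nat_lit 3, nat_lit 0x804008008, (.node (nat_lit 26) (.node (nat_lit 15) (.leaf (nat_lit 0x8e28607de75c6da6585d65544d24503ce34c2ca2481c61440c2040)) (.leaf (nat_lit 0x8d88607d075131a3a224451549371e0d935b14a5c81872d63c2040))) (.node (nat_lit 35) (.leaf (nat_lit 0x3d82c61d915b3033a249550425371e69035174a5c881f8568c2040)) (.leaf (nat_lit 0xe214718e2cc6cf6584d45565d245069e35c74a24881f8448c2040))))⟩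
def mcertC3 : LevCert := ⟨mcertL3,
    [(nat_lit 15, nat_lit 0), (nat_lit 26, nat_lit 1), (nat_lit 35, nat_lit 1)],
    [[nat_lit 0, nat_lit 0, nat_lit 0, nat_lit 2, nat_lit 2]],
    [nat_lit 0x69875f81985b7237a249558425730e3d03512ca4c81c61540c2040]⟩
def mcertL4 : Lev := ⟨nat_lit 4, nat_lit 0x100010, (.node (nat_lit 20) (.leaf (nat_lit 0x8e28607de75c6da6585d65544d24503ce34c2ca2481c61440c2040)) (.leaf (nat_lit 0x69875f81985b7237a249558425730e3d03512ca4c81c61540c2040)))⟩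
def mcertC4 : LevCert := ⟨mcertL4,
    [(nat_lit 20, nat_lit 0)],
    [],
    []⟩
def mcert : List LevCert := [mcertC0, mcertC1, mcertC2, mcertC3, mcertC4]
def mcertL : List Lev := [mcertL0, mcertL1, mcertL2, mcertL3, mcertL4]
/-- the numbering of the points -/
abbrev mE : Enc (Fin 36) 36 6 64 := finEnc 36 6 64 rfl (by decide)
theorem mok : modelOK F2 6 36 6 64 mVT mR false mgs mcert 51840 = true := by
  decide +kernel

theorem m_ok : allL mgs (fun p => powOK F2 (2 + 2 + 2) 1 p.1 &&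
    quadOK F2 (2 + 2 + 2) (uMinus F2 2 1 1) p.1) = true := by decide +kernel

def F3 : ℕ := nat_lit 0x20000100800000008100040180001c80808020200000000000000000000008000000000000010000800000000000000000980000000a000000000000000000000000000000000000000000000000000080040100000000000000000000000000000000000000000008040000000000004000000000000000000000100000000004000400000000000000000000080000000000000000010000000000000000000800008000000000001600000000000000000020800000000000000000000000000000000000000000000100001008000000000000000000000000000000000000000000000000000000000000000000000000000000000000000000100000000000000000000000000000000000000000000000000000000000000000000000000000028000000000000000000000000000000000000000200240000000000000000000000000000000000000024000000000000000000000001000800000102000000000000000000000000a000000000000000000000000004014000000200000000000000000000000000000000400000000000000000000000000000000000080000000010000000211010000000010040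
def mbm : List ℕ := List.map (fun p : ℕ × ℕ => Nat.lor (Nat.pow 2 p.1) (Nat.pow 2 p.2)) [(565, 567), (3355, 3388), (2496, 2586), (6, 64), (2199, 2276), (446, 448), (2638, 2647), (3412, 3419), (3451, 3460), (3180, 3239), (60, 2128), (3363, 3387), (2438, 2454), (139, 3091), (3329, 3337), (1464, 2351), (3053, 3055), (2043, 2049), (712, 3481), (2820, 2830), (1831, 1840), (417, 3398), (672, 3366), (985, 3347), (1147, 1149), (69, 3087), (970, 973), (16, 2125), (52, 2126), (1860, 2843), (100, 3088), (458, 3368), (286, 3367), (2179, 3163), (810, 813), (665, 699)]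
def mgw : List (List ℕ × ℕ) := [([4], nat_lit 0x8a38607de75c6d865a5d65514125133c934420a38b04200c0c61c5), ([5, 2, 3, 4, 8, 9, 4, 5, 3, 4, 8, 6, 5, 4, 3, 2, 3, 4, 5, 6, 8, 4, 3, 5, 4, 9, 8, 4, 3, 2, 5], nat_lit 0x8e18a07de61c6da65d4503944cc5d62151d22c624f34a144002043), ([7, 6, 5, 4, 3, 2, 1, 2, 3, 4, 5, 6, 7], nat_lit 0x8e27dd85781c6da4987965543994493d334c1ca4012c51840c0202), ([8, 9, 4, 8, 7, 6, 5, 4, 3, 2, 1, 2, 3, 4, 5, 6, 7, 8, 4, 9, 8], nat_lit 0x8e282175e7d655a6585dc6cc4d21103ce35418a24214b1d10c8001), ([5, 4, 3, 4, 5], nat_lit 0x8e285e7e05dc6d465174f35a2d260858754c4ca0503861440c2240), ([8, 9, 4, 8, 5, 4, 3, 4, 5, 8, 4, 9, 8], nat_lit 0x8e286071e59f6d36503dd54b68a2185ce3465122511cc1420c4040)]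
def ol : List (List ℕ × List ℕ × Pt) := [([4, 9], [6, 5, 1, 2, 3, 4, 8, 9, 4, 5, 3, 4, 8, 7, 6, 5, 4, 3, 2, 1, 2, 3, 4, 5, 6, 7, 8, 4, 3, 5, 4, 9, 8, 4, 3, 2, 1, 5, 6], ([], 1)), ([8, 5, 6, 3, 4, 5, 2, 3, 4, 8, 9, 6, 5, 2, 3, 4, 8, 5, 6, 4, 5, 3, 4, 2, 3, 5, 4, 6, 5, 8, 4, 3, 2, 5, 6, 9, 8, 4, 3, 2, 5, 4, 3, 6, 5, 8], [7, 6, 5, 4, 3, 2, 1, 2, 3, 4, 5, 6, 7], ([], 1)), ([8, 7, 5, 6, 3, 4, 5, 1, 2, 3, 4, 8, 9, 6, 5, 2, 3, 4, 8, 5, 6, 4, 5, 3, 2, 4, 3, 5, 4, 6, 5, 8, 4, 3, 2, 5, 6, 9, 8, 4, 3, 2, 1, 5, 4, 3, 6, 5, 7, 8], [6, 5, 4, 3, 2, 3, 4, 5, 6], ([], 1)), ([8, 6, 7, 5, 6, 2, 3, 4, 5, 1, 2, 3, 4, 8, 9, 6, 5, 2, 3, 4, 8, 5, 6, 4, 5, 3, 4, 2, 3, 5, 4, 6, 5, 8, 4, 3, 2, 5, 6, 9, 8, 4, 3, 2, 1, 5, 4, 3, 2, 6, 5, 7, 6, 8], [4], ([], 3)), ([5, 4, 8, 9, 2, 3, 4, 8, 5, 6, 4, 5, 3, 4, 8, 9, 2, 3, 4, 8, 7, 6, 4, 5, 3, 4, 1, 2, 1, 3, 2, 1, 4, 3, 5, 4, 6,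 7, 8, 4, 3, 2, 9, 8, 4, 3, 5, 4, 6, 5, 8, 4, 3, 2, 9, 8, 4, 5], [2], ([], 1)), ([5, 6, 4, 5, 1, 2, 3, 4, 8, 9, 7, 4, 5, 6, 3, 4, 5, 2, 3, 4, 8, 7, 6, 5, 3, 4, 1, 2, 1, 3, 2, 1, 4, 3, 5, 6, 7, 8, 4, 3, 2, 5, 4, 3, 6, 5, 4, 7, 9, 8, 4, 3, 2, 1, 5, 4, 6, 5], [1], ([], 2))]

theorem fix3 : Nat.beq (fixU K22 τ [4, 9] [([], 3), ([3], 2), ([3, 2], 1), ([8, 5], 4), ([8, 6, 5], 4), ([8, 7, 6, 5], 4), ([4, 8, 5, 4, 3], 2), ([4, 8, 5, 4, 3, 2], 1), ([6, 5, 4, 8, 7, 6, 5, 4, 3], 2), ([8, 5, 4, 3, 2], 1), ([8, 9, 4, 8, 5, 4, 3], 2)]) F3 = true := by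
  decide +kernel
theorem lb0 : levF K22 12 τ [4, 9] F3 [] ([], 4) [] 72 = true := by
  decide +kernel
theorem lb1 : levF K22 12 τ [4, 9] F3 [([], 4)] ([5, 2, 3, 4, 8, 9, 4, 5, 3, 4, 8, 6, 5, 4, 3], 2) [([], 0)] 40 = true := by
  decide +kernel
theorem lb2 : levF K22 12 τ [4, 9] F3 [([5, 2, 3, 4, 8, 9, 4, 5, 3, 4, 8, 6, 5, 4, 3], 2), ([], 4)] ([5, 4], 3) [([], 0), ([], 1)] 12 = true := by
  decide +kernel
theorem lb3 : levF K22 12 τ [4, 9] F3 [([5, 4], 3), ([5, 2, 3, 4, 8, 9, 4, 5, 3, 4, 8, 6, 5, 4, 3], 2), ([], 4)] ([8, 9, 4, 8, 7, 6, 5, 4, 3, 2], 1) [([], 0), ([], 1), ([], 2)] 12 = true := by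
  decide +kernel
theorem lb4 : levF K22 12 τ [4, 9] F3 [([8, 9, 4, 8, 7, 6, 5, 4, 3, 2], 1), ([5, 4], 3), ([5, 2, 3, 4, 8, 9, 4, 5, 3, 4, 8, 6, 5, 4, 3], 2), ([], 4)] ([8, 9, 4, 8, 6, 5, 4, 3], 2) [([], 0), ([], 1), ([], 2), ([], 3)] 2 = true := by
  decide +kernel
theorem lb5 : levF K22 12 τ [4, 9] F3 [([8, 9, 4, 8, 6, 5, 4, 3], 2), ([8, 9, 4, 8, 7, 6, 5, 4, 3, 2], 1), ([5, 4], 3), ([5, 2, 3, 4, 8, 9, 4, 5, 3, 4, 8, 6, 5, 4, 3], 2), ([], 4)] ([6, 5, 4, 3], 2) [([], 0), ([], 1), ([], 2), ([], 3), ([], 4)] 4 = true := by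
  decide +kernel
theorem lb6 : levF K22 12 τ [4, 9] F3 [([6, 5, 4, 3], 2), ([8, 9, 4, 8, 6, 5, 4, 3], 2), ([8, 9, 4, 8, 7, 6, 5, 4, 3, 2], 1), ([5, 4], 3), ([5, 2, 3, 4, 8, 9, 4, 5, 3, 4, 8, 6, 5, 4, 3], 2), ([], 4)] ([], 9) [([], 0), ([], 1), ([], 2), ([], 3), ([], 4), ([], 5)] 1 = true := by
  decide +kernel
theorem lbE : endF K22 12 τ [4, 9] [([], 9), ([6, 5, 4, 3], 2), ([8, 9, 4, 8, 6, 5, 4, 3], 2), ([8, 9, 4, 8, 7, 6, 5, 4, 3, 2], 1), ([5, 4], 3), ([5, 2, 3, 4, 8, 9, 4, 5, 3, 4, 8, 6, 5, 4, 3], 2), ([], 4)] ([], 3) [([], 0), ([], 1), ([], 2), ([], 3), ([], 4), ([], 5), ([], 6), ([6, 5, 3, 4], 2)] [0, 4, 5, 6, 3, 7, 2, 1, 4, 0, 5, 6, 4, 2, 7, 0, 3, 5, 4] = true := by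
  decide +kernel
theorem mgw_eq : mgw.map Prod.snd = mgens := by decide +kernel
theorem mdist : disOK K22 mbm 36 = true := by
  decide +kernel
theorem mgw_ok : mgw.all (fun p => weq K22 (tauW τ [4, 9] p.1) p.1 &&
    blkS K22 mbm 36 p.1 (app 6 64 p.2)) = true := by
  decide +kernel
theorem ol_ok : ol.all (fun p => weq K22 (tauW τ [4, 9] p.1) p.1 && blkS K22 mbm 36 p.1 id &&
    weq K22 (p.1 ++ p.1) [] && ol.all fun q => wcm K22 p.1 q.1) = true := by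
  decide +kernel
theorem ol_ind : indOK K22 [] ol = true := by
  decide +kernel

def c0 : Cls := ⟨nat_lit 0x6b38bdab49ca307b9ac5a928398a418820, 51840, [nat_lit 0x7ffffff, nat_lit 0x3a5f8f2, nat_lit 0x42040c, nat_lit 0x420408, nat_lit 0x2000030, nat_lit 0x2000020]⟩
def c1 : Cls := ⟨nat_lit 0xcc1ba1949b6307ba555a9363e4a4d0b00, 1440, [nat_lit 0x9bceb5, nat_lit 0x3243042, nat_lit 0x20404, nat_lit 0x400008, nat_lit 48, nat_lit 32]⟩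
def c2 : Cls := ⟨nat_lit 0x5af0ce9f152e98a98a494c480b9ac1a4e0, 1152, [nat_lit 265, nat_lit 0x3a5f8f2, nat_lit 0x420404, nat_lit 8, nat_lit 0x2000030, nat_lit 0x2000020]⟩
def c3 : Cls := ⟨nat_lit 0x4f19628e8d40727b5d725934a98ab88820, 192, [nat_lit 0x8263, nat_lit 0x8062, nat_lit 4, nat_lit 0x420408, nat_lit 0x2000010, nat_lit 32]⟩
def c4 : Cls := ⟨nat_lit 0x54ad7c75094ed4bbb0b628e64a32410c01, 96, [nat_lit 0x24e182f, nat_lit 2, nat_lit 0x42000c, nat_lit 8, nat_lit 16, nat_lit 0x2000020]⟩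
def c5 : Cls := ⟨nat_lit 0x568d8bc928656561d56be1c34867a01848, 648, [nat_lit 0x7ffffff, nat_lit 0x28030b2, nat_lit 4, nat_lit 8, nat_lit 0x2000030, nat_lit 32]⟩
def c6 : Cls := ⟨nat_lit 0x4358bd8b591239781ac5a8624269331dc1, 216, [nat_lit 0x63d43ff, nat_lit 2, nat_lit 12, nat_lit 8, nat_lit 0x2000030, nat_lit 0x2000020]⟩
def c7 : Cls := ⟨nat_lit 0x45a5c569632e1aca5f3408f2732e050c81, 108, [nat_lit 0x7f3a43f, nat_lit 2, nat_lit 0x40c, nat_lit 8, nat_lit 16, nat_lit 0x2000020]⟩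
def c8 : Cls := ⟨nat_lit 0x4b19533503a2f3246c37b815a0565688c9, 96, [nat_lit 0x3000243, nat_lit 0x3000042, nat_lit 4, nat_lit 0x420408, nat_lit 16, nat_lit 32]⟩
def c9 : Cls := ⟨nat_lit 0x4738a55c3b5ced24d1a7c0ca6016590921, 96, [nat_lit 0x4fffffb, nat_lit 2, nat_lit 4, nat_lit 0x420408, nat_lit 16, nat_lit 32]⟩
def c10 : Cls := ⟨nat_lit 0x4735bd1c2b612f3488d869480ad851cce0, 32, [nat_lit 0x2800101, nat_lit 130, nat_lit 0x420404, nat_lit 8, nat_lit 16, nat_lit 32]⟩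
def c11 : Cls := ⟨nat_lit 0x4184c5a723255acbd6e688f5a22e588c01, 16, [nat_lit 0x4010003, nat_lit 2, nat_lit 0x2040c, nat_lit 8, nat_lit 16, nat_lit 32]⟩
def c12 : Cls := ⟨nat_lit 0x28af6ca7183ab45e9884d8c7be08018b21, 10, [nat_lit 0x2000033, nat_lit 2, nat_lit 12, nat_lit 8, nat_lit 16, nat_lit 32]⟩
def c13 : Cls := ⟨nat_lit 0x297324af68b60cd2325a546603b0f11d21, 72, [nat_lit 0x7ffbebf, nat_lit 2, nat_lit 4, nat_lit 8, nat_lit 0x2000030, nat_lit 32]⟩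
def c14 : Cls := ⟨nat_lit 0x1eb3d3d3168405ba18ab1a505e06e26454, 36, [nat_lit 0x120001, nat_lit 0xa04822, nat_lit 4, nat_lit 0x400008, nat_lit 16, nat_lit 32]⟩
def c15 : Cls := ⟨nat_lit 0x2292801ed398a9b455a986ec5e1d526443, 36, [nat_lit 0x270a41f, nat_lit 0x2002002, nat_lit 4, nat_lit 8, nat_lit 16, nat_lit 32]⟩
def c16 : Cls := ⟨nat_lit 0x448c5d2aad3a726c1e63d909c5ca110f20, 36, [nat_lit 0x200021, nat_lit 0x2054012, nat_lit 12, nat_lit 8, nat_lit 16, nat_lit 32]⟩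
def c17 : Cls := ⟨nat_lit 0x45b52d16ab626f91899868480b9971a4e0, 36, [nat_lit 265, nat_lit 0x40c2, nat_lit 4, nat_lit 8, nat_lit 0x2000030, nat_lit 32]⟩
def c18 : Cls := ⟨nat_lit 0x1c09d0e71552b72a18d248d0761ebb0b21, 24, [nat_lit 0x3000243, nat_lit 2, nat_lit 4, nat_lit 0x400008, nat_lit 48, nat_lit 32]⟩
def c19 : Cls := ⟨nat_lit 0x3152261e0bce9a1351982ea548cd6704f1, 12, [nat_lit 0x120001, nat_lit 0x200002, nat_lit 4, nat_lit 8, nat_lit 0x2000010, nat_lit 32]⟩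
def c20 : Cls := ⟨nat_lit 0x3352b131739b2b85554705a84be7101443, 8, [nat_lit 9, nat_lit 0x20a2, nat_lit 4, nat_lit 8, nat_lit 16, nat_lit 32]⟩
def c21 : Cls := ⟨nat_lit 0x49a54a966b504ebe26f040f1d3328a8c81, 9, [nat_lit 0x22091f, nat_lit 2, nat_lit 4, nat_lit 8, nat_lit 16, nat_lit 32]⟩
def c22 : Cls := ⟨nat_lit 0x4af95ab50326d323f0e688f5a218588c01, 10, [nat_lit 3, nat_lit 2, nat_lit 0x42040c, nat_lit 8, nat_lit 16, nat_lit 32]⟩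
def c23 : Cls := ⟨nat_lit 0x9a54996ab624ebd27a640f178324a8d01, 12, [nat_lit 0x34e2163, nat_lit 2, nat_lit 4, nat_lit 8, nat_lit 16, nat_lit 32]⟩
def c24 : Cls := ⟨nat_lit 0xaf97993182eb4669d3458f2c148050da1, 12, [nat_lit 0x440647f, nat_lit 2, nat_lit 4, nat_lit 8, nat_lit 16, nat_lit 32]⟩
def cl : List Cls := [c0, c1, c2, c3, c4, c5, c6, c7, c8, c9, c10, c11, c12, c13, c14, c15, c16, c17, c18, c19, c20, c21, c22, c23, c24]
theorem cl_ok : allL cl (clsOK 5 32 27 certL 0) = true := by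
  decide +kernel
theorem cl_pairs : pairsOK 5 32 27 certL 0 cl = true := by
  decide +kernel
theorem cl_sum : sumOK 51840 cl = true := by
  decide +kernel
/-- involutions of the quotient that lift to the centraliser of `c` -/
def inn : List (List ℕ × ℕ) := [([], nat_lit 0x6b38bdab49ca307b9ac5a928398a418820), ([5, 4, 8, 6, 5, 4, 3, 4, 5, 6, 8, 4, 5], nat_lit 0x5af0ce9f152e98a98a494c480b9ac1a4e0), ([2, 1, 3, 2, 5, 6, 9, 4, 8, 6, 5, 4, 3, 4, 5, 6, 8, 4, 2, 1, 3, 2, 4, 8, 6, 5, 4, 3, 4, 5, 6, 8, 4, 6, 9], nat_lit 0x4f19628e8d40727b5d725934a98ab88820)]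
def out : List (List ℕ × ℕ) := [([9, 4, 8, 6, 5, 4, 3, 4, 5, 6, 8, 4, 2, 1, 3, 2, 4, 8, 6, 5, 4, 3, 4, 5, 6, 8, 4, 9], nat_lit 0xcc1ba1949b6307ba555a9363e4a4d0b00), ([6, 5, 7, 6, 2, 1, 3, 2, 4, 8, 6, 5, 4, 3, 4, 5, 6, 8, 4, 2, 1, 3, 2, 6, 9, 4, 8, 6, 5, 4, 3, 4, 5, 6, 8, 4, 2, 1, 3, 2, 6, 8, 9, 4, 8, 6, 5, 4, 3, 4, 5, 6, 8, 4, 2, 1, 3, 2, 5, 9, 4, 8, 6, 5, 4, 3, 4, 5, 6, 8, 4, 2, 1, 3, 2, 6, 8], nat_lit 0x54ad7c75094ed4bbb0b628e64a32410c01)]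
theorem cl_two : cl.all (fun c => !Nat.beq (comp 5 32 27 c.X c.X) (idP 5 27) ||
    (inn ++ out).any fun p => Nat.beq p.2 c.X) = true := by
  decide +kernel
theorem rep_ok : (inn ++ out).all (fun p => wcm K22 p.1 [1, 3] && blkC K22 bm 27 p.1 (app 5 32 p.2)) = true := by
  decide +kernel
theorem inn_ok : inn.all (fun p => K22.fixOK [p.1] [([], 3)]) = true := by
  decide +kernel

/-- the words of the symplectic pairs -/
def lw (i : ℕ) : List ℕ := (lp.map Prod.fst ++ lp.map Prod.snd).getD i []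

/-- the listed words are of the form `e * t e` -/
noncomputable def dlOK (r : List ℕ) (dl : List ((List ℕ × List ℕ × Pt) × ℕ)) : Bool :=
  dl.all fun t => weq K22 (lw t.2 ++ tauW τ (r ++ w0) (lw t.2)) t.1.1

/-- the word `u` conjugates the automorphism given by `v ++ r ++ w0` to the one given by `x` -/
noncomputable def usOK (r v u x : List ℕ) : Bool :=
  K22.okW (u.map (τ.getD · 0)) && weq K22 (u ++ (v ++ (r ++ w0)) ++ (u.map (τ.getD · 0)).reverse) x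

theorem out_fix : out.all (fun p => K22.okW (p.1 ++ w0) && fixP K22 τ (p.1 ++ w0) ([], 1) &&
    fixP K22 τ (p.1 ++ w0) ([], 3)) = true := by
  decide +kernel
def r0 : List ℕ := (out.getD 0 ([], 0)).1
def dl0 : List ((List ℕ × List ℕ × Pt) × ℕ) := [(([5, 7, 6, 4, 5, 3, 4, 8, 9, 4, 8, 6, 3, 4, 5, 2, 3, 4, 8, 1, 2, 3, 4, 5, 6, 5, 7, 6, 5, 4, 3, 2, 1, 8, 4, 3, 2, 5, 4, 3, 6, 8, 4, 9, 8, 4, 3, 5, 4, 6, 9, 2, 3, 4, 5, 1, 2, 3, 4, 8, 6, 7, 5, 6, 4, 3, 5, 4, 6, 5, 7, 6, 8, 4, 3, 2, 1, 5, 4, 3, 2, 9, 8, 9, 4, 5, 3, 4, 8, 6, 7, 5, 6, 4, 3, 5, 4, 6, 5, 7, 6, 8, 4, 3, 5, 4, 9, 8], [4, 5, 3, 4, 8, 2, 3, 4, 5, 1, 2, 3, 4, 8, 6, 7, 5, 6, 4, 5, 3, 4, 2, 3, 1, 2, 4, 3, 5, 4, 6, 5, 7, 6, 8, 4, 3, 2, 1, 5, 4, 3, 2, 8, 4, 3, 5, 4], ([], 2)), 5), (([1, 4, 5, 3, 4, 8, 6, 7, 5, 6, 4, 3, 5, 4, 6, 5, 7, 6, 8, 4, 3, 5, 4, 9, 2, 3, 4, 5, 1, 2, 3, 4, 8, 6, 7, 5, 6, 4,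 3, 5, 4, 6, 5, 7, 6, 8, 4, 3, 2, 1, 5, 4, 3, 2, 9, 6, 4, 5, 3, 4, 8, 9, 4, 8, 6, 3, 4, 5, 2, 3, 4, 8, 1, 2, 3, 4, 5, 6, 5, 7, 6, 5, 4, 3, 2, 1, 8, 4, 3, 2, 5, 4, 3, 6, 8, 4, 9, 8, 4, 3, 5, 4, 6], [8, 4, 5, 3, 4, 8, 9, 4, 8, 6, 3, 4, 5, 2, 3, 4, 8, 1, 2, 3, 4, 5, 6, 5, 7, 6, 5, 4, 3, 2, 1, 8, 4, 3, 2, 5, 4, 3, 6, 8, 4, 9, 8, 4, 3, 5, 4, 8], ([], 2)), 7), (([5, 7, 6, 4, 5, 3, 4, 8, 9, 4, 8, 6, 3, 4, 5, 2, 3, 4, 8, 1, 2, 3, 4, 5, 6, 5, 7, 6, 5, 4, 3, 2, 1, 8, 4, 3, 2, 5, 4, 3, 6, 8, 4, 9, 8, 4, 3, 5, 4, 6, 8, 9, 4, 5, 3, 4, 8, 6, 7, 5, 6, 4, 3, 5, 4, 6, 5, 7, 6, 8, 4, 3, 5, 4, 9, 8], [5, 7], ([], 2)), 2), (([9, 2, 3, 4, 5, 1, 2, 3, 4, 8, 6, 7, 5, 6, 4, 3, 5, 4, 6, 5, 7, 6, 8, 4, 3, 2, 1, 5, 4, 3, 2, 9, 9, 4, 5, 3, 4, 8, 6, 7, 5, 6, 4, 3, 5, 4, 6, 5, 7, 6, 8, 4, 3, 5, 4, 9], [4, 5, 3, 4, 8, 6, 7, 5, 6, 4, 3, 5, 4, 6, 5, 7, 6, 8, 4, 3, 5, 4], ([],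 2)), 0)]
theorem ind0 : indOK K22 [([], 1), ([], 3)] (dl0.map Prod.fst) = true := by
  decide +kernel
theorem dlok0 : dlOK r0 dl0 = true := by
  decide +kernel
theorem us00 : usOK r0 [] [9, 8, 3, 4, 2, 3, 4, 5, 1, 2, 3, 4, 6, 9, 4, 8, 6, 5, 4, 3, 4, 5, 6, 8, 4, 9] [] = true := by
  decide +kernel
theorem us01 : usOK r0 [1] [3, 4, 2, 3, 4, 5, 1, 2, 3, 8, 6, 5, 4, 3, 4, 5, 6, 8, 5, 3, 4, 8, 6, 7, 5, 6, 4, 3, 5, 4, 6, 5, 7, 6, 8, 4, 3, 5, 4, 9] [4] = true := by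
  decide +kernel
theorem us02 : usOK r0 [3] [7, 6, 5, 4, 3, 2, 4, 5, 3, 4, 9, 4, 8, 6, 5, 4, 3, 4, 5, 6, 8, 4, 8, 9, 5, 6, 5, 7, 6, 5] [4] = true := by
  decide +kernel
theorem us03 : usOK r0 [1, 3] [4, 8, 5, 6, 3, 4, 5, 2, 3, 4, 8, 9, 6, 5, 2, 3, 4, 8, 5, 6, 4, 5, 3, 1, 2, 3, 8, 6, 5, 4, 3, 4, 5, 6, 8, 4, 2, 1, 3, 2, 4, 8, 6, 5, 4, 3, 4, 5, 6, 8, 4, 5, 9, 4, 8, 6, 5, 4, 3, 4, 5, 6, 8, 4, 2, 1, 3, 2, 4, 8, 6, 5, 4, 3, 4, 5, 6, 8, 4, 5, 6, 8, 9] [4, 9] = true := by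
  decide +kernel
def r1 : List ℕ := (out.getD 1 ([], 0)).1
def dl1 : List ((List ℕ × List ℕ × Pt) × ℕ) := [(([1, 4, 5, 3, 4, 8, 6, 7, 5, 6, 4, 3, 5, 4, 6, 5, 7, 6, 8, 4, 3, 5, 4, 6, 5, 7, 6, 5, 6, 4, 5, 3, 4, 8, 9, 4, 8, 6, 3, 4, 5, 2, 3, 4, 8, 1, 2, 3, 4, 5, 6, 5, 7, 6, 5, 4, 3, 2, 1, 8, 4, 3, 2, 5, 4, 3, 6, 8, 4, 9, 8, 4, 3, 5, 4, 6, 5, 9, 2, 3, 4, 5, 1, 2, 3, 4, 8, 6, 7, 5, 6, 4, 3, 5, 4, 6, 5, 7, 6, 8, 4, 3, 2, 1, 5, 4, 3, 2, 9], [4, 5, 3, 4, 8, 6, 7, 5, 6, 3, 4, 3, 5, 4, 3, 6, 5, 7, 6, 8, 4, 3, 5, 4], ([], 2)), 0), (([4, 8, 5, 6, 4, 5, 2, 3, 4, 8, 1, 2, 3, 4, 5, 6, 5, 7, 6, 5, 4, 3, 2, 1, 8, 4, 3, 2, 5, 4, 6, 5, 8, 4, 5, 6, 4, 5, 3, 4, 8, 9, 4, 8, 6, 3, 4, 5, 2, 3, 4, 8, 1, 2, 3, 4, 5, 6, 5, 7, 6, 5, 4, 3, 2, 1, 8, 4, 3, 2, 5, 4, 3, 6, 8, 4, 9, 8, 4, 3, 5, 4, 6, 5], [5, 7, 9, 4, 5, 3, 4, 8, 6, 7, 5, 6, 4, 3, 5, 4, 6, 5, 7, 6, 8, 4, 3, 5,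 4, 9], ([], 2)), 3), (([6, 5, 7, 6, 5, 6, 4, 5, 3, 4, 8, 9, 4, 8, 6, 3, 4, 5, 2, 3, 4, 8, 1, 2, 3, 4, 5, 6, 5, 7, 6, 5, 4, 3, 2, 1, 8, 4, 3, 2, 5, 4, 3, 6, 8, 4, 9, 8, 4, 3, 5, 4, 6, 5, 8, 9, 4, 5, 3, 4, 8, 6, 7, 5, 6, 4, 3, 5, 4, 6, 5, 7, 6, 8, 4, 3, 5, 4, 9, 8], [5, 7], ([], 2)), 1), (([4, 5, 3, 4, 8, 9, 4, 8, 6, 3, 4, 5, 2, 3, 4, 8, 1, 2, 3, 4, 5, 6, 5, 7, 6, 5, 4, 3, 2, 1, 8, 4, 3, 2, 5, 4, 3, 6, 8, 4, 9, 8, 4, 3, 5, 4], [6, 5, 7, 6], ([], 2)), 7)]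
theorem ind1 : indOK K22 [([], 1), ([], 3)] (dl1.map Prod.fst) = true := by
  decide +kernel
theorem dlok1 : dlOK r1 dl1 = true := by
  decide +kernel
theorem us10 : usOK r1 [] [8, 4, 5, 3, 4, 8, 6, 5, 4, 3, 8, 9, 4, 8, 1, 2, 3, 4, 5, 6, 5, 9, 6, 5, 7, 6] [4] = true := by
  decide +kernel
theorem us11 : usOK r1 [1] [8, 4, 5, 3, 4, 8, 3, 4, 8, 9, 2, 3, 4, 8, 1, 2, 3, 4, 5, 4, 8, 6, 5, 4, 3, 4, 5, 6, 8, 4, 2, 1, 3, 2, 5, 8, 9, 4, 8, 6, 5, 4, 3, 4, 5, 6, 8, 4, 2, 1, 3, 2, 5, 6, 9, 4, 8, 6, 5, 4, 3, 4, 5, 6, 8, 4, 9, 8, 5, 7] [4, 9] = true := by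
  decide +kernel
theorem us12 : usOK r1 [3] [6, 3, 4, 5, 1, 2, 3, 4, 8, 9, 4, 5, 6, 3, 4, 5, 2, 3, 4, 8, 7, 6, 5, 1, 2, 3, 1, 2, 3, 4, 2, 1, 3, 2, 5, 4, 8, 6, 5, 4, 3, 4, 5, 6, 8, 4, 2, 1, 3, 2, 5, 8, 9, 4, 8, 6, 5, 4, 3, 4, 5, 6, 8, 4, 8, 9, 8, 3] [4, 9] = true := by
  decide +kernel
theorem us13 : usOK r1 [1, 3] [3, 4, 8, 9, 8, 4, 5, 2, 3, 4, 8, 7, 5, 6, 2, 3, 4, 5, 1, 2, 3, 4, 8, 9, 7, 5, 6, 4, 5, 2, 3, 4, 8, 7, 6, 4, 5, 3, 4, 1, 2, 4, 8, 6, 5, 4, 3, 4, 5, 6, 8, 4, 2, 1, 3, 2, 5, 8, 9, 4, 8, 6, 5, 4, 3, 4, 5, 6, 8, 4, 2, 1, 3, 2, 6, 9, 4, 8, 6, 5, 4, 3, 4, 5, 6, 8, 4, 2, 1, 3, 2, 6, 8, 9, 4, 8, 6, 5, 4, 3, 4, 5, 6, 8, 4, 2, 1, 3, 2, 9, 8, 5, 6, 5, 7, 6, 5] [4] = true := by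
  decide +kernel

end Cfsg.Agent.H96.O22
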