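import Cfsg.Agent.H96.OutD2
import Cfsg.Agent.H96.OutT

/-! The classes of outer involutions of Fi22. -/

set_option autoImplicit false
set_option maxRecDepth 100000

namespace Cfsg.Agent.H96.O22

open Subgroup Cfsg.Agent.H58 Cfsg.Agent.H95 Cfsg.Agent.H52.Fi Cfsg.Agent.H96.C2B

theorem mmodel : Nonempty (O6m ≃* mE.grp mgens) := by
  obtain ⟨ι, -⟩ := H56.exists_hom H56.F2 (F := ZMod 2) rfl
  have h := fun v => H56.quadFormMinus_eq ι 2 (a := 1) (b := 1) (by decide) (by decide) v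
  rw [H56.dec_one] at h
  obtain ⟨φ, h⟩ := H56.model_iso ι (H56.eMinus 2) mE h mok m_ok card_O6m.le
  exact h.equiv

theorem classes : E.ClassList (E.grp gens) cl := by
  obtain ⟨ι, -⟩ := H56.exists_hom H56.F2 (F := ZMod 2) rfl
  have h := fun v => H56.quadFormMinus_eq ι 2 (a := 1) (b := 1) (by decide) (by decide) v
  rw [H56.dec_one] at h
  obtain ⟨φ, h⟩ := H56.model_iso ι (H56.eMinus 2) E h ok iso_ok card_O6m.le
  exact H14.Enc.IsChain.classList (Ls := certL) h.chain (E.fixes_zero _) (H14.allL_iff.1 cl_ok) cl_pairs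
    (h.chain.card.trans (H56.modelOK_card ok)) cl_sum

variable {G : Type*} [Group G] {D : Set G} {T : LModel G D}

theorem tw_sq {t : MulAut G} (ht : t * t = 1) (q : G) :
    MulAut.conj q * t * (MulAut.conj q * t) = MulAut.conj (q * t q) := by
  rw [mul_assoc, ← mul_assoc t, mul_conj, mul_assoc, ht, mul_one, map_mul]

theorem lw_mem (i : ℕ) : wv T.el (lw i) ∈ E10 T := by
  rcases lt_or_ge i (lp.map Prod.fst ++ lp.map Prod.snd).length with hi | hi
  · have := List.getElem_mem hi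
    rw [lw, List.getD_eq_getElem _ _ hi]
    rcases List.mem_append.1 this with h | h <;> obtain ⟨p, hp, e⟩ := List.mem_map.1 h <;> rw [← e]
    exacts [mem_sup_left (mem_SQ _ (List.mem_map_of_mem hp)).1,
      mem_sup_left (mem_SQ _ (List.mem_map_of_mem hp)).2]
  · rw [lw, List.getD_eq_default _ _ hi]; exact one_mem _

/-- the elementary abelian group of order 64 -/
def O6 (T : LModel G D) : Subgroup G := TW ⊥ (ol.map fun t => wv T.el t.1)

/-- conjugate to one of the three standard automorphisms -/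
def Tgt (T : LModel G D) (σ t : MulAut G) : Prop :=
  ∃ x ∈ [[], [4], [4, 9]], IsConj t (MulAut.conj (wv T.el x) * σ)

theorem Tgt.conj {σ s t : MulAut G} (h1 : IsConj s t) (h2 : Tgt T σ t) : Tgt T σ s :=
  let ⟨x, hx, h3⟩ := h2; ⟨x, hx, h1.trans h3⟩

variable (h : Is22 T)
include h

theorem O6_c2 : C2 (O6 T) 1 := by
  have k := fun p hp => List.all_eq_true.1 ol_ok p hp
  simp only [Bool.and_eq_true, List.all_eq_true] at k
  exact c2_TW (List.forall_mem_map.2 fun p hp => (T.wv_append _ _).symm.trans (h.weq (k p hp).1.2))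
    (List.forall_mem_map.2 fun p hp => List.forall_mem_map.2 fun q hq => h.wcm ((k p hp).2 q hq))

theorem card_O6 : Nat.card (O6 T) = 64 := by
  rw [O6, (O6_c2 h).card_TW (one_mem _) bot_le mem_TW (T.ind_of_ok h.gen h.lm (vs := [])
    (fun g _ v hv => mem_bot.1 hv ▸ Commute.one_right g) (h.dat ▸ ol_ind)), card_bot]
  rfl

theorem fix_pair {t : MulAut G} (ht : t * t = 1) : ∃ a ∈ D, ∃ b ∈ nb D a, t a = a ∧ t b = b := by
  have := h.finite
  have h1 : ∀ x, t (t x) = x := fun x => DFunLike.congr_fun ht x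
  obtain ⟨a, ha, e⟩ := h.fix_of_aut t h1 fun _ => h.aut_mem t
  have k : ∀ x ∈ nb D a, t x ∈ nb D a := fun x hx =>
    ⟨h.aut_mem t hx.1, e ▸ t.injective.ne hx.2.1, e ▸ hx.2.2.map t⟩
  have := Fintype.ofFinite (nb D a)
  have : Fact (Nat.Prime 2) := ⟨Nat.prime_two⟩
  obtain ⟨b, hb⟩ := Equiv.Perm.exists_fixed_point_of_prime (p := 2) (n := 1)
    (σ := Equiv.Perm.subtypePerm t.toEquiv fun x => ⟨fun hx => h1 x ▸ k _ hx, k x⟩) (by
      obtain ⟨g, e⟩ := h.tr1 ha
      rw [← Nat.card_eq_fintype_card, Nat.card_coe_set_eq,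
        ← (cj_injective g).injOn.ncard_image, image_cj_nb, image_cj_eq T.conj_mem, e,
        ← h.st_perp (by decide), h.ncard_st I22.n1]
      decide) (Equiv.ext fun x => Subtype.ext (h1 x))
  exact ⟨a, ha, b, b.2, e, congrArg Subtype.val hb⟩

theorem mem_V {v : G} (hv : v ∈ closure {T.el 1, T.el 3}) :
    ∃ w ∈ [[], [1], [3], [1, 3]], v = wv T.el w := by
  have k := fun g => H15.mem_zpowers_two (a := g) (aa h)
  rw [← Set.singleton_union, Subgroup.closure_union, ← zpowers_eq_closure (T.el 1),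
    mem_sup_two (fun p hp => ?_) (cc h ▸ one_mem _)] at hv
  · obtain ⟨p, hp, e⟩ := hv
    rcases (k p).1 hp with rfl | rfl <;> rcases e with rfl | rfl <;> simp [wv]
  · rcases (k p).1 hp with rfl | rfl
    · simp
    · rw [← (ac h).eq]; simp

variable {σ : MulAut G} (hσ : ∀ y, σ (T.el y) = T.el (τ.getD y 0))
include hσ

theorem s_sq : σ * σ = 1 := by
  have := h.gen ((σ * σ).toMonoidHom.eqLocus (MonoidHom.id G)) fun y _ hy => by
    show σ (σ (T.el y)) = T.el y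
    rw [hσ, hσ, show τ.getD (τ.getD y 0) 0 = y from by rw [h.nl] at hy; revert y; decide]
  exact MulEquiv.ext fun x => (this ▸ mem_top x : x ∈ _)

omit h in
theorem s3_eq : MulAut.conj (wv T.el [4, 9]) * σ = σ * MulAut.conj (T.el 4 * T.el 9) := by
  rw [wv_two, (commute_conj (mul_mem (fx4 hσ) (fx9 hσ))).eq]

theorem psiO : O6 T ≤ Fx (σ * MulAut.conj (T.el 4 * T.el 9)) ∧
    ∃ ψ : Fx (σ * MulAut.conj (T.el 4 * T.el 9)) →* O6m, Function.Surjective ψ ∧
      ψ.ker = (O6 T).subgroupOf _ := by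
  have := h.finite
  obtain ⟨e⟩ := mmodel
  have h1 := levx h hσ fix3 lb0 (levx h hσ fix3 lb1 (levx h hσ fix3 lb2 (levx h hσ fix3 lb3
    (levx h hσ fix3 lb4 (levx h hσ fix3 lb5 (levx h hσ fix3 lb6 (endx h hσ lbE)))))))
  rw [CC_nil, inf_top_eq] at h1
  rw [← s3_eq hσ]
  have fx : ∀ {u}, weq K22 (tauW τ [4, 9] u) u = true → wv T.el u ∈ Fx _ := fun h1 =>
    T.mem_Fx_of_weq hσ h.gen h.lm (h.dat ▸ by decide) (h.dat ▸ h1)
  have h2 : O6 T ≤ Fx (MulAut.conj (wv T.el [4, 9]) * σ) ⊓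
      (Rl T mbm 36).comap (MonoidHom.inl G (Equiv.Perm (Fin 36))) :=
    TW_le bot_le (List.forall_mem_map.2 fun p hp => by
      have k := List.all_eq_true.1 ol_ok p hp
      simp only [Bool.and_eq_true] at k
      exact ⟨fx k.1.1.1, T.mem_blkRel' (h.dat ▸ mdist) (by decide) (h.dat ▸ k.1.1.2) fun _ => rfl⟩)
  obtain ⟨ψ, h3, h4, -⟩ := exists_hom_of_rel' (W := mE.grp mgens) (Rl T mbm 36)
    (Rl_one (T.blk_inj' (h.dat ▸ mdist))) h2 (grp_le_of mE mgw_eq fun p hp π e => by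
      have k := List.all_eq_true.1 mgw_ok p hp
      simp only [Bool.and_eq_true] at k
      exact ⟨(wv T.el p.1, π), ⟨T.mem_blkRel' (h.dat ▸ mdist) (by decide) (h.dat ▸ k.2)
        fun j => e ▸ mE.app_pk π j, fx k.1, trivial⟩, rfl⟩)
    (h1.trans (by rw [← Nat.card_congr e.toEquiv, card_O6m, card_O6 h]))
  exact ⟨h2.trans inf_le_left, e.symm.toMonoidHom.comp ψ, e.symm.surjective.comp h3,
    by rw [← h4]; ext x; simp⟩

theorem card_Cab : Nat.card (Fx (σ * MulAut.conj (T.el 4 * T.el 9))) = 3317760 := by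
  obtain ⟨h1, ψ, h2, h3⟩ := psiO h hσ
  rw [← ψ.ker.card_mul_index, index_ker, MonoidHom.range_eq_top.2 h2, card_top, card_O6m, h3,
    Nat.card_congr (subgroupOfEquivOfLe h1).toEquiv, card_O6 h]

theorem Tgt.sq {t : MulAut G} (ht : Tgt T σ t) : t * t = 1 := by
  obtain ⟨x, hx, h1⟩ := ht
  have h2 := h1.pow 2
  have hd := TT.mul_self T.tt (h.el_mem (y := 4) (by decide) (by decide))
  rw [pow_two, pow_two, tw_sq (s_sq h hσ), show wv T.el x * σ (wv T.el x) = 1 from ?_, map_one] at h2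
  · exact isConj_one_left.1 h2
  simp only [List.mem_cons, List.not_mem_nil, or_false] at hx
  rcases hx with rfl | rfl | rfl
  · simp [wv]
  · rw [wv_one', mem_Fx.1 (fx4 hσ), hd]
  · rw [wv_two, mem_Fx.1 (mul_mem (fx4 hσ) (fx9 hσ)), ← pow_two, (nb_di h).2.2.mul_pow, pow_two, pow_two, hd,
      TT.mul_self T.tt (nb_di h).1, mul_one]

theorem us_conj {r v u x : List ℕ} (h1 : usOK r v u x = true) (hx : x ∈ [[], [4], [4, 9]]) :
    Tgt T σ (MulAut.conj (wv T.el v) * (MulAut.conj (wv T.el (r ++ w0)) * σ)) := by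
  rw [usOK, Bool.and_eq_true] at h1
  have e := h.weq h1.2
  rw [T.wv_append, T.wv_append, T.wv_append v, T.wv_reverse (h.dat ▸ h1.1), ← T.map_wv hσ] at e
  refine ⟨x, hx, isConj_iff.2 ⟨MulAut.conj (wv T.el u), ?_⟩⟩
  rw [← e, ← map_inv, mul_assoc, mul_assoc, mul_assoc, mul_conj σ, map_inv σ]
  simp only [map_mul, mul_assoc]

theorem out_case {r : List ℕ} {π : Equiv.Perm (Fin 27)} {t : MulAut G}
    (e : MulAut.conj (wv T.el (r ++ w0)) * σ = t) (hw : K22.okW (r ++ w0) = true)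
    (hr : (t, π) ∈ blkRel (T.blk bm 27)) (ha : t (T.el 1) = T.el 1) (hc : t (T.el 3) = T.el 3)
    {dl : List ((List ℕ × List ℕ × Pt) × ℕ)} (h4 : dl.length = 4)
    (hi : indOK K22 [([], 1), ([], 3)] (dl.map Prod.fst) = true) (hd : dlOK r dl = true)
    (hu : ∀ v ∈ [[], [1], [3], [1, 3]], Tgt T σ (MulAut.conj (wv T.el v) * t)) {q : G}
    (hq : q ∈ E10 T) (h2 : q * t q = 1) : Tgt T σ (MulAut.conj q * t) := by
  have := h.finite
  have h1 := (hu [] (by simp)).sq h hσ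
  rw [s0_eq] at h1
  have hE : ∀ e ∈ E10 T, t e ∈ E10 T := fun e he => by
    refine mem_E10 h (by simpa [ha, hc] using (mem_cent.1 (E10_le h he)).map t) ?_
    have := mul_mem (mul_mem hr (show (MulAut.conj e, 1) ∈ blkRel _ from E10_rl h he)) (inv_mem hr)
    simp only [Prod.mk_mul_mk, Prod.inv_mk, mul_one, mul_inv_cancel] at this
    rwa [mul_conj, mul_inv_cancel_right] at this
  have hz : T.el 1 * T.el 3 ∈ closure {T.el 1, T.el 3} :=
    mul_mem (subset_closure (by simp)) (subset_closure (by simp))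
  have hV : closure {T.el 1, T.el 3} ≤ E10 T := by
    have h3 : T.el 1 ∈ E10 T := mem_sup_right (subset_closure rfl)
    rw [closure_le, Set.pair_subset_iff]
    exact ⟨h3, by simpa using mul_mem (inv_mem h3) (E10_c2 h).mem⟩
  have hl : ∀ x ∈ (dl.map Prod.fst).map (fun s => wv T.el s.1), ∃ e ∈ E10 T, e * t e = x :=
    List.forall_mem_map.2 (List.forall_mem_map.2 fun s hs => ⟨_, lw_mem s.2, by
      rw [← h.weq (List.all_eq_true.1 hd s hs), T.wv_append, T.wv_tauW hσ (h.dat ▸ hw), e]⟩)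
  obtain ⟨u, -, h5⟩ := (E10_c2 h).h90 (N := TW (closure {T.el 1, T.el 3})
    ((dl.map Prod.fst).map fun s => wv T.el s.1)) hz hV t.toMonoidHom hE
    (fun v hv => (closure_le (K := (closure {T.el 1, T.el 3}).comap t.toMonoidHom)).2 (by
      rw [Set.pair_subset_iff]
      exact ⟨subset_closure (Or.inl ha), subset_closure (Or.inr hc)⟩) hv)
    (fun x => DFunLike.congr_fun h1 x)
    (fun K h5 h6 => TW_le h5 fun x hx => let ⟨e, h7, h8⟩ := hl x hx; h8 ▸ h6 e h7) (by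
      rw [(E10_c2 h).card_TW hz hV (fun x hx => let ⟨e, h7, h8⟩ := hl x hx; h8 ▸ mul_mem h7 (hE e h7))
        (T.ind_of_ok h.gen h.lm (fun g hg v hv => (mem_cent.1 ((closure_le (K := centralizer {g})).2 (by
          rw [Set.pair_subset_iff]
          simp only [List.forall_mem_cons, T.val_letter] at hg
          exact ⟨mem_cent.2 hg.1.symm, mem_cent.2 hg.2.1.symm⟩) hv)).symm) (h.dat ▸ hi)),
        card_E10 h, card_V h, List.length_map, List.length_map, h4]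
      decide) hq (h2 ▸ one_mem _)
  obtain ⟨w, h6, h7⟩ := mem_V h h5
  refine Tgt.conj (isConj_iff.2 ⟨MulAut.conj u⁻¹, ?_⟩) (hu w h6)
  rw [← h7, ← map_inv, inv_inv, mul_assoc, mul_assoc, mul_conj t]
  simp only [map_mul, mul_assoc]
  rfl

theorem cls_rep (hI : (Inn G).index = 2) {t : MulAut G} (h1 : t * t = 1) (ho : t ∉ Inn G)
    (ha : t (T.el 1) = T.el 1) (hc : t (T.el 3) = T.el 3) {p : List ℕ × ℕ} (hp : p ∈ inn ++ out)
    {π : Equiv.Perm (Fin 27)} (hπ : E.pk π = p.2) (hr : (t, π) ∈ blkRel (T.blk bm 27)) :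
    Tgt T σ t := by
  have k := List.all_eq_true.1 rep_ok p hp
  rw [Bool.and_eq_true, blkC_eq] at k
  have hz : Commute (wv T.el p.1) (T.el 1 * T.el 3) := wv_two (T := T) 1 3 ▸ h.wcm k.1
  have e : MulAut.conj (wv T.el (p.1 ++ w0)) * σ = MulAut.conj (wv T.el p.1) * sA T σ := by
    rw [T.wv_append, map_mul, mul_assoc, sA]
  have h2 := mul_mem (T.mem_blkRel (h.dat ▸ k.2) (π := π) fun j => hπ ▸ E.app_pk π j) (sA_rl h hσ)
  rw [Prod.mk_mul_mk, mul_one] at h2
  obtain ⟨q, hq⟩ : t * (MulAut.conj (wv T.el p.1) * sA T σ)⁻¹ ∈ Inn G := by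
    rw [mul_mem_iff_of_index_two hI, inv_mem_iff, ← e]
    exact iff_of_false ho (out_w h hσ _)
  have h3 := mul_mem hr (inv_mem h2)
  rw [Prod.inv_mk, Prod.mk_mul_mk, mul_inv_cancel, ← hq] at h3
  obtain rfl := eq_mul_of_mul_inv_eq hq.symm
  have h4 : q ∈ E10 T := mem_E10 h (cj_eq_self_iff.1 (by
    have := congrArg₂ (· * ·) ha hc
    rw [← map_mul, MulAut.mul_apply, MulAut.mul_apply, sA_z h hσ] at this
    exact (congrArg (cj q) (cj_of_commute hz)).symm.trans this)) h3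
  rcases List.mem_append.1 hp with hp | hp
  · have h5 := T.commute_of_fixOK (h.dat ▸ List.all_eq_true.1 inn_ok p hp) _ List.mem_cons_self _
      List.mem_cons_self
    rw [T.val_letter] at h5
    rw [MulAut.mul_apply, MulAut.mul_apply, sA_c h hσ] at hc
    refine absurd (hc.symm.trans ((congrArg (cj q) (cj_of_commute ?_)).trans
      (cj_of_commute (a_E10 h h4)))) h.nb4.1.1.2.1
    exact commute_of_mul ((ac h).eq ▸ hz) h5
  have k2 := List.all_eq_true.1 out_fix p hp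
  simp only [Bool.and_eq_true] at k2
  have h5 := T.mem_Fx_of_fixP hσ (h.dat ▸ k2.1.2)
  have h6 := T.mem_Fx_of_fixP hσ (h.dat ▸ k2.2)
  rw [T.val_letter, e] at h5 h6
  have h7 : ∀ dl : List ((List ℕ × List ℕ × Pt) × ℕ), dl.length = 4 →
      indOK K22 [([], 1), ([], 3)] (dl.map Prod.fst) = true → dlOK p.1 dl = true →
      (∀ v ∈ [[], [1], [3], [1, 3]], Tgt T σ (MulAut.conj (wv T.el v) *
        (MulAut.conj (wv T.el (p.1 ++ w0)) * σ))) → Tgt T σ _ := fun dl a1 a2 a3 a4 => by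
    rw [e] at a4
    have h8 := (a4 [] (by simp)).sq h hσ
    rw [s0_eq] at h8
    rw [tw_sq h8, ← map_one MulAut.conj] at h1
    exact out_case h hσ e k2.1.1 h2 h5 h6 a1 a2 a3 a4 h4 (conj_inj T h1)
  have h8 : p.1 = r0 ∨ p.1 = r1 := by
    rcases List.mem_pair.1 hp with rfl | rfl
    exacts [Or.inl rfl, Or.inr rfl]
  rcases h8 with h8 | h8 <;> rw [h8] at h7 ⊢
  · refine h7 dl0 rfl ind0 dlok0 ?_
    simp only [List.forall_mem_cons]
    exact ⟨us_conj h hσ us00 (by simp), us_conj h hσ us01 (by simp), us_conj h hσ us02 (by simp),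
      us_conj h hσ us03 (by simp), by simp⟩
  · refine h7 dl1 rfl ind1 dlok1 ?_
    simp only [List.forall_mem_cons]
    exact ⟨us_conj h hσ us10 (by simp), us_conj h hσ us11 (by simp), us_conj h hσ us12 (by simp),
      us_conj h hσ us13 (by simp), by simp⟩

theorem cls_all (hI : (Inn G).index = 2) {t : MulAut G} (h1 : t * t = 1) (ho : t ∉ Inn G) :
    Tgt T σ t := by
  have cjg : ∀ (g : G) {t : MulAut G}, t * t = 1 → t ∉ Inn G →
      (MulAut.conj g * t * (MulAut.conj g)⁻¹) * (MulAut.conj g * t * (MulAut.conj g)⁻¹) = 1 ∧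
        MulAut.conj g * t * (MulAut.conj g)⁻¹ ∉ Inn G ∧
        ∀ x, t x = x → (MulAut.conj g * t * (MulAut.conj g)⁻¹) (cj g x) = cj g x :=
    fun g t h1 ho => ⟨by rw [conj_mul, h1, mul_one, mul_inv_cancel],
      fun h2 => ho ((innNormal G).mem_comm h2 |>.imp fun _ e => by simpa using e),
      fun x e => by simp [cj, mul_assoc, e]⟩
  obtain ⟨a, ha, b, hb, e1, e2⟩ := fix_pair h h1
  obtain ⟨g, e3, e4⟩ := h.tr_pair ha hb
  obtain ⟨h2, h3, h4⟩ := cjg g h1 ho
  refine Tgt.conj (isConj_iff.2 ⟨MulAut.conj g, rfl⟩) ?_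
  have h5 := e3 ▸ h4 a e1
  have h6 := e4 ▸ h4 b e2
  generalize MulAut.conj g * t * (MulAut.conj g)⁻¹ = s at h2 h3 h5 h6
  obtain ⟨k, hk⟩ : s * (sA T σ)⁻¹ ∈ Inn G := by
    rw [mul_mem_iff_of_index_two hI, inv_mem_iff]
    exact iff_of_false h3 (out_w h hσ _)
  have hs := eq_mul_of_mul_inv_eq hk.symm
  obtain ⟨ψ, p1, -, p2⟩ := psiR h
  have hz : Commute k (T.el 1 * T.el 3) := cj_eq_self_iff.1 (by
    have := congrArg₂ (· * ·) h5 h6
    rwa [← map_mul, hs, MulAut.mul_apply, sA_z h hσ] at this)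
  have h7 := mul_mem (show (MulAut.conj k, (ψ ⟨k, mem_cent.2 hz⟩).1) ∈ blkRel (T.blk bm 27) from
    p2 ⟨k, mem_cent.2 hz⟩) (sA_rl h hσ)
  rw [Prod.mk_mul_mk, mul_one, ← hs] at h7
  obtain ⟨c, hc, u, hu, e5⟩ := classes.conj _ (ψ ⟨k, mem_cent.2 hz⟩).2
  obtain ⟨m, hm⟩ := p1 ⟨u, hu⟩⁻¹
  have h8 : (MulAut.conj m.1, u⁻¹) ∈ blkRel (T.blk bm 27) := by have := p2 m; rwa [hm] at this
  have h9 := mul_mem (mul_mem h8 h7) (inv_mem h8)
  simp only [← e5, Prod.inv_mk, Prod.mk_mul_mk] at h9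
  rw [show u⁻¹ * (u * E.perm c.X * u⁻¹) * u⁻¹⁻¹ = E.perm c.X by group] at h9
  obtain ⟨k1, k2, k3⟩ := cjg m h2 h3
  have k4 := mul_mem h9 h9
  rw [Prod.mk_mul_mk, k1] at k4
  have k5 := congrArg E.pk (blkRel_one (T.blk_inj (h.dat ▸ dist)) _ k4)
  rw [E.pk_mul, E.pk_one, classes.pk_perm hc] at k5
  have k6 := List.all_eq_true.1 cl_two c hc
  rw [k5, Nat.beq_refl, Bool.not_true, Bool.false_or, List.any_eq_true] at k6
  obtain ⟨p, hp, k6⟩ := k6
  have k7 : ∀ x ∈ D, ∀ y ∈ nb D x, x * y = T.el 1 * T.el 3 →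
      (MulAut.conj m.1 * s * (MulAut.conj m.1)⁻¹) x = x := fun x hx y hy e => by
    rw [← cj_cj_inv m.1 x]
    refine k3 _ ?_
    rcases h.pair_eq (h.el_mem le_rfl (by decide)) h.nb4.1.1 (T.conj_mem m.1⁻¹ hx)
      ((cj_mem_nb_iff T _ _ _).2 hy) (by
        rw [← cj_mul_cj, e, cj_of_commute (mem_cent.1 m.2).inv_left]) with e | e <;> rw [e]
    exacts [h5, h6]
  have k8 : E.pk (E.perm c.X) = p.2 := (classes.pk_perm hc).trans (Nat.eq_of_beq_eq_true k6).symm
  exact Tgt.conj (isConj_iff.2 ⟨_, rfl⟩) (cls_rep h hσ hI k1 k2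
    (k7 _ (h.el_mem le_rfl (by decide)) _ h.nb4.1.1 rfl)
    (k7 _ h.nb4.1.1.1 _ (mem_nb_symm (h.el_mem le_rfl (by decide)) h.nb4.1.1) (ac h).eq.symm) hp k8 h9)

end Cfsg.Agent.H96.O22
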