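/-
From an element of order three acting on `2^2 × 2^{1+8}` to the data `S8`.
-/
import Cfsg.Agent.H96.PaM

set_option autoImplicit false
set_option linter.unusedSimpArgs false
set_option linter.unusedSectionVars false
set_option linter.unusedVariables false

namespace Cfsg.Agent.H96.Par

open Subgroup H4.GF H4.GF.M43 H4.GF.M43.QVx H15 H97 H29

universe u

variable {G : Type u} [Group G] [Finite G] {J Z : Subgroup G} {z c : G} {Γ : Type*} [Group Γ]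
  {ρ : G → Γ} {A : Type*} [Group A] {φ : Γ →* A} {I : Subgroup A}

theorem zp3 {M : Type*} [Group M] {c a : M} (h : c * c * c = 1) (ha : a ∈ zpowers c) :
    a = 1 ∨ a = c ∨ a = c * c := by
  obtain ⟨k, rfl⟩ := ha
  have : c ^ (3 : ℤ) = 1 := by rw [← h, zpow_ofNat, pow_three']
  change c ^ k = 1 ∨ c ^ k = c ∨ c ^ k = c * c
  rw [zpow_eq_zpow_emod k this]
  rcases (show k % 3 = 0 ∨ k % 3 = 1 ∨ k % 3 = 2 by omega) with e | e | e <;> rw [e] <;> simp [zpow_two, pow_two]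

theorem two3 {M : Type*} [Group M] {c p : M} (h : c * c * c = 1) (e : p = 1 ∨ p = c ∨ p = c * c)
    {k : ℕ} (hk : p ^ 2 ^ k = 1) : p = 1 := by
  have : p ^ 3 = 1 := by
    rcases e with rfl | rfl | rfl
    · exact one_pow 3
    · rw [pow_three', h]
    · rw [(Commute.refl c).mul_pow, pow_three', h, one_mul]
  simpa [Nat.Coprime.gcd_eq_one (Nat.Coprime.pow_right k (show Nat.Coprime 3 2 by decide))]
    using pow_gcd_eq_one.2 ⟨this, hk⟩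

/-- an element of order three, normal modulo `J` -/
structure C3 (J Z : Subgroup G) (z c : G) (ρ : G → Γ) (φ : Γ →* A) (I : Subgroup A) : Prop where
  Y : LY J Z z ρ
  c8 : Nat.card Z = 8
  cz : Commute c z
  c3 : c * c * c = 1
  fx : ∀ x ∈ J, Commute c x → x = 1 ∨ x = z
  sur : Function.Surjective φ
  kc : φ (ρ c) = 1
  ker : ∀ γ, φ γ = 1 → γ = 1 ∨ γ = ρ c ∨ γ = ρ c * ρ c
  D : GD I
  idx : I.index = 2
  out : ∃ g, Commute g z ∧ ∀ k, Commute k z → Commute k c → φ (ρ g) ≠ φ (ρ k)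

namespace C3

variable (C : C3 J Z z c ρ φ I)
include C

theorem ccc (t : G) : cj c (cj c (cj c t)) = t := by
  rw [cj_cj, cj_cj, C.c3]; simp [cj]

theorem r3 : ρ c * ρ c * ρ c = 1 := by
  rw [← C.Y.ρ_mul _ _ C.cz C.cz, ← C.Y.ρ_mul _ _ (C.cz.mul_left C.cz) C.cz, C.c3, C.Y.ρ_one]

theorem act {g h t : G} (hg : Commute g z) (hh : Commute h z) (e : ρ g = ρ h) (ht : t ∈ Z) :
    cj g t = cj h t := by
  rw [← inv_mul_cancel_right g h, ← cj_cj,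
    cj_eq.2 (C.Y.cen (C.Y.normZ hh ht) ((C.Y.ρ_eq hg hh).1 e)).symm]

theorem fpf {U : Type u} [AddCommGroup U] [Module (ZMod 2) U] [DistribMulAction Γ U] {p : G → U}
    (M : MQ J (zpowers z) z ρ p) (v : U) (h : ρ c • v = v) : v = 0 := by
  obtain ⟨a, ha, rfl⟩ := M.surj v
  rw [M.π_zero a ha, mem_zpowers_two C.Y.sq]
  rcases (mem_zpowers_two C.Y.sq).1 ((M.fix_iff C.Y C.cz ha).1 h) with e | e
  · exact C.fx a ha (cj_eq.1 (mul_inv_eq_one.1 e))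
  · have := C.ccc a
    simp only [mul_inv_eq_iff_eq_mul.1 e, cj_mul, cj_eq.2 C.cz, C.Y.zz] at this
    exact absurd (mul_eq_right.1 this) C.Y.ne

theorem nrm {a : G} (ha : a ∈ J) : a * cj c a * cj c (cj c a) ∈ zpowers z := by
  obtain ⟨U, _, _, _, p, M⟩ := C.Y.exists_U
  have a1 := C.Y.norm c C.cz a ha
  have a2 := C.Y.norm c C.cz _ a1
  have e : ∀ a ∈ J, p (cj c a) = ρ c • p a := fun a ha => (M.act c C.cz a ha).symm
  rw [← M.π_zero _ (J.mul_mem (J.mul_mem ha a1) a2), M.π_mul _ (J.mul_mem ha a1) _ a2,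
    M.π_mul _ ha _ a1]
  refine C.fpf M _ ?_
  rw [smul_add, smul_add, ← e _ ha, ← e _ a1, ← e _ a2, C.ccc]
  abel

theorem om {V : Type u} [AddCommGroup V] [Module (ZMod 2) V] [DistribMulAction Γ V] {π : G → V}
    (M : MQ J Z z ρ π) (v : V) : ρ c • ρ c • v = v + ρ c • v := by
  obtain ⟨a, ha, rfl⟩ := M.surj v
  have a1 := C.Y.norm c C.cz a ha
  have a2 := C.Y.norm c C.cz _ a1
  have := (M.π_zero _ (J.mul_mem (J.mul_mem ha a1) a2)).2 (zpowers_le.2 C.Y.mem (C.nrm ha))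
  rw [M.π_mul _ (J.mul_mem ha a1) _ a2, M.π_mul _ ha _ a1, add_eq_zero2] at this
  rw [M.act c C.cz a ha, M.act c C.cz _ a1, this]

theorem lift {g : G} (hg : Commute g z) (h : ρ c * ρ g = ρ g * ρ c) :
    ∃ k, Commute k z ∧ Commute k c ∧ ρ k = ρ g := by
  obtain ⟨U, _, _, _, p, M⟩ := C.Y.exists_U
  have : Finite U := Nat.finite_of_card_ne_zero fun e => by
    have := M.card
    rw [e, zero_mul] at this
    exact Nat.card_pos.ne' this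
  have m := (C.Y.ρ_eq (cm_cj hg C.cz) C.cz).1 (by rw [C.Y.ρ_cj hg C.cz, cj_eq.2 h.symm])
  obtain ⟨v, hv⟩ := Finite.surjective_of_injective (f := fun v : U => v + ρ c • v) (fun u v e => by
    refine add_eq_zero2.1 (C.fpf M _ ?_)
    rw [smul_add, ← add_eq_zero2, add_add_add_comm, add_comm _ v, add_comm _ u]
    exact add_eq_zero2.2 e) (p (cj g c * c⁻¹))
  obtain ⟨j, hj, rfl⟩ := M.surj v
  have j1 := C.Y.norm c C.cz _ (J.inv_mem hj)
  have e : j * cj c j⁻¹ * (cj g c * c⁻¹)⁻¹ = cj j c * (cj g c)⁻¹ := by simp [cj, mul_assoc]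
  have := (M.π_eq (J.mul_mem hj j1) m).1 (by
    rw [M.π_mul _ hj _ j1, ← M.act c C.cz _ (J.inv_mem hj), M.π_inv hj]; exact hv)
  have jz := C.Y.cz hj
  rcases (mem_zpowers_two C.Y.sq).1 (e ▸ this) with f | f
  · refine ⟨j⁻¹ * g, jz.inv_left.mul_left hg, cj_eq.1 ?_, ?_⟩
    · rw [← cj_cj, ← mul_inv_eq_one.1 f, cj_inv]
    · rw [C.Y.ρ_mul _ _ jz.inv_left hg, C.Y.ρ_J (J.inv_mem hj), one_mul]
  · have q : ∀ g, cj g c ^ 3 = 1 := fun g => by rw [pow_three', ← cj_mul, ← cj_mul, C.c3, cj_one]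
    have := q j
    rw [mul_inv_eq_iff_eq_mul.1 f, (cm_cj hg C.cz).symm.mul_pow, q, pow_three, C.Y.sq, mul_one,
      mul_one] at this
    exact absurd this C.Y.ne

theorem nc : ¬ ∀ t ∈ Z, Commute c t := fun h => by
  have := card_le_of_le (show Z ≤ zpowers z from fun t ht =>
    (mem_zpowers_two C.Y.sq).2 (C.fx t (C.Y.ZJ ht) (h t ht)))
  rw [C.c8, Nat.card_zpowers, orderOf_two C.Y.ne C.Y.sq] at this
  omega

theorem cmZ {s t : G} (hs : s ∈ Z) (ht : t ∈ Z) : Commute s t := C.Y.cen hs (C.Y.ZJ ht)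

/-- the four-group `[Z, c]` -/
def F : Subgroup G where
  carrier := {w | ∃ t ∈ Z, cj c t * t = w}
  one_mem' := ⟨1, Z.one_mem, by simp [cj]⟩
  mul_mem' := by
    rintro _ _ ⟨t, ht, rfl⟩ ⟨u, hu, rfl⟩
    exact ⟨t * u, Z.mul_mem ht hu, by
      rw [cj_mul, (C.cmZ (C.Y.normZ C.cz hu) ht).mul_mul_mul_comm]⟩
  inv_mem' := by
    rintro _ ⟨t, ht, rfl⟩
    exact ⟨t, ht, (C.Y.inv_Z (Z.mul_mem (C.Y.normZ C.cz ht) ht)).symm⟩

theorem FZ : C.F ≤ Z := by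
  rintro _ ⟨t, ht, rfl⟩
  exact Z.mul_mem (C.Y.normZ C.cz ht) ht

theorem zF : z ∉ C.F := by
  rintro ⟨t, ht, e⟩
  have e : cj c t = z * t := by rw [← e, mul_assoc, C.Y.Zsq t ht, mul_one]
  have := C.ccc t
  simp only [e, cj_mul, cj_eq.2 C.cz, C.Y.zz] at this
  exact C.Y.ne (mul_eq_right.1 this)

theorem ZF (t : G) (ht : t ∈ Z) : t ∈ C.F ∨ z * t ∈ C.F := by
  have t1 := C.Y.normZ C.cz ht
  have m : cj c (cj c t) * cj c t ∈ C.F := ⟨_, t1, rfl⟩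
  have := C.nrm (C.Y.ZJ ht)
  rw [mul_assoc, (C.cmZ t1 (C.Y.normZ C.cz t1)).eq, mem_zpowers_two C.Y.sq] at this
  refine this.imp (fun e => ?_) fun e => ?_
  · rw [eq_inv_of_mul_eq_one_left e]; exact inv_mem m
  · rwa [← one_mul (_ * _), ← C.Y.Zsq t ht, mul_assoc, e, (C.cmZ ht C.Y.mem).eq] at m

theorem f4 : Four C.F := ⟨by
  have := (C.F.subgroupOf Z).card_mul_index
  rw [(index_eq_two_iff_exists_notMem_and' (H := C.F.subgroupOf Z)).2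
    ⟨⟨z, C.Y.mem⟩, C.zF, fun t => (C.ZF t t.2).symm⟩, Nat.card_congr (subgroupOfEquivOfLe C.FZ).toEquiv, C.c8] at this
  omega, fun t ht => C.Y.Zsq t (C.FZ ht)⟩

theorem nF (h : G) (hh : Commute h z) (w : G) : w ∈ C.F → cj h w ∈ C.F := by
  rintro ⟨t, ht, rfl⟩
  have u := C.Y.normZ hh ht
  have hc := cm_cj hh C.cz
  rw [cj_mul, ← cj_sw]
  rcases C.ker (ρ (cj h c)) (by rw [C.Y.ρ_cj hh C.cz, map_mul, map_mul, C.kc, mul_one, map_inv,
    mul_inv_cancel]) with e | e | e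
  · rw [C.act hc (Commute.one_left z) (e.trans C.Y.ρ_one.symm) u, cj_eq.2 (Commute.one_left _),
      C.Y.Zsq _ u]
    exact one_mem _
  · exact C.act hc C.cz e u ▸ ⟨_, u, rfl⟩
  · have u1 := C.Y.normZ C.cz u
    have := C.F.mul_mem ⟨_, u1, rfl⟩ ⟨_, u, rfl⟩
    rwa [mul_assoc (cj c _), ← mul_assoc (cj c (cj h t)), C.Y.Zsq _ u1, one_mul, cj_cj,
      ← C.act hc (C.cz.mul_left C.cz) (e.trans (C.Y.ρ_mul _ _ C.cz C.cz).symm) u] at this

theorem mv {s : G} (hs : s ∈ C.F) (s1 : s ≠ 1) : cj c s ≠ s := fun e =>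
  (C.fx s (C.Y.ZJ (C.FZ hs)) (cj_eq.1 e)).elim s1 fun e => C.zF (e ▸ hs)

theorem tr {s t : G} (hs : s ∈ C.F) (s1 : s ≠ 1) (ht : t ∈ C.F) (t1 : t ≠ 1) :
    ∃ h, Commute h z ∧ φ (ρ h) = 1 ∧ cj h s = t := by
  have h1 := C.nF c C.cz s hs
  have n1 : cj c s ≠ 1 := fun e => s1 (cj_eq_one.1 e)
  rcases C.f4.four hs s1 h1 n1 (C.mv hs s1) ht with e | rfl | rfl | rfl
  · exact absurd e t1
  · exact ⟨1, Commute.one_left z, by rw [C.Y.ρ_one, map_one], cj_eq.2 (Commute.one_left _)⟩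
  · exact ⟨c, C.cz, C.kc, rfl⟩
  refine ⟨c * c, C.cz.mul_left C.cz, by rw [C.Y.ρ_mul _ _ C.cz C.cz, map_mul, C.kc, one_mul], ?_⟩
  rw [← cj_cj]
  rcases C.f4.four hs s1 h1 n1 (C.mv hs s1) (C.nF c C.cz _ h1) with e | e | e | e
  exacts [absurd (cj_eq_one.1 e) n1, absurd ((congrArg (cj c) e).symm.trans (C.ccc s)) (C.mv hs s1),
    absurd e (C.mv h1 n1), e]

theorem adj {s g : G} (hs : s ∈ C.F) (s1 : s ≠ 1) (hg : Commute g z) :
    ∃ h, Commute h z ∧ Commute h s ∧ φ (ρ h) = φ (ρ g) := by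
  obtain ⟨k, hk, e, f⟩ := C.tr (C.nF g hg s hs) (fun e => s1 (cj_eq_one.1 e)) hs s1
  exact ⟨k * g, hk.mul_left hg, cj_eq.1 (cj_cj k g s ▸ f), by
    rw [C.Y.ρ_mul _ _ hk hg, map_mul, e, one_mul]⟩

theorem cF {h : G} (hh : Commute h z) (e : ∀ t ∈ C.F, Commute h t) (t : G) (ht : t ∈ Z) :
    Commute h t :=
  (C.ZF t ht).elim (e t) fun m => C.Y.zz t ▸ hh.mul_right (e _ m)

/-- the image of `C(Z)` -/
def L : Subgroup Γ := ((centralizer (Z : Set G)).subgroupOf _).map C.Y.hom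

theorem mL {γ : Γ} : γ ∈ C.L ↔ ∃ k, (∀ t ∈ Z, Commute k t) ∧ ρ k = γ :=
  ⟨fun ⟨k, hk, e⟩ => ⟨k, fun t ht => (hk t ht).symm, e⟩, fun ⟨k, hk, e⟩ =>
    ⟨⟨k, mem_cen.2 (hk z C.Y.mem)⟩, fun t ht => (hk t ht).symm, e⟩⟩

theorem KZ (g : G) (hg : Commute g z) (h : ρ g ∈ C.L) (t : G) (ht : t ∈ Z) : Commute g t := by
  obtain ⟨k, hk, e⟩ := C.mL.1 h
  exact cj_eq.1 ((C.act hg (hk z C.Y.mem) e.symm ht).trans (cj_eq.2 (hk t ht)))

theorem nl : C.L.Normal := ⟨fun l hl γ => by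
  obtain ⟨k, hk, rfl⟩ := C.mL.1 hl
  obtain ⟨g, hg, rfl⟩ := C.Y.ρ_surj γ
  refine C.mL.2 ⟨cj g k, fun t ht => ?_, C.Y.ρ_cj hg (hk z C.Y.mem)⟩
  rw [← cj_inv' g t, cj_comm]
  exact hk _ (C.Y.normZ hg.inv_left ht)⟩

theorem c4 {M : Type*} [Group M] {c : M} (h : c * c * c = 1) : c * c * (c * c) = c := by
  rw [← mul_assoc, h, one_mul]

theorem dj {l : Γ} (hl : l ∈ C.L) (e : φ l = 1) : l = 1 := by
  have n : ρ c ∉ C.L := fun m => C.nc (C.KZ c C.cz m)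
  rcases C.ker l e with rfl | rfl | rfl
  exacts [rfl, absurd hl n, absurd (C.c4 C.r3 ▸ C.L.mul_mem hl hl) n]

theorem cL (l : Γ) (hl : l ∈ C.L) : ρ c * l = l * ρ c :=
  commute_of_normal_of_disjoint φ.ker C.L inferInstance C.nl
    (disjoint_def.2 fun h1 h2 => C.dj h2 h1) _ l C.kc hl

theorem outL {g : G} (h : ∀ k, Commute k z → Commute k c → φ (ρ g) ≠ φ (ρ k)) :
    φ (ρ g) ∉ C.L.map φ := by
  rintro ⟨l, hl, e⟩
  obtain ⟨k, hk, rfl⟩ := C.Y.ρ_surj l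
  obtain ⟨k, h1, h2, f⟩ := C.lift hk (C.cL _ hl)
  exact h k h1 h2 (f ▸ e.symm)

theorem eqI : C.L.map φ = I := by
  have n := C.nl.map φ C.sur
  obtain ⟨s, hs, s1, -⟩ := C.f4.ex (one_mem _)
  have sq : ∀ a, a * a ∈ C.L.map φ := fun a => by
    obtain ⟨γ, rfl⟩ := C.sur a
    obtain ⟨g, hg, rfl⟩ := C.Y.ρ_surj γ
    obtain ⟨h, hh, c1, e⟩ := C.adj hs s1 hg
    refine ⟨ρ (h * h), C.mL.2 ⟨_, C.cF (hh.mul_left hh) fun t ht => ?_, rfl⟩, by
      rw [C.Y.ρ_mul _ _ hh hh, map_mul, e]⟩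
    by_cases k : Commute h t
    exacts [k.mul_left k, C.f4.mul4 (C.nF h hh) (C.nF h hh) hs s1 c1 c1 ht k ht k ht]
  have le : I ≤ C.L.map φ := (C.D.le_or _ fun l _ p hp => n.conj_mem p hp l).resolve_right fun h => by
    obtain ⟨τ, T⟩ := exists_TD I C.D.e.some
    exact T.ne e1 (fr_ne 0) (by
      simpa [h _ (I.mul_mem (T.mem e1) (T.mem e1)) (sq _)] using T.cube e1)
  refine le_antisymm (fun a ha => by_contra fun n => ?_) le
  obtain ⟨g, -, hg⟩ := C.out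
  refine C.outL hg ((em _).elim (@le _) fun m => (mul_mem_cancel_right ha).1 (le ?_))
  exact (mul_mem_iff_of_index_two C.idx).2 (iff_of_false m n)

theorem gd : GD C.L := ⟨C.nl, fun P hP hn => (eq_bot_iff_forall _).2 fun p hp => by
    have := C.D.o2 (P.map φ) (hP.map φ) (by
      rw [← C.eqI]
      rintro _ ⟨l, hl, rfl⟩ _ ⟨p, hp, rfl⟩
      exact ⟨_, hn l hl p hp, by simp [cj]⟩)
    obtain ⟨k, hk⟩ := hP ⟨p, hp⟩
    exact two3 C.r3 (C.ker p (mem_bot.1 (this ▸ mem_map_of_mem φ hp))) (congrArg Subtype.val hk),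
  ⟨((MonoidHom.ofInjective (f := φ.comp C.L.subtype) ((injective_iff_map_eq_one _).2 fun l e =>
    Subtype.ext (C.dj l.2 e))).trans (MulEquiv.subgroupCongr (by
      rw [MonoidHom.range_comp, range_subtype, C.eqI]))).trans C.D.e.some⟩⟩

theorem hC (g : G) (hg : Commute g z) (h : ∀ l ∈ C.L, Commute (ρ g) l)
    (t : ∀ a ∈ J, cj g a * a⁻¹ ∈ Z) : g ∈ J := by
  obtain ⟨V, _, _, _, π, M⟩ := C.Y.exists_MQ C.Y.ZJ C.Y.mem fun _ hg _ ha => C.Y.normZ hg ha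
  have f : ∀ v : V, ρ g • v = v := fun v => by
    obtain ⟨a, ha, rfl⟩ := M.surj v
    exact (M.fix_iff C.Y hg ha).2 (t a ha)
  have n : ¬ ∀ v : V, ρ c • v = v := fun e => by
    obtain ⟨a, ha, b, hb, ab⟩ := C.Y.ex_nc
    have := C.om M (π b)
    rw [e, e, aa, M.π_zero b hb] at this
    exact C.Y.ne (mul_eq_right.1 (ab.symm.trans (cj_eq.2 (C.Y.cen this ha).symm)))
  rcases C.ker (ρ g) (C.D.cen1 (fun a b ha hb => (mul_mem_iff_of_index_two C.idx).2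
    (iff_of_false ha hb)) fun l hl => by
      obtain ⟨l, m, rfl⟩ := C.eqI.ge hl
      exact (h l m).map φ) with e | e | e
  · exact (C.Y.ρ_ker g hg).1 e
  · exact absurd (e ▸ f) n
  · exact absurd (fun v => by rw [← C.c4 C.r3, ← e, mul_smul, f, f]) n

theorem core : Iso 1 z ∨ Spor.IsoFi23 G ∨
    ∃ _ : C.F.Normal, Nonempty (G ⧸ C.F ≃* MulAut (PSU 6 F4 2)) := by
  obtain ⟨τ, T⟩ := exists_TD C.L C.gd.e.some
  obtain ⟨V, _, _, _, π, X, S⟩ := C.Y.exists_SD C.gd T C.KZ C.hC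
  obtain ⟨Jc, h, l⟩ := cfc C.gd T X S.cV C.cL (C.om S.M)
  refine S8.core ⟨S, C.gd, h, fun d hd dd e => ?_, C.c8, C.f4, C.FZ, C.zF, C.ZF, C.nF,
    fun s hs s1 t ht t1 => ?_, fun s hs s1 => ?_, fun k hk e => C.mL.2 ⟨k, C.cF hk e, rfl⟩⟩
  · obtain ⟨s, hs, s1, f⟩ := C.f4.fix (isP_inv dd) fun p hp => C.nF p (by
      rcases (mem_zpowers_two dd).1 hp with rfl | rfl
      exacts [Commute.one_left z, hd])
    have f := f d (mem_zpowers d)
    refine C.cF hd fun t ht => C.f4.all hs s1 (C.nF c C.cz s hs) (fun e => s1 (cj_eq_one.1 e))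
      (C.mv hs s1) f (cj_eq.1 ?_) ht
    rw [← cj_sw, cj_eq.2 f]
    exact C.act (cm_cj hd C.cz) C.cz (by rw [C.Y.ρ_cj hd C.cz, cj_eq.2 (l _ e)]) (C.FZ hs)
  · exact (C.tr hs s1 ht t1).imp fun _ h => ⟨h.1, h.2.2⟩
  · obtain ⟨g, hg, o⟩ := C.out
    obtain ⟨k, hk, c1, e⟩ := C.adj hs s1 hg
    refine ⟨k, hk, c1, by_contra fun n => C.outL o (e ▸ mem_map_of_mem φ ?_)⟩
    push Not at n
    exact C.mL.2 ⟨k, C.cF hk n, rfl⟩

end C3

theorem psp_o2 {F : Type*} [Field F] [Fintype F] (hF : Fintype.card F = 3) :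
    Nat.card (PSp 2 F) = 25920 ∧ ∀ N : Subgroup (PSp 2 F), N.Normal → IsPGroup 2 N → N = ⊥ := by
  have : Fact (Nat.Prime 3) := ⟨Nat.prime_three⟩
  have := S0270.result (F := F) 2 le_rfl (fun _ => hF.ge)
  obtain ⟨τ, T⟩ := exists_TD ⊤ (topEquiv.trans (pspEquiv 2 (equivZMod 3 hF)))
  have cS : Nat.card (PSp 2 F) = 25920 := card_top.symm.trans T.card
  refine ⟨cS, fun N n hN => n.eq_bot_or_eq_top.resolve_right fun h => ?_⟩
  obtain ⟨k, hk⟩ := (IsPGroup.iff_card (p := 2)).1 hN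
  rw [h, card_top, cS] at hk
  exact absurd (Nat.prime_three.dvd_of_dvd_pow (hk ▸ (by decide : 3 ∣ 25920))) (by decide)

end Cfsg.Agent.H96.Par
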